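import Groth.Agent.Pi1Alg.Sch
import Mathlib.RingTheory.Ideal.KrullsHeightTheorem
import Groth.Agent.S0250
import Mathlib.RingTheory.Localization.LocalizationLocalization

/-!
# Essential surjectivity of restriction to the punctured divisor
-/

set_option autoImplicit false
set_option linter.unusedSectionVars false
set_option linter.style.haveILetI false
set_option backward.isDefEq.respectTransparency false
set_option backward.isDefEq.respectTransparency.types false
universe u

open CategoryTheory CategoryTheory.Limits AlgebraicGeometry IsLocalRing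

noncomputable section

namespace Groth.Agent.Pi1Alg

section Krull

variable {A : Type u} [CommRing A] [IsNoetherianRing A] [IsLocalRing A]

/-- Primes whose closure meets the divisor only at the closed point are incomparable. -/
theorem eq_of_le_of_forall (f : A) (hf : f ∈ IsLocalRing.maximalIdeal A) (q q' : Ideal A) [q.IsPrime] [q'.IsPrime]
    (h : q ≤ q') (hne : q' ≠ IsLocalRing.maximalIdeal A)
    (hmin : ∀ r : Ideal A, r.IsPrime → q ≤ r → f ∈ r → r = IsLocalRing.maximalIdeal A) : q = q' := by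
  by_contra hqq
  let m := IsLocalRing.maximalIdeal A
  let π := Ideal.Quotient.mk q
  have hπ : Function.Surjective π := Ideal.Quotient.mk_surjective
  have hker : RingHom.ker π = q := Ideal.mk_ker
  have hle' : q' ≤ m := IsLocalRing.le_maximalIdeal (Ideal.IsPrime.ne_top ‹_›)
  haveI : (q'.map π).IsPrime := Ideal.map_isPrime_of_surjective hπ (hker.le.trans h)
  haveI : (m.map π).IsPrime := Ideal.map_isPrime_of_surjective hπ (hker.le.trans (h.trans hle'))
  have hcm : ∀ {p : Ideal A}, q ≤ p → (p.map π).comap π = p := fun {p} hp => by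
    rw [Ideal.comap_map_of_surjective π hπ, ← RingHom.ker_eq_comap_bot, hker, sup_eq_left.2 hp]
  have h1 : m.map π ∈ (Ideal.span {π f}).minimalPrimes := by
    refine ⟨⟨inferInstance, (Ideal.span_singleton_le_iff_mem _).2 (Ideal.mem_map_of_mem _ hf)⟩, fun r ⟨hr, hfr⟩ hrm => ?_⟩
    have hq : q ≤ r.comap π := hker.symm.le.trans (Ideal.comap_mono bot_le)
    have := hmin _ (hr.comap π) hq (show π f ∈ r from (Ideal.span_singleton_le_iff_mem r).1 hfr)
    rw [← Ideal.map_comap_of_surjective π hπ r]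
    exact Ideal.map_mono this.ge
  haveI : IsDomain (A ⧸ q) := Ideal.Quotient.isDomain q
  have h2 : q'.map π < m.map π := lt_of_le_of_ne (Ideal.map_mono hle') fun e => hne (by
    rw [← hcm h, e, hcm (h.trans hle')])
  have h3 : (q'.map π).height ≠ 0 := fun e => hqq (by
    rw [← hcm h, Ideal.height_eq_zero_iff_eq_bot.1 e, ← RingHom.ker_eq_comap_bot, hker])
  have h4 : (m.map π).height ≤ 1 := Ideal.height_le_one_of_isPrincipal_of_mem_minimalPrimes (Ideal.span {π f}) _ h1
  have h5 := Ideal.height_strict_mono_of_isPrime h2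
  have h6 : (q'.map π).height < 1 := lt_of_lt_of_le h5 h4
  exact h3 (ENat.lt_one_iff_eq_zero.1 h6)

end Krull

/-- Restriction is compatible with commutative squares. -/
def restrictSquare {X Y Y' Z : Scheme.{u}} (a : X ⟶ Y) (b : Y ⟶ Z) (c : X ⟶ Y') (d : Y' ⟶ Z) (h : a ≫ b = c ≫ d)
    (W : FEt.Cat Z) : (FEt.restrict a).obj ((FEt.restrict b).obj W) ≅ (FEt.restrict c).obj ((FEt.restrict d).obj W) :=
  have h1 : IsPullback (pullback.fst (pullback.snd W.hom b) a ≫ pullback.fst W.hom b)
      (pullback.snd (pullback.snd W.hom b) a) W.hom (a ≫ b) :=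
    (IsPullback.of_hasPullback (pullback.snd W.hom b) a).paste_horiz (IsPullback.of_hasPullback W.hom b)
  have h2 : IsPullback (pullback.fst (pullback.snd W.hom d) c ≫ pullback.fst W.hom d)
      (pullback.snd (pullback.snd W.hom d) c) W.hom (a ≫ b) := h ▸
    (IsPullback.of_hasPullback (pullback.snd W.hom d) c).paste_horiz (IsPullback.of_hasPullback W.hom d)
  MorphismProperty.Over.isoMk (h1.isoIsPullback _ _ h2) (h1.isoIsPullback_hom_snd _ _ h2)

/-- Restriction along a composite. -/
def restrictComp {X Y Z : Scheme.{u}} (a : X ⟶ Y) (b : Y ⟶ Z) (c : X ⟶ Z) (h : a ≫ b = c) (W : FEt.Cat Z) :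
    (FEt.restrict a).obj ((FEt.restrict b).obj W) ≅ (FEt.restrict c).obj W :=
  have h1 : IsPullback (pullback.fst (pullback.snd W.hom b) a ≫ pullback.fst W.hom b)
      (pullback.snd (pullback.snd W.hom b) a) W.hom c := h ▸
    (IsPullback.of_hasPullback (pullback.snd W.hom b) a).paste_horiz (IsPullback.of_hasPullback W.hom b)
  MorphismProperty.Over.isoMk h1.isoPullback h1.isoPullback_hom_snd

/-- Restriction along the identity. -/
def restrictId {X : Scheme.{u}} (W : FEt.Cat X) : (FEt.restrict (𝟙 X)).obj W ≅ W :=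
  haveI : IsIso (𝟙 X) := IsIso.id X
  haveI : IsIso (𝟙 W.left) := IsIso.id W.left
  have h : IsPullback (𝟙 W.left) W.hom W.hom (𝟙 X) := IsPullback.of_horiz_isIso ⟨by simp⟩
  (MorphismProperty.Over.isoMk h.isoPullback h.isoPullback_hom_snd).symm

theorem purityHolds_of_ringEquiv {R S : Type u} [CommRing R] [IsLocalRing R] [CommRing S] [IsLocalRing S]
    (e : R ≃+* S) (hR : FEt.PurityHolds R) : FEt.PurityHolds S := by
  let E : Spec (CommRingCat.of S) ≅ Spec (CommRingCat.of R) := Scheme.Spec.mapIso e.toCommRingCatIso.op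
  have hrange : Set.range ((FEt.puncturedSpec S).ι ≫ E.hom) = Set.range (FEt.puncturedSpec R).ι := by
    have hcl : E.hom (closedPoint S) = closedPoint R := by
      haveI : IsLocalHom e.toRingHom := ⟨fun a ha => by simpa using ha.map e.symm⟩
      exact IsLocalRing.comap_closedPoint e.toRingHom
    rw [Scheme.Opens.range_ι]
    ext x
    constructor
    · rintro ⟨y, rfl⟩ h
      exact y.2 (E.hom.homeomorph.injective (h.trans hcl.symm))
    · intro hx
      have hinv : E.hom (E.inv x) = x := by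
        rw [← Scheme.Hom.comp_apply, E.inv_hom_id]
        rfl
      exact ⟨⟨E.inv x, fun h => hx (show x = closedPoint R by
        rw [← hinv, show E.inv x = closedPoint S from h, hcl])⟩, hinv⟩
  let w := IsOpenImmersion.isoOfRangeEq ((FEt.puncturedSpec S).ι ≫ E.hom) (FEt.puncturedSpec R).ι hrange
  have hw : w.hom ≫ (FEt.puncturedSpec R).ι = (FEt.puncturedSpec S).ι ≫ E.hom :=
    IsOpenImmersion.isoOfRangeEq_hom_fac _ _ _
  refine ⟨fun V => ?_⟩
  obtain ⟨Y, ⟨eY⟩⟩ := hR.mem_essImage ((FEt.restrict w.inv).obj V)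
  exact ⟨(FEt.restrict E.hom).obj Y, ⟨restrictSquare _ _ _ _ hw.symm Y ≪≫ (FEt.restrict w.hom).mapIso eY ≪≫
    restrictComp _ _ _ w.hom_inv_id V ≪≫ restrictId V⟩⟩

variable {A : Type u} [CommRing A] [IsLocalRing A] [IsNoetherianRing A]

/-- Essential surjectivity, given purity at the maximal ideals off the divisor. -/
theorem restrict_essSurj (f : A) (hf : f ∈ maximalIdeal A)
    [IsAdicComplete (Ideal.span {f}) A] (hnz : f ∈ nonZeroDivisors A)
    (h1 : Module.Finite A (LocCoh.H (maximalIdeal A) 1 (A ⧸ Ideal.span {f})))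
    (h2 : Module.Finite A (LocCoh.H (maximalIdeal A) 2 (A ⧸ Ideal.span {f})))
    (hp : ∀ P : Ideal (Localization.Away f), ∀ _ : P.IsMaximal, FEt.PurityHolds (Localization.AtPrime P)) :
    (FEt.restrict (pullback.fst (FEt.puncturedSpec A).ι
      (Spec.map (CommRingCat.ofHom (Ideal.Quotient.mk (Ideal.span {f})))))).EssSurj := by
  refine ⟨fun V₀ => ?_⟩
  obtain ⟨U', hle, u', hu', V', ⟨e⟩⟩ := exists_extension f hf hnz h1 h2 V₀
  let P := FEt.puncturedSpec A
  haveI : IsNoetherianRing (CommRingCat.of A) := inferInstanceAs (IsNoetherianRing A)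
  haveI : IsNoetherian (P : Scheme.{u}) := by
    haveI : IsLocallyNoetherian (P : Scheme.{u}) := isLocallyNoetherian_of_isOpenImmersion P.ι
    haveI : CompactSpace (P : Scheme.{u}) :=
      isCompact_iff_compactSpace.1 (TopologicalSpace.NoetherianSpace.isCompact _)
    exact ⟨⟩
  let W : (P : Scheme.{u}).Opens := P.ι ⁻¹ᵁ U'
  have hr : Set.range (W.ι ≫ P.ι) = Set.range U'.ι := by
    rw [Scheme.Hom.comp_base, TopCat.coe_comp, Set.range_comp, Scheme.Opens.range_ι, Scheme.Opens.range_ι]
    show P.ι '' (P.ι ⁻¹' (U' : Set (Spec (CommRingCat.of A)))) = _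
    rw [Set.image_preimage_eq_inter_range, Scheme.Opens.range_ι, Set.inter_eq_left.2 hle]
  let w := IsOpenImmersion.isoOfRangeEq (W.ι ≫ P.ι) U'.ι hr
  have hw : w.hom ≫ U'.ι = W.ι ≫ P.ι := IsOpenImmersion.isoOfRangeEq_hom_fac _ _ _
  have hpure : ∀ x : (P : Scheme.{u}), x ∉ W → FEt.PurityHolds ((P : Scheme.{u}).presheaf.stalk x) := by
    intro x hx
    let p : PrimeSpectrum A := P.ι x
    have hxU' : (P.ι x) ∉ U' := hx
    have hdiv : ∀ r : PrimeSpectrum A, f ∈ r.asIdeal → r.asIdeal ≠ maximalIdeal A →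
        (r : Spec (CommRingCat.of A)) ∈ U' := by
      intro r hfr hne
      have hker : RingHom.ker (Ideal.Quotient.mk (Ideal.span {f})) ≤ r.asIdeal := by
        rw [Ideal.mk_ker, Ideal.span_singleton_le_iff_mem]; exact hfr
      let z : Spec (CommRingCat.of (A ⧸ Ideal.span {f})) :=
        ⟨r.asIdeal.map (Ideal.Quotient.mk _), Ideal.map_isPrime_of_surjective Ideal.Quotient.mk_surjective hker⟩
      let q := Spec.map (CommRingCat.ofHom (Ideal.Quotient.mk (Ideal.span {f})))
      have hz : q z = (r : Spec (CommRingCat.of A)) := PrimeSpectrum.ext (by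
        show (r.asIdeal.map (Ideal.Quotient.mk _)).comap (Ideal.Quotient.mk _) = r.asIdeal
        rw [Ideal.comap_map_of_surjective _ Ideal.Quotient.mk_surjective, ← RingHom.ker_eq_comap_bot,
          sup_eq_left.2 hker])
      have hrP : (r : Spec (CommRingCat.of A)) ∈ P := fun h => hne (congrArg PrimeSpectrum.asIdeal h)
      obtain ⟨v, hv, -⟩ := Scheme.Pullback.exists_preimage_pullback (f := P.ι) (g := q) ⟨_, hrP⟩ z hz.symm
      have h3 : U'.ι (u' v) = (r : Spec (CommRingCat.of A)) := by
        rw [← Scheme.Hom.comp_apply, hu', Scheme.Hom.comp_apply, hv]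
        rfl
      rw [← h3]
      exact (u' v).2
    have hpm : p.asIdeal ≠ maximalIdeal A := fun h => x.2 (PrimeSpectrum.ext h)
    have hfp : f ∉ p.asIdeal := fun h => hxU' (hdiv p h hpm)
    have hmin : ∀ r : Ideal A, r.IsPrime → p.asIdeal ≤ r → f ∈ r → r = maximalIdeal A := fun r hr hpr hfr => by
      by_contra hne
      have hrU : (⟨r, hr⟩ : PrimeSpectrum A) ∈ U'.1 := hdiv ⟨r, hr⟩ hfr hne
      exact hxU' (((PrimeSpectrum.le_iff_specializes p ⟨r, hr⟩).1 hpr).mem_open U'.2 hrU)
    let Af := Localization.Away f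
    have hdisj : Disjoint (↑(Submonoid.powers f) : Set A) (p.asIdeal : Set A) := by
      rw [Set.disjoint_left]
      rintro _ ⟨n, rfl⟩ h
      exact hfp (p.2.mem_of_pow_mem n h)
    haveI : (p.asIdeal.map (algebraMap A Af)).IsPrime :=
      IsLocalization.isPrime_of_isPrime_disjoint (Submonoid.powers f) Af _ p.2 hdisj
    have hcomap : (p.asIdeal.map (algebraMap A Af)).comap (algebraMap A Af) = p.asIdeal :=
      IsLocalization.comap_map_of_isPrime_disjoint (Submonoid.powers f) Af p.2 hdisj
    haveI hmax : (p.asIdeal.map (algebraMap A Af)).IsMaximal := by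
      obtain ⟨M, hM, hle'⟩ := Ideal.exists_le_maximal _ (Ideal.IsPrime.ne_top ‹(p.asIdeal.map (algebraMap A Af)).IsPrime›)
      haveI := hM
      have hfM : f ∉ M.comap (algebraMap A Af) := fun h =>
        hM.ne_top (M.eq_top_of_isUnit_mem h (IsLocalization.Away.algebraMap_isUnit f))
      have hpM : p.asIdeal = M.comap (algebraMap A Af) :=
        eq_of_le_of_forall f hf p.asIdeal _ (hcomap ▸ Ideal.comap_mono hle')
          (fun h => hfM (h ▸ hf)) hmin
      rw [show p.asIdeal.map (algebraMap A Af) = M by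
        rw [hpM]; exact IsLocalization.map_comap (Submonoid.powers f) Af M]
      exact hM
    let Pf := p.asIdeal.map (algebraMap A Af)
    let L := Localization.AtPrime Pf
    haveI : IsLocalization.AtPrime L (Pf.comap (algebraMap A Af)) :=
      IsLocalization.isLocalization_isLocalization_atPrime_isLocalization (Submonoid.powers f) (T := L) Pf
    have key : ∀ (J : Ideal A) [J.IsPrime], J = p.asIdeal → IsLocalization.AtPrime L J →
        IsLocalization.AtPrime L p.asIdeal := by
      rintro J _ rfl h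
      exact h
    haveI : IsLocalization.AtPrime L p.asIdeal := key _ hcomap inferInstance
    let e1 : L ≃+* Localization.AtPrime p.asIdeal :=
      (IsLocalization.algEquiv p.asIdeal.primeCompl L (Localization.AtPrime p.asIdeal)).toRingEquiv
    let e2 : Localization.AtPrime p.asIdeal ≃+* (P : Scheme.{u}).presheaf.stalk x :=
      (StructureSheaf.stalkIso A p).toRingEquiv.trans (P.stalkIso x).symm.commRingCatIsoToRingEquiv
    exact purityHolds_of_ringEquiv (e1.trans e2) (hp Pf hmax)
  obtain ⟨V, ⟨eV⟩⟩ := (S0250.result W hpure).mem_essImage ((FEt.restrict w.hom).obj V')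
  refine ⟨V, ⟨?_⟩⟩
  let uW : pullback P.ι (Spec.map (CommRingCat.ofHom (Ideal.Quotient.mk (Ideal.span {f})))) ⟶ (W : Scheme.{u}) :=
    u' ≫ w.inv
  have h1' : uW ≫ W.ι = pullback.fst _ _ := by
    rw [← cancel_mono P.ι, Category.assoc, ← hw, Category.assoc, w.inv_hom_id_assoc, hu']
  exact (restrictComp uW W.ι _ h1' V).symm ≪≫ (FEt.restrict uW).mapIso eV ≪≫
    restrictComp uW w.hom u' (by simp [uW]) V' ≪≫ e

end Groth.Agent.Pi1Alg

end

noncomputable section

open CategoryTheory CategoryTheory.Limits AlgebraicGeometry IsLocalRing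

namespace Groth.Agent.Pi1Alg

variable {A : Type u} [CommRing A] [IsLocalRing A]

/-- The punctured spectrum of a quotient. -/
theorem exists_puncturedSpec_quot_iso (I : Ideal A) [IsLocalRing (A ⧸ I)] :
    ∃ w : pullback (FEt.puncturedSpec A).ι (Spec.map (CommRingCat.ofHom (Ideal.Quotient.mk I))) ≅
        (FEt.puncturedSpec (A ⧸ I) : Scheme.{u}),
      w.hom ≫ (FEt.puncturedSpec (A ⧸ I)).ι = pullback.snd _ _ := by
  let qm : Spec (CommRingCat.of (A ⧸ I)) ⟶ Spec (CommRingCat.of A) := Spec.map (CommRingCat.ofHom (Ideal.Quotient.mk I))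
  haveI : IsClosedImmersion qm := IsClosedImmersion.spec_of_surjective _ Ideal.Quotient.mk_surjective
  have hcl : qm (IsLocalRing.closedPoint (A ⧸ I)) = IsLocalRing.closedPoint A := by
    haveI : IsLocalHom (Ideal.Quotient.mk I) := IsLocalHom.of_surjective _ Ideal.Quotient.mk_surjective
    exact IsLocalRing.comap_closedPoint (Ideal.Quotient.mk I)
  have hrange : Set.range (pullback.snd (FEt.puncturedSpec A).ι qm) = Set.range (FEt.puncturedSpec (A ⧸ I)).ι := by
    rw [IsOpenImmersion.range_pullbackSnd, Scheme.Opens.opensRange_ι, Scheme.Opens.range_ι]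
    ext p
    show qm p ∈ ({IsLocalRing.closedPoint A}ᶜ : Set (PrimeSpectrum A)) ↔
      p ∈ ({IsLocalRing.closedPoint (A ⧸ I)}ᶜ : Set (PrimeSpectrum (A ⧸ I)))
    simp only [Set.mem_compl_iff, Set.mem_singleton_iff]
    exact not_congr ⟨fun e => qm.isClosedEmbedding.injective (e.trans hcl.symm), fun e => e ▸ hcl⟩
  exact ⟨IsOpenImmersion.isoOfRangeEq (pullback.snd (FEt.puncturedSpec A).ι qm) _ hrange,
    IsOpenImmersion.isoOfRangeEq_hom_fac _ _ _⟩

/-- Purity passes to the divisor when covers of its punctured spectrum extend. -/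
theorem purityHolds_quot (I : Ideal A) [IsLocalRing (A ⧸ I)]
    (h : (FEt.restrict (pullback.fst (FEt.puncturedSpec A).ι
      (Spec.map (CommRingCat.ofHom (Ideal.Quotient.mk I))))).EssSurj)
    (hA : FEt.PurityHolds A) : FEt.PurityHolds (A ⧸ I) := by
  obtain ⟨w, hw⟩ := exists_puncturedSpec_quot_iso I
  refine ⟨fun V => ?_⟩
  obtain ⟨W, ⟨eW⟩⟩ := h.mem_essImage ((FEt.restrict w.hom).obj V)
  obtain ⟨Y, ⟨eY⟩⟩ := hA.mem_essImage W
  let qm := Spec.map (CommRingCat.ofHom (Ideal.Quotient.mk I))
  have hsq : (FEt.puncturedSpec (A ⧸ I)).ι ≫ qm =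
      (w.inv ≫ pullback.fst _ _) ≫ (FEt.puncturedSpec A).ι := by
    rw [Category.assoc, pullback.condition, ← hw, Category.assoc, w.inv_hom_id_assoc]
  exact ⟨(FEt.restrict qm).obj Y, ⟨restrictSquare _ _ _ _ hsq Y ≪≫
    (FEt.restrict (w.inv ≫ pullback.fst _ _)).mapIso eY ≪≫ (restrictComp w.inv _ _ rfl W).symm ≪≫
    (FEt.restrict w.inv).mapIso eW ≪≫ restrictComp w.inv w.hom _ w.inv_hom_id V ≪≫ restrictId V⟩⟩

end Groth.Agent.Pi1Alg

end
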