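import Groth.Agent.Pi1Alg.Patch
import Groth.Agent.Pi1Alg.EssSurj

/-!
# Morphisms of covers of the punctured spectrum and maps into sections
-/

set_option autoImplicit false
set_option linter.unusedSectionVars false
set_option linter.style.haveILetI false
set_option backward.isDefEq.respectTransparency false
set_option backward.isDefEq.respectTransparency.types false
universe u

open CategoryTheory CategoryTheory.Limits AlgebraicGeometry IsLocalRing

noncomputable section

namespace Groth.Agent.Pi1Alg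

open Groth.Agent.Pi1Ext.PuritySch

variable {A : Type u} [CommRing A] [IsLocalRing A]

/-- The spectrum of an algebra over the punctured spectrum. -/
abbrev objO (A : Type u) [CommRing A] [IsLocalRing A] (R : Type u) [CommRing R] [Algebra A R] :
    Over (FEt.puncturedSpec A : Scheme.{u}) :=
  Over.mk (rest A R)

variable (R : Type u) [CommRing R] [Algebra A R]

theorem range_sp_loc {x : A} (hx : x ∈ maximalIdeal A) :
    Set.range (sp A (Loc R x)) ⊆ Set.range (FEt.puncturedSpec A).ι := by
  rw [Scheme.Opens.range_ι]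
  rintro _ ⟨q, rfl⟩ h
  have h' : PrimeSpectrum.comap (algebraMap A (Loc R x)) q = IsLocalRing.closedPoint A := h
  have h2 : x ∈ (PrimeSpectrum.comap (algebraMap A (Loc R x)) q).asIdeal := by rw [h']; exact hx
  exact q.2.ne_top (Ideal.eq_top_of_isUnit_mem _ h2 (isUnit_of_dvd R dvd_rfl))

/-- The chart of a localisation. -/
def σ {x : A} (hx : x ∈ maximalIdeal A) : Spec (CommRingCat.of (Loc R x)) ⟶ (objO A R).left :=
  pullback.lift (Spec.map (CommRingCat.ofHom (algebraMap R (Loc R x))))
    (IsOpenImmersion.lift (FEt.puncturedSpec A).ι (sp A (Loc R x)) (range_sp_loc R hx)) (by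
      rw [IsOpenImmersion.lift_fac, ← Spec.map_comp, ← CommRingCat.ofHom_comp,
        ← IsScalarTower.algebraMap_eq])

theorem σ_fst {x : A} (hx : x ∈ maximalIdeal A) :
    σ R hx ≫ pullback.fst _ _ = Spec.map (CommRingCat.ofHom (algebraMap R (Loc R x))) :=
  pullback.lift_fst _ _ _

theorem σ_snd_ι {x : A} (hx : x ∈ maximalIdeal A) :
    σ R hx ≫ rest A R ≫ (FEt.puncturedSpec A).ι = sp A (Loc R x) := by
  rw [← Category.assoc, σ, pullback.lift_snd, IsOpenImmersion.lift_fac]

theorem σ_resL {x y : A} (hx : x ∈ maximalIdeal A) (hy : y ∈ maximalIdeal A) (h : x ∣ y) :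
    Spec.map (CommRingCat.ofHom (resL R h).toRingHom) ≫ σ R hx = σ R hy := by
  refine pullback.hom_ext ?_ ((cancel_mono (FEt.puncturedSpec A).ι).1 ?_)
  · rw [Category.assoc, σ_fst, σ_fst, ← Spec.map_comp, ← CommRingCat.ofHom_comp]
    congr 2
    exact (resL R h).comp_algebraMap
  · simp only [Category.assoc]
    rw [σ_snd_ι, σ_snd_ι, ← Spec.map_comp, ← CommRingCat.ofHom_comp]
    congr 2
    exact ((resL R h).restrictScalars A).comp_algebraMap

variable {R} {S : Type u} [CommRing S] [Algebra A S]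

theorem left_rest (θ : objO A R ⟶ objO A S) : θ.left ≫ rest A S = rest A R := Over.w θ

theorem exists_χ (θ : objO A R ⟶ objO A S) {x : A} (hx : x ∈ maximalIdeal A) :
    ∃ φ : S →ₐ[A] Loc R x, Spec.map (CommRingCat.ofHom φ.toRingHom) = σ R hx ≫ θ.left ≫ pullback.fst _ _ := by
  have h1 : CommRingCat.ofHom (algebraMap A S) ≫ Spec.preimage (σ R hx ≫ θ.left ≫ pullback.fst _ _) =
      CommRingCat.ofHom (algebraMap A (Loc R x)) := Spec.map_injective (by
    rw [Spec.map_comp, Spec.map_preimage]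
    simp only [Category.assoc]
    rw [pullback.condition, show θ.left ≫ pullback.snd (sp A S) (FEt.puncturedSpec A).ι ≫ _ =
      (θ.left ≫ rest A S) ≫ (FEt.puncturedSpec A).ι from (Category.assoc _ _ _).symm, left_rest θ]
    exact σ_snd_ι R hx)
  exact ⟨{ (Spec.preimage (σ R hx ≫ θ.left ≫ pullback.fst (sp A S) (FEt.puncturedSpec A).ι)).hom with
    commutes' := fun a => ConcreteCategory.congr_hom h1 a }, Spec.map_preimage _⟩

/-- The map on sections induced by a morphism. -/
def χ (θ : objO A R ⟶ objO A S) {x : A} (hx : x ∈ maximalIdeal A) : S →ₐ[A] Loc R x := (exists_χ θ hx).choose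

theorem χ_spec (θ : objO A R ⟶ objO A S) {x : A} (hx : x ∈ maximalIdeal A) :
    Spec.map (CommRingCat.ofHom (χ θ hx).toRingHom) = σ R hx ≫ θ.left ≫ pullback.fst _ _ :=
  (exists_χ θ hx).choose_spec

theorem χ_resL (θ : objO A R ⟶ objO A S) {x y : A} (hx : x ∈ maximalIdeal A) (hy : y ∈ maximalIdeal A) (h : x ∣ y)
    (s : S) : resL R h (χ θ hx s) = χ θ hy s := by
  have key : ∀ (a : S →+* Loc R x) (b : Loc R x →+* Loc R y) (c : S →+* Loc R y),
      Spec.map (CommRingCat.ofHom b) ≫ Spec.map (CommRingCat.ofHom a) = Spec.map (CommRingCat.ofHom c) →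
        ∀ u, b (a u) = c u := fun a b c e u => by
    rw [← Spec.map_comp, ← CommRingCat.ofHom_comp] at e
    exact RingHom.congr_fun (congrArg CommRingCat.Hom.hom (Spec.map_injective e)) u
  exact key (χ θ hx).toRingHom (resL R h).toRingHom (χ θ hy).toRingHom
    (by rw [χ_spec, χ_spec, ← σ_resL R hx hy h, Category.assoc]) s

/-- The extension of `χ` to the localisation. -/
def χL (θ : objO A R ⟶ objO A S) {x : A} (hx : x ∈ maximalIdeal A) : Loc S x →ₐ[A] Loc R x :=
  IsLocalization.liftAlgHom (M := Submonoid.powers (algebraMap A S x)) (f := χ θ hx) fun s => by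
    obtain ⟨_, n, rfl⟩ := s
    rw [map_pow, AlgHom.commutes]
    exact (isUnit_of_dvd R dvd_rfl).pow n

theorem χL_algebraMap (θ : objO A R ⟶ objO A S) {x : A} (hx : x ∈ maximalIdeal A) (s : S) :
    χL θ hx (algebraMap S (Loc S x) s) = χ θ hx s :=
  IsLocalization.lift_eq _ s

theorem σ_χL (θ : objO A R ⟶ objO A S) {x : A} (hx : x ∈ maximalIdeal A) :
    Spec.map (CommRingCat.ofHom (χL θ hx).toRingHom) ≫ σ S hx = σ R hx ≫ θ.left := by
  refine pullback.hom_ext ?_ ((cancel_mono (FEt.puncturedSpec A).ι).1 ?_)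
  · rw [Category.assoc, Category.assoc, σ_fst, ← χ_spec, ← Spec.map_comp, ← CommRingCat.ofHom_comp]
    congr 2
    exact RingHom.ext (χL_algebraMap θ hx)
  · simp only [Category.assoc]
    rw [σ_snd_ι, show θ.left ≫ pullback.snd (sp A S) (FEt.puncturedSpec A).ι ≫ _ =
      (θ.left ≫ rest A S) ≫ (FEt.puncturedSpec A).ι from (Category.assoc _ _ _).symm, left_rest θ]
    refine Eq.trans ?_ (σ_snd_ι R hx).symm
    rw [← Spec.map_comp, ← CommRingCat.ofHom_comp]
    congr 2
    exact (χL θ hx).comp_algebraMap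

theorem χL_comp_eq_id (e : objO A R ≅ objO A S) {x : A} (hx : x ∈ maximalIdeal A) (z : Loc R x) :
    χL e.hom hx (χL e.inv hx z) = z := by
  have h : (χL e.hom hx).comp (χL e.inv hx) = AlgHom.id A (Loc R x) := by
    refine IsLocalization.algHom_ext (Submonoid.powers (algebraMap A R x)) (AlgHom.ext fun c => ?_)
    have h2 : Spec.map (CommRingCat.ofHom ((χL e.hom hx).toRingHom.comp (χ e.inv hx).toRingHom)) =
        Spec.map (CommRingCat.ofHom (algebraMap R (Loc R x))) := by
      rw [CommRingCat.ofHom_comp, Spec.map_comp, χ_spec, reassoc_of% σ_χL, ← Category.assoc e.hom.left,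
        ← Over.comp_left, e.hom_inv_id, Over.id_left, Category.id_comp, σ_fst]
    have h3 := ConcreteCategory.congr_hom (Spec.map_injective h2) c
    show χL e.hom hx (χL e.inv hx (algebraMap R (Loc R x) c)) = algebraMap R (Loc R x) c
    rw [χL_algebraMap]
    exact h3
  exact AlgHom.congr_fun h z

variable [IsNoetherianRing A]

theorem exists_pow_smul_eq_zero_SecL {ι : Type} [Fintype ι] (g : ι → A) (d : SecL g R) (l : ι)
    (h : (d : ∀ j, Loc R (g j)) l = 0) : ∃ k : ℕ, g l ^ k • d = 0 := by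
  have h0 : ∀ j, res R (dvd_fst (g j) (g l)) ((locEquiv R (g j)).symm ((d : ∀ j, Loc R (g j)) j)) = 0 := fun j => by
    refine (locEquiv R (g j * g l)).injective ?_
    rw [← resL_res, AlgEquiv.apply_symm_apply, d.2 j l, h, map_zero, map_zero]
  choose k hk using fun j => res_eq_zero R (dvd_fst (g j) (g l)) dvd_rfl _ (h0 j)
  refine ⟨Finset.univ.sup k, Subtype.ext (funext fun j => (locEquiv R (g j)).symm.injective ?_)⟩
  show (locEquiv R (g j)).symm (g l ^ Finset.univ.sup k • (d : ∀ j, Loc R (g j)) j) = (locEquiv R (g j)).symm 0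
  rw [map_zero, map_smul, ← Nat.sub_add_cancel (show k j ≤ Finset.univ.sup k from Finset.le_sup (Finset.mem_univ j)),
    pow_add, mul_smul, hk, smul_zero]

/-- An isomorphism of restrictions gives a map into the sections. -/
theorem exists_secMap {ι : Type} [Fintype ι] (g : ι → A) (hg : ∀ j, g j ∈ maximalIdeal A)
    (e : objO A R ≅ objO A S) :
    ∃ f : S →ₐ[A] SecL g R, (∀ (c : R) (l : ι), ∃ (n : ℕ) (s : S), f s = g l ^ n • toSecL g R c) ∧
      ∀ s, f s = 0 → ∀ l, ∃ n : ℕ, g l ^ n • s = 0 := by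
  have hg2 : ∀ j k, g j * g k ∈ maximalIdeal A := fun j k => Ideal.mul_mem_right _ _ (hg j)
  let f : S →ₐ[A] SecL g R := (Pi.algHom A _ fun j => χ e.hom (hg j)).codRestrict _ fun s j k =>
    (χ_resL e.hom (hg j) (hg2 j k) _ s).trans (χ_resL e.hom (hg k) (hg2 j k) _ s).symm
  have hf : ∀ s j, (f s : ∀ j, Loc R (g j)) j = χ e.hom (hg j) s := fun _ _ => rfl
  refine ⟨f, fun c l => ?_, fun s hs l => ?_⟩
  · obtain ⟨⟨s, ⟨_, n, rfl⟩⟩, hs⟩ := IsLocalization.surj (Submonoid.powers (algebraMap A S (g l)))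
      (χL e.inv (hg l) (algebraMap R (Loc R (g l)) c))
    have hl : χ e.hom (hg l) s = g l ^ n • algebraMap R (Loc R (g l)) c := by
      rw [← χL_algebraMap, ← hs]
      simp only [map_mul, map_pow, χL_comp_eq_id]
      rw [χL_algebraMap, AlgHom.commutes, mul_comm, Algebra.smul_def, map_pow]
    obtain ⟨k, hk⟩ := exists_pow_smul_eq_zero_SecL g (f s - g l ^ n • toSecL g R c) l (by
      show (f s : ∀ j, Loc R (g j)) l - g l ^ n • (toSecL g R c : ∀ j, Loc R (g j)) l = 0
      rw [hf, hl, toSecL_apply, sub_self])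
    refine ⟨k + n, g l ^ k • s, ?_⟩
    rw [map_smul, pow_add, mul_smul]
    exact sub_eq_zero.1 ((smul_sub _ _ _).symm.trans hk)
  · have h0 : χ e.hom (hg l) s = 0 := by rw [← hf, hs]; rfl
    have h1 : algebraMap S (Loc S (g l)) s = 0 := by
      rw [← χL_comp_eq_id e.symm (hg l) (algebraMap S (Loc S (g l)) s)]
      show χL e.inv (hg l) (χL e.hom (hg l) _) = 0
      rw [χL_algebraMap, h0, map_zero]
    rw [← locLin_mk] at h1
    exact (mk_eq_zero S).1 ((locLin S (g l)).injective (h1.trans (map_zero _).symm))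

end Groth.Agent.Pi1Alg

end
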