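import Groth.Agent.Pi1Alg.Descend
import Groth.Agent.CILib.Basic
import Groth.Agent.AvramovLib.Localize
import Groth.Agent.Alg6.LocLoc
import Groth.Agent.FormCat.Equidim
import Groth.Agent.LC.CanonCM
import Groth.Agent.LC.Depth
import Groth.Agent.RegLoc6.Basic

/-!
# Purity for complete intersections of dimension at least three
-/

set_option autoImplicit false
set_option linter.style.haveILetI false
set_option linter.unusedSectionVars false

universe u

open IsLocalRing RingTheory.Sequence

noncomputable section

namespace Groth.Agent.Pi1Alg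

open Groth.Agent

/-- A complete local Noetherian ring is complete for every proper ideal. -/
theorem isAdicComplete_le {R : Type u} [CommRing R] [IsLocalRing R] [IsNoetherianRing R]
    [IsAdicComplete (maximalIdeal R) R] (J : Ideal R) (hJ : J ≤ maximalIdeal R) : IsAdicComplete J R := by
  have hp : ∀ n, J ^ n ≤ maximalIdeal R ^ n := fun n => Ideal.pow_right_mono hJ n
  refine { toIsHausdorff := ⟨fun x hx => IsHausdorff.haus (I := maximalIdeal R) inferInstance x fun n => ?_⟩,
           toIsPrecomplete := ⟨fun f hf => ?_⟩ }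
  · have := hx n
    rw [SModEq.zero, smul_eq_mul, Ideal.mul_top] at this ⊢
    exact hp n this
  · obtain ⟨L, hL⟩ := IsPrecomplete.prec (I := maximalIdeal R) inferInstance (f := f) (fun {i j} hij => by
      have := hf hij
      rw [SModEq.sub_mem, smul_eq_mul, Ideal.mul_top] at this ⊢
      exact hp i this)
    refine ⟨L, fun n => ?_⟩
    rw [SModEq.sub_mem, smul_eq_mul, Ideal.mul_top]
    by_contra hne
    have hJn : (Submodule.Quotient.mk (f n - L) : R ⧸ J ^ n) ≠ 0 := fun h =>
      hne ((Submodule.Quotient.mk_eq_zero _).1 h)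
    refine hJn ((Submodule.mem_bot R).1 ?_)
    rw [← Ideal.iInf_pow_smul_eq_bot_of_isLocalRing (M := R ⧸ J ^ n) (maximalIdeal R)
      (maximalIdeal.isMaximal R).ne_top, Submodule.mem_iInf]
    intro k
    have h1 := hf (le_max_left n k)
    have h2 := hL (max n k)
    rw [SModEq.sub_mem, smul_eq_mul, Ideal.mul_top] at h1 h2
    have h3 : f n - L = (f n - f (max n k)) + (f (max n k) - L) := by ring
    rw [h3, Submodule.Quotient.mk_add, (Submodule.Quotient.mk_eq_zero _).2 h1, zero_add,
      show (f (max n k) - L) = (f (max n k) - L) • (1 : R) by rw [smul_eq_mul, mul_one], Submodule.Quotient.mk_smul]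
    exact Submodule.smul_mem_smul (Ideal.pow_le_pow_right (le_max_right n k) h2) Submodule.mem_top

/-- The statement for presentations with `k` equations. -/
def PurityCIStmt (k : ℕ) : Prop :=
  ∀ (B : Type u) [CommRing B] [IsRegularLocalRing B] (rs : List B), rs.length = k → IsRegular B rs →
    ∀ (A : Type u) [CommRing A] [IsLocalRing A] [IsNoetherianRing A] (π : B →+* A),
      Function.Surjective π → RingHom.ker π = Ideal.ofList rs → (3 : WithBot ℕ∞) ≤ ringKrullDim A →
        FEt.PurityHolds A

theorem purityCIStmt_zero : PurityCIStmt.{u} 0 := by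
  intro B _ _ rs hlen _ A _ _ _ π hπ hker hdim
  rw [List.length_eq_zero_iff] at hlen
  subst hlen
  have hinj : Function.Injective π := (RingHom.injective_iff_ker_eq_bot π).2 (by rw [hker, Ideal.ofList_nil])
  haveI : IsRegularLocalRing A := IsRegularLocalRing.of_ringEquiv (RingEquiv.ofBijective π ⟨hinj, hπ⟩)
  exact Pi1Ext.PuritySch.purityHolds_of_regular A (le_trans (by norm_num) hdim)

section Aux

open CategoryTheory CategoryTheory.Limits AlgebraicGeometry

variable {A : Type u} [CommRing A] [IsLocalRing A] [IsNoetherianRing A]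

theorem ringKrullDim_quot_of_maximal_away (t : A) (ht : t ∈ IsLocalRing.maximalIdeal A) (q : Ideal A) [hq : q.IsPrime]
    (htq : t ∉ q) (hmax : ∀ q' : Ideal A, q'.IsPrime → q ≤ q' → t ∉ q' → q' = q) :
    ringKrullDim (A ⧸ q) = 1 := by
  let m := IsLocalRing.maximalIdeal A
  have hqm : q < m := lt_of_le_of_ne (IsLocalRing.le_maximalIdeal hq.ne_top) fun h => htq (h ▸ ht)
  have hmap : m.map (Ideal.Quotient.mk q) = IsLocalRing.maximalIdeal (A ⧸ q) :=
    IsLocalRing.map_maximalIdeal_of_surjective _ Ideal.Quotient.mk_surjective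
  rw [← IsLocalRing.maximalIdeal_height_eq_ringKrullDim]
  have hle : (IsLocalRing.maximalIdeal (A ⧸ q)).height ≤ 1 := by
    by_contra h
    rw [not_le, ← hmap] at h
    obtain ⟨r, hr, hqr, -, htr⟩ := LC.exists_prime_between q m hqm h ht htq
    exact hqr.ne (hmax r hr hqr.le htr).symm
  have hge : 1 ≤ (IsLocalRing.maximalIdeal (A ⧸ q)).height := by
    have hb : (⊥ : Ideal (A ⧸ q)) < IsLocalRing.maximalIdeal (A ⧸ q) := by
      rw [bot_lt_iff_ne_bot, ← hmap, Ne, Ideal.map_eq_bot_iff_le_ker, Ideal.mk_ker]
      exact not_le_of_gt hqm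
    exact ENat.one_le_iff_ne_zero.2 (ne_bot_of_gt (Ideal.height_strict_mono_of_isPrime hb))
  rw [le_antisymm hle hge]
  rfl

theorem ringKrullDim_quot_eq_one_of_maximal (t : A) (ht : t ∈ maximalIdeal A) (P : Ideal (Localization.Away t))
    [hP : P.IsMaximal] : ringKrullDim (A ⧸ P.comap (algebraMap A (Localization.Away t))) = 1 := by
  let p : Ideal A := P.comap (algebraMap A (Localization.Away t))
  have htp : t ∉ p := fun h => hP.ne_top (P.eq_top_of_isUnit_mem h (IsLocalization.Away.algebraMap_isUnit t))
  have hmax : ∀ r : Ideal A, r.IsPrime → p ≤ r → t ∉ r → r = p := fun r hr hpr htr => by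
    have hdisj : Disjoint (↑(Submonoid.powers t) : Set A) (r : Set A) := by
      rw [Set.disjoint_left]
      rintro _ ⟨n, rfl⟩ h
      exact htr (hr.mem_of_pow_mem n h)
    have h1 : P ≤ r.map (algebraMap A (Localization.Away t)) := by
      rw [← IsLocalization.map_comap (Submonoid.powers t) (Localization.Away t) P]
      exact Ideal.map_mono hpr
    haveI := IsLocalization.isPrime_of_isPrime_disjoint (Submonoid.powers t) (Localization.Away t) r hr hdisj
    have h2 := hP.eq_of_le (Ideal.IsPrime.ne_top inferInstance) h1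
    rw [← IsLocalization.comap_map_of_isPrime_disjoint (Submonoid.powers t) (Localization.Away t) hr hdisj, ← h2]
  exact ringKrullDim_quot_of_maximal_away t ht p htp hmax

theorem purityHolds_of_completion (h : FEt.PurityHolds (AdicCompletion (maximalIdeal A) A)) :
    FEt.PurityHolds A := by
  haveI := LC.Canon.isNoetherianRing_completion (R := A)
  haveI := LC.Canon.faithfullyFlat_completion (R := A)
  have hm := (AdicCompletion.maximalIdeal_eq_map (R := A)).symm
  obtain ⟨w, hw⟩ := exists_punctured_baseChange (A := A) (A' := AdicCompletion (maximalIdeal A) A) hm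
  refine ⟨fun V => ?_⟩
  obtain ⟨Y', ⟨e⟩⟩ := h.mem_essImage ((FEt.restrict w.inv).obj ((FEt.restrict (pullback.fst _ _)).obj V))
  obtain ⟨Y, hY⟩ := exists_extend_of_baseChange hm (completion_surj A) V ⟨Y',
    ⟨(restrictComp w.hom _ _ hw Y').symm ≪≫ (FEt.restrict w.hom).mapIso e ≪≫
      restrictComp w.hom w.inv _ w.hom_inv_id _ ≪≫ restrictId _⟩⟩
  exact ⟨Y, hY⟩

end Aux

theorem purity_step_complete (k : ℕ) (hk : PurityCIStmt.{u} k) (B : Type u) [CommRing B] [IsRegularLocalRing B]
    [IsAdicComplete (maximalIdeal B) B] (rs : List B) (hlen : rs.length = k + 1) (hreg : IsRegular B rs)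
    (A : Type u) [CommRing A] [IsLocalRing A] [IsNoetherianRing A] (π : B →+* A)
    (hπ : Function.Surjective π) (hker : RingHom.ker π = Ideal.ofList rs) (hdim : (3 : WithBot ℕ∞) ≤ ringKrullDim A) :
    FEt.PurityHolds A := by
  obtain rfl | ⟨rs', s, rfl⟩ := List.eq_nil_or_concat' rs
  · simp at hlen
  have hlen' : rs'.length = k := by simpa using hlen
  have hmem : ∀ r ∈ rs' ++ [s], r ∈ maximalIdeal B := fun r hr =>
    le_maximalIdeal (RingHom.ker_ne_top π) (hker ▸ Ideal.subset_span hr)
  let J : Ideal B := Ideal.ofList rs'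
  have hJm : J ≤ maximalIdeal B := Ideal.span_le.2 fun r hr => hmem r (List.mem_append_left _ hr)
  haveI : Nontrivial (B ⧸ J) := Ideal.Quotient.nontrivial_iff.2
    (ne_top_of_le_ne_top (maximalIdeal.isMaximal B).ne_top hJm)
  let A' := B ⧸ J
  haveI : IsLocalRing A' := IsLocalRing.of_surjective' (Ideal.Quotient.mk J) Ideal.Quotient.mk_surjective
  haveI : IsAdicComplete (maximalIdeal A') A' := CILib.isAdicComplete_quotient J
  let mk : B →+* A' := Ideal.Quotient.mk J
  let t : A' := mk s
  have ht : t ∈ maximalIdeal A' := by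
    rw [← map_maximalIdeal_of_surjective mk Ideal.Quotient.mk_surjective]
    exact Ideal.mem_map_of_mem mk (hmem s (by simp))
  haveI : IsAdicComplete (Ideal.span {t}) A' :=
    isAdicComplete_le _ ((Ideal.span_singleton_le_iff_mem _).2 ht)
  obtain ⟨hreg', hregs⟩ := (isWeaklyRegular_append_iff (M := B) rs' [s]).1 hreg.toIsWeaklyRegular
  have htreg : IsSMulRegular A' t := by
    have h1 := (isWeaklyRegular_singleton_iff _ s).1 hregs
    intro x y hxy
    obtain ⟨x, rfl⟩ := Ideal.Quotient.mk_surjective x
    obtain ⟨y, rfl⟩ := Ideal.Quotient.mk_surjective y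
    have h2 : (Submodule.Quotient.mk x : B ⧸ (Ideal.ofList rs' • ⊤ : Ideal B)) = Submodule.Quotient.mk y := by
      refine h1 ?_
      show s • (Submodule.Quotient.mk x : B ⧸ (Ideal.ofList rs' • ⊤ : Ideal B)) = s • Submodule.Quotient.mk y
      rw [← Submodule.Quotient.mk_smul, ← Submodule.Quotient.mk_smul, Submodule.Quotient.eq, smul_eq_mul (a := Ideal.ofList rs'), Ideal.mul_top]
      exact (Ideal.Quotient.mk_eq_mk_iff_sub_mem _ _).1 hxy
    rw [Submodule.Quotient.eq, smul_eq_mul (a := Ideal.ofList rs'), Ideal.mul_top] at h2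
    exact (Ideal.Quotient.mk_eq_mk_iff_sub_mem _ _).2 h2
  let C := A' ⧸ Ideal.span {t}
  haveI : Nontrivial C := Ideal.Quotient.nontrivial_iff.2
    (ne_top_of_le_ne_top (maximalIdeal.isMaximal A').ne_top ((Ideal.span_singleton_le_iff_mem _).2 ht))
  haveI : IsLocalRing C := IsLocalRing.of_surjective' (Ideal.Quotient.mk _) Ideal.Quotient.mk_surjective
  let π' : B →+* C := (Ideal.Quotient.mk (Ideal.span {t})).comp mk
  have hπ' : Function.Surjective π' := Ideal.Quotient.mk_surjective.comp Ideal.Quotient.mk_surjective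
  have hker' : RingHom.ker π' = RingHom.ker π := by
    rw [hker, ← RingHom.comap_ker, Ideal.mk_ker, Ideal.ofList_append, Ideal.ofList_singleton,
      show Ideal.span {t} = (Ideal.span {s}).map mk by rw [Ideal.map_span, Set.image_singleton],
      Ideal.comap_map_of_surjective mk Ideal.Quotient.mk_surjective, ← RingHom.ker_eq_comap_bot, Ideal.mk_ker]
    exact sup_comm _ _
  let eC : C ≃+* A := ((RingHom.quotientKerEquivOfSurjective hπ').symm.trans (Ideal.quotEquivOfEq hker')).trans
    (RingHom.quotientKerEquivOfSurjective hπ)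
  -- the depth of the quotient
  have hdimA : ringKrullDim A + ((k + 1 : ℕ) : WithBot ℕ∞) = ringKrullDim B := by
    rw [← ringKrullDim_eq_of_ringEquiv ((Ideal.quotEquivOfEq hker.symm).trans
      (RingHom.quotientKerEquivOfSurjective hπ)), ← hlen]
    exact ringKrullDim_add_length_eq_ringKrullDim_of_isRegular _ hreg
  have hdB := Synt29.ringKrullDim_eq_nat B
  have hd : (3 : ℕ∞) ≤ LocCoh.depth C C := by
    haveI hCM : LocCoh.IsCohenMacaulayLocalRing B :=
      haveI := LC.gorenstein_of_isRegularLocalRing (R := B); LC.isCohenMacaulayLocalRing_of_gorenstein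
    have h1 := LC.isCM_quot_ofList B hCM.supportDim_eq_depth hreg.toIsWeaklyRegular hmem
    let σ : (B ⧸ (Ideal.ofList (rs' ++ [s]) • ⊤ : Ideal B)) ≃ₗ[B] B ⧸ RingHom.ker π' :=
      Submodule.quotEquivOfEq _ _ (by rw [smul_eq_mul, Ideal.mul_top, hker', hker])
    have h2 : Module.supportDim B (B ⧸ RingHom.ker π') =
        ((LocCoh.depth B (B ⧸ (Ideal.ofList (rs' ++ [s]) • ⊤ : Ideal B)) : ℕ∞) : WithBot ℕ∞) := by
      rw [← Module.supportDim_eq_of_equiv σ]; exact h1
    rw [Module.supportDim_quotient_eq_ringKrullDim,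
      ringKrullDim_eq_of_ringEquiv ((RingHom.quotientKerEquivOfSurjective hπ').trans eC)] at h2
    have hdep : LocCoh.depth B (B ⧸ (Ideal.ofList (rs' ++ [s]) • ⊤ : Ideal B)) = LocCoh.depth C C :=
      Alg6.depth_eq_of_semilinear π' hπ'
        (σ.toAddEquiv.trans (RingHom.quotientKerEquivOfSurjective hπ').toAddEquiv) fun r z => by
          obtain ⟨z, rfl⟩ := Submodule.Quotient.mk_surjective _ z
          exact map_mul π' r z
    rw [h2, hdep] at hdim
    exact WithBot.coe_le_coe.1 hdim
  have he : ∀ p : PrimeSpectrum A', t ∉ p.asIdeal → ringKrullDim (A' ⧸ p.asIdeal) = 1 →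
      FEt.PurityHolds (Localization.AtPrime p.asIdeal) := by
    intro p _ hp1
    let q : Ideal B := p.asIdeal.comap mk
    haveI : IsRegularLocalRing (Localization.AtPrime q) := by
      haveI := RegLoc6.isRegularRing_of_isRegularLocalRing B
      exact IsRegularRing.isRegularLocalRing_localization (R := B) q
    haveI : IsNoetherianRing (Localization.AtPrime p.asIdeal) :=
      IsLocalization.isNoetherianRing p.asIdeal.primeCompl _ inferInstance
    obtain ⟨eq⟩ := AvramovLib.exists_quot_localization_equiv mk Ideal.Quotient.mk_surjective p.asIdeal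
    have hmemq : ∀ r ∈ rs', r ∈ q := fun r hr => by
      show mk r ∈ p.asIdeal
      rw [show mk r = 0 from Ideal.Quotient.eq_zero_iff_mem.2 (Ideal.subset_span hr)]
      exact zero_mem _
    have hregq : IsRegular (Localization.AtPrime q) (rs'.map (algebraMap B (Localization.AtPrime q))) :=
      IsWeaklyRegular.isRegular_of_isLocalization_of_mem _ q hreg' hmemq
    have hlenq : (rs'.map (algebraMap B (Localization.AtPrime q))).length = k := by simpa using hlen'
    have hkerq : (RingHom.ker mk).map (algebraMap B (Localization.AtPrime q)) =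
        Ideal.ofList (rs'.map (algebraMap B (Localization.AtPrime q))) := by
      rw [Ideal.mk_ker]; exact Ideal.map_ofList _ _
    let πq : Localization.AtPrime q →+* Localization.AtPrime p.asIdeal := eq.toRingHom.comp (Ideal.Quotient.mk _)
    have hπq : Function.Surjective πq := eq.surjective.comp Ideal.Quotient.mk_surjective
    have hkπq : RingHom.ker πq = Ideal.ofList (rs'.map (algebraMap B (Localization.AtPrime q))) := by
      rw [← hkerq]
      ext x
      rw [RingHom.mem_ker]
      show eq (Ideal.Quotient.mk _ x) = 0 ↔ _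
      rw [map_eq_zero_iff eq eq.injective, Ideal.Quotient.eq_zero_iff_mem]
    refine hk (Localization.AtPrime q) _ hlenq hregq _ πq hπq hkπq ?_
    have h1 : ringKrullDim (Localization.AtPrime p.asIdeal) + ((k : ℕ) : WithBot ℕ∞) =
        ringKrullDim (Localization.AtPrime q) := by
      rw [← hlenq, ← ringKrullDim_eq_of_ringEquiv ((Ideal.quotEquivOfEq hkπq.symm).trans
        (RingHom.quotientKerEquivOfSurjective hπq))]
      exact ringKrullDim_add_length_eq_ringKrullDim_of_isRegular _ hregq
    rw [IsLocalization.AtPrime.ringKrullDim_eq_height q (Localization.AtPrime q)] at h1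
    have h2 := FormCat.height_add_ringKrullDim_quotient_regular B q (Ideal.IsPrime.ne_top inferInstance)
    rw [ringKrullDim_eq_of_ringEquiv ((Ideal.quotEquivOfEq (show q =
        RingHom.ker ((Ideal.Quotient.mk p.asIdeal).comp mk) by rw [← RingHom.comap_ker, Ideal.mk_ker])).trans
      (RingHom.quotientKerEquivOfSurjective (f := (Ideal.Quotient.mk p.asIdeal).comp mk)
        (Ideal.Quotient.mk_surjective.comp Ideal.Quotient.mk_surjective))), hp1, hdB] at h2
    obtain ⟨h, hh⟩ := ENat.ne_top_iff_exists.1 (Ideal.height_ne_top (I := q) (Ideal.IsPrime.ne_top inferInstance))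
    rw [← hh] at h1 h2
    rw [hdB] at hdimA
    generalize ringKrullDim A = a at hdim hdimA
    generalize ringKrullDim (Localization.AtPrime p.asIdeal) = b at h1 ⊢
    induction b using WithBot.recBotCoe with
    | bot => simp at h1
    | coe b =>
      induction a using WithBot.recBotCoe with
      | bot => simp at hdim
      | coe a =>
        norm_cast at h1 h2 hdimA hdim ⊢
        induction a using ENat.recTopCoe with
        | top => simp at hdimA
        | coe a =>
          induction b using ENat.recTopCoe with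
          | top => simp at h1
          | coe b =>
            norm_cast at h1 h2 hdimA hdim ⊢
            have hdim' : 3 ≤ a := by exact_mod_cast hdim
            have : 3 ≤ b := by omega
            exact_mod_cast this
  have hnz : t ∈ nonZeroDivisors A' := mem_nonZeroDivisors_iff_right.2 fun z hz =>
    htreg (show t • z = t • 0 by rw [smul_zero, smul_eq_mul, mul_comm, hz])
  have hdA : (3 : ℕ∞) ≤ LocCoh.depth A' C := by
    rw [show LocCoh.depth A' C = LocCoh.depth C C from
      Alg6.depth_eq_of_semilinear (Ideal.Quotient.mk (Ideal.span {t})) Ideal.Quotient.mk_surjective (AddEquiv.refl _)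
        fun r x => by
          obtain ⟨x, rfl⟩ := Ideal.Quotient.mk_surjective x
          rfl]
    exact hd
  have hvan : ∀ i < 3, Subsingleton ((localCohomology (maximalIdeal A') i).obj (ModuleCat.of A' C)) :=
    (LC.le_idealDepth_iff_H (maximalIdeal A') C 3).1 hdA
  have hfin : ∀ i < 3, Module.Finite A' (LocCoh.H (maximalIdeal A') i C) := fun i hi => by
    haveI := hvan i hi
    haveI : Subsingleton (LocCoh.H (maximalIdeal A') i C) := hvan i hi
    exact Module.Finite.of_finite
  have hpP : ∀ P : Ideal (Localization.Away t), ∀ _ : P.IsMaximal, FEt.PurityHolds (Localization.AtPrime P) := by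
    intro P hP
    let p : PrimeSpectrum A' := ⟨P.comap (algebraMap A' (Localization.Away t)), inferInstance⟩
    have htp : t ∉ p.asIdeal := fun h =>
      hP.ne_top (P.eq_top_of_isUnit_mem h (IsLocalization.Away.algebraMap_isUnit t))
    have hpm : p.asIdeal ≠ maximalIdeal A' := fun h => htp (h ▸ ht)
    have hp1 : ringKrullDim (A' ⧸ p.asIdeal) = 1 := ringKrullDim_quot_eq_one_of_maximal t ht P
    haveI : IsLocalization.AtPrime (Localization.AtPrime P) p.asIdeal :=
      IsLocalization.isLocalization_isLocalization_atPrime_isLocalization (Submonoid.powers t) (T := Localization.AtPrime P) P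
    exact purityHolds_of_ringEquiv
      (IsLocalization.algEquiv p.asIdeal.primeCompl (Localization.AtPrime p.asIdeal) (Localization.AtPrime P)).toRingEquiv
      (he p htp hp1)
  have hA' : FEt.PurityHolds A' := by
    have hdimA' : (3 : WithBot ℕ∞) ≤ ringKrullDim A' :=
      le_trans (by rw [← ringKrullDim_eq_of_ringEquiv eC] at hdim; exact hdim)
        (ringKrullDim_le_of_surjective _ (Ideal.Quotient.mk_surjective (I := Ideal.span {t})))
    exact hk B rs' hlen' (IsRegular.of_isWeaklyRegular_of_mem_maximalIdeal B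
      (fun r hr => hmem r (List.mem_append_left _ hr)) hreg') A' mk Ideal.Quotient.mk_surjective Ideal.mk_ker hdimA'
  exact purityHolds_of_ringEquiv eC
    (purityHolds_quot _ (restrict_essSurj t ht hnz (hfin 1 (by norm_num)) (hfin 2 (by norm_num)) hpP) hA')

/-- Complete intersections of dimension at least three are pure. -/
theorem purityCIStmt : ∀ k, PurityCIStmt.{u} k := by
  intro k
  induction k with
  | zero => exact purityCIStmt_zero
  | succ k ih =>
    intro B _ _ rs hlen hreg A _ _ _ π hπ hker hdim
    obtain ⟨τ, hτ, hkτ⟩ := CILib.exists_completion_surjection π hπ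
    haveI := CILib.isRegularLocalRing_adicCompletion B
    haveI := CILib.isAdicComplete_adicCompletion B
    haveI := LC.Canon.faithfullyFlat_completion (R := B)
    haveI := LC.Canon.isNoetherianRing_completion (R := A)
    have hp := purity_step_complete k ih (AdicCompletion (maximalIdeal B) B) (rs.map (algebraMap B _))
      (by simpa using hlen) hreg.of_faithfullyFlat _ τ hτ
      (by rw [hkτ, hker]; exact Ideal.map_ofList _ _)
      (by rw [CILib.ringKrullDim_adicCompletion]; exact hdim)
    exact purityHolds_of_completion hp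

theorem purityHolds_ci {A : Type u} [CommRing A] [IsLocalRing A] [IsNoetherianRing A]
    (hA : Pi1.IsCompleteIntersection A) (hdim : (3 : WithBot ℕ∞) ≤ ringKrullDim A) : FEt.PurityHolds A := by
  obtain ⟨B, _, _, rs, -, hreg, ⟨e⟩⟩ := hA
  haveI := LC.Canon.isNoetherianRing_completion (R := A)
  refine purityHolds_of_completion (purityCIStmt rs.length B rs rfl hreg _ (e.symm.toRingHom.comp (Ideal.Quotient.mk _))
    (e.symm.surjective.comp Ideal.Quotient.mk_surjective) ?_ (by rw [CILib.ringKrullDim_adicCompletion]; exact hdim))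
  ext x
  rw [RingHom.mem_ker]
  show e.symm (Ideal.Quotient.mk _ x) = 0 ↔ _
  rw [map_eq_zero_iff e.symm e.symm.injective, Ideal.Quotient.eq_zero_iff_mem]

end Groth.Agent.Pi1Alg

end
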