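import Mathlib.Algebra.Module.LocalizedModule.Exact
import Mathlib.RingTheory.Finiteness.Finsupp
import Mathlib.RingTheory.Noetherian.Basic
import Mathlib.RingTheory.Finiteness.Ideal

/-!
# Low degrees of the Čech complex of a module
-/

set_option autoImplicit false
set_option linter.unusedSectionVars false
universe u

noncomputable section

namespace Groth.Agent.Pi1Alg

variable {A : Type u} [CommRing A]

section Base

variable (M : Type u) [AddCommGroup M] [Module A M]

/-- `M_x`. -/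
abbrev L (x : A) := LocalizedModule (Submonoid.powers x) M

/-- `M → M_x`. -/
abbrev mk (x : A) : M →ₗ[A] L M x := LocalizedModule.mkLinearMap (Submonoid.powers x) M

theorem pow_injective {x y : A} (h : x ∣ y) (n : ℕ) : Function.Injective fun a : L M y => x ^ n • a := by
  obtain ⟨c, rfl⟩ := h
  intro a b hab
  refine IsLocalizedModule.smul_injective (mk M (x * c)) (⟨(x * c) ^ n, n, rfl⟩ : Submonoid.powers (x * c)) ?_
  show ((x * c) ^ n) • a = ((x * c) ^ n) • b
  rw [mul_pow, mul_comm (x ^ n) (c ^ n), mul_smul, mul_smul]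
  exact congrArg (fun v => c ^ n • v) hab

theorem exists_mk {x : A} (z : L M x) : ∃ (n : ℕ) (m : M), x ^ n • z = mk M x m := by
  obtain ⟨⟨m, ⟨_, n, rfl⟩⟩, h⟩ := IsLocalizedModule.surj (Submonoid.powers x) (mk M x) z
  exact ⟨n, m, h⟩

theorem mk_eq_zero {x : A} {m : M} : mk M x m = 0 ↔ ∃ n : ℕ, x ^ n • m = 0 := by
  rw [IsLocalizedModule.eq_zero_iff (Submonoid.powers x) (mk M x)]
  exact ⟨fun ⟨⟨_, n, rfl⟩, h⟩ => ⟨n, h⟩, fun ⟨n, h⟩ => ⟨⟨_, n, rfl⟩, h⟩⟩

theorem units_of_dvd {x y : A} (h : x ∣ y) (s : Submonoid.powers x) :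
    IsUnit (algebraMap A (Module.End A (L M y)) (s : A)) := by
  obtain ⟨c, rfl⟩ := h
  obtain ⟨_, n, rfl⟩ := s
  have h1 := IsLocalizedModule.map_units (mk M (x * c)) (⟨(x * c) ^ n, n, rfl⟩ : Submonoid.powers (x * c))
  change IsUnit (algebraMap A (Module.End A (L M (x * c))) ((x * c) ^ n)) at h1
  rw [mul_pow, map_mul] at h1
  exact ((Commute.isUnit_mul_iff (Algebra.commute_algebraMap_left _ _)).1 h1).1

/-- Restriction. -/
def res {x y : A} (h : x ∣ y) : L M x →ₗ[A] L M y :=
  IsLocalizedModule.lift (Submonoid.powers x) (mk M x) (mk M y) (units_of_dvd M h)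

theorem res_mk {x y : A} (h : x ∣ y) (m : M) : res M h (mk M x m) = mk M y m :=
  IsLocalizedModule.lift_apply _ _ _ _ _

theorem res_res {x y w : A} (h : x ∣ y) (h' : y ∣ w) (z : L M x) :
    res M h' (res M h z) = res M (h.trans h') z := by
  obtain ⟨n, m, hm⟩ := exists_mk M z
  refine pow_injective M (h.trans h') n ?_
  show x ^ n • res M h' (res M h z) = x ^ n • res M (h.trans h') z
  rw [← map_smul, ← map_smul, hm, res_mk, res_mk, ← map_smul, hm, res_mk]

theorem res_self {x : A} (h : x ∣ x) (z : L M x) : res M h z = z := by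
  obtain ⟨n, m, hm⟩ := exists_mk M z
  refine pow_injective M h n ?_
  show x ^ n • res M h z = x ^ n • z
  rw [← map_smul, hm, res_mk]

theorem res_bijective {x y : A} (h : x ∣ y) (h' : y ∣ x) : Function.Bijective (res M h) :=
  Function.bijective_iff_has_inverse.2 ⟨res M h', fun z => by rw [res_res, res_self],
    fun z => by rw [res_res, res_self]⟩

theorem res_eq_zero {x y w : A} (h : x ∣ w) (hw : w ∣ x * y) (z : L M x) (hz : res M h z = 0) :
    ∃ k : ℕ, y ^ k • z = 0 := by
  have hz' : res M (dvd_mul_right x y) z = 0 := by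
    rw [← res_res M h hw, hz, map_zero]
  obtain ⟨n, m, hm⟩ := exists_mk M z
  have h0 : mk M (x * y) m = 0 := by
    rw [← res_mk M (dvd_mul_right x y), ← hm, map_smul, hz', smul_zero]
  obtain ⟨k, hk⟩ := (mk_eq_zero M).1 h0
  refine ⟨k, pow_injective M dvd_rfl (n + k) ?_⟩
  show x ^ (n + k) • (y ^ k • z) = x ^ (n + k) • 0
  rw [smul_zero, pow_add, mul_smul, smul_comm (x ^ k) (y ^ k), ← mul_smul (y ^ k), ← mul_pow, mul_comm y,
    smul_comm, hm, ← map_smul, hk, map_zero]

theorem exists_res {x y w : A} (h : x ∣ w) (hy : y ∣ w) (hw : w ∣ x * y) (z : L M w) :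
    ∃ (k : ℕ) (a : L M x), res M h a = y ^ k • z := by
  obtain ⟨a, ha⟩ := (res_bijective M (dvd_refl w) (dvd_refl w)).2 z
  obtain ⟨n, m, hm⟩ := exists_mk M (res M hw z)
  refine ⟨n, ?_⟩
  obtain ⟨u, hu⟩ : ∃ u : L M x, x ^ n • u = mk M x m := by
    obtain ⟨u, hu⟩ := ((Module.End.isUnit_iff _).1 (units_of_dvd M (dvd_refl x)
      (⟨x ^ n, n, rfl⟩ : Submonoid.powers x))).2 (mk M x m)
    exact ⟨u, hu⟩
  have hinj : Function.Injective (res M hw) := fun a b hab => by
    obtain ⟨s, hs⟩ : ∃ s : ℕ, (x * y) ∣ w ^ s := ⟨2, by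
      rw [pow_two]; exact mul_dvd_mul h hy⟩
    obtain ⟨l, m', hm'⟩ := exists_mk M (a - b)
    have h1 : mk M (x * y) m' = 0 := by
      rw [← res_mk M hw, ← hm', map_smul, map_sub, hab, sub_self, smul_zero]
    obtain ⟨k, hk⟩ := (mk_eq_zero M).1 h1
    obtain ⟨c, hc⟩ := pow_dvd_pow_of_dvd hs k
    refine sub_eq_zero.1 (pow_injective M (dvd_refl w) l ((hm'.trans ((mk_eq_zero M).2 ⟨s * k, ?_⟩)).trans (smul_zero _).symm))
    rw [pow_mul, hc, mul_comm, mul_smul, hk, smul_zero]
  refine ⟨u, hinj (pow_injective M (dvd_mul_right x y) n ?_)⟩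
  show x ^ n • res M hw (res M h u) = x ^ n • res M hw (y ^ n • z)
  rw [← map_smul, ← map_smul, hu, res_mk, res_mk, map_smul, ← mul_smul, ← mul_pow, hm]

end Base

section Map

variable {M N P : Type u} [AddCommGroup M] [Module A M] [AddCommGroup N] [Module A N] [AddCommGroup P] [Module A P]

/-- Localisation of a map. -/
def mapL (f : M →ₗ[A] N) (x : A) : L M x →ₗ[A] L N x :=
  IsLocalizedModule.map (Submonoid.powers x) (mk M x) (mk N x) f

theorem mapL_mk (f : M →ₗ[A] N) {x : A} (m : M) : mapL f x (mk M x m) = mk N x (f m) :=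
  IsLocalizedModule.map_apply _ _ _ _ _

theorem mapL_res (f : M →ₗ[A] N) {x y : A} (h : x ∣ y) (z : L M x) :
    mapL f y (res M h z) = res N h (mapL f x z) := by
  obtain ⟨n, m, hm⟩ := exists_mk M z
  refine pow_injective N h n ?_
  show x ^ n • mapL f y (res M h z) = x ^ n • res N h (mapL f x z)
  rw [← map_smul, ← map_smul, ← map_smul, ← map_smul, hm, res_mk, mapL_mk, mapL_mk, res_mk]

theorem mapL_injective (f : M →ₗ[A] N) (x : A) (h : ∀ m, f m = 0 → ∃ k : ℕ, x ^ k • m = 0) :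
    Function.Injective (mapL f x) := (injective_iff_map_eq_zero _).2 fun z hz => by
  obtain ⟨n, m, hm⟩ := exists_mk M z
  have h1 : mk N x (f m) = 0 := by rw [← mapL_mk, ← hm, map_smul, hz, smul_zero]
  obtain ⟨k, hk⟩ := (mk_eq_zero N).1 h1
  obtain ⟨l, hl⟩ := h (x ^ k • m) (by rw [map_smul, hk])
  refine pow_injective M dvd_rfl n ((hm.trans ((mk_eq_zero M).2 ⟨l + k, ?_⟩)).trans (smul_zero _).symm)
  rw [pow_add, mul_smul, hl]

theorem mapL_exact {i : M →ₗ[A] N} {π : N →ₗ[A] P} (h : Function.Exact i π) (x : A) :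
    Function.Exact (mapL i x) (mapL π x) :=
  IsLocalizedModule.map_exact (Submonoid.powers x) (mk M x) (mk N x) (mk P x) i π h

theorem mapL_surjective {π : N →ₗ[A] P} (h : Function.Surjective π) (x : A) :
    Function.Surjective (mapL π x) :=
  IsLocalizedModule.map_surjective (Submonoid.powers x) (mk N x) (mk P x) π h

end Map

section Cech

variable {ι : Type} (g : ι → A)

theorem dvd_fst (a b : A) : a ∣ a * b := dvd_mul_right a b

theorem dvd_snd (a b : A) : b ∣ a * b := dvd_mul_left b a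

theorem dvd12 (a b c : A) : a * b ∣ a * b * c := dvd_mul_right _ _

theorem dvd23 (a b c : A) : b * c ∣ a * b * c := ⟨a, by ring⟩

theorem dvd13 (a b c : A) : a * c ∣ a * b * c := ⟨b, by ring⟩

variable (M : Type u) [AddCommGroup M] [Module A M]

/-- The cochains. -/
abbrev C0 := ∀ j, L M (g j)

/-- The cochains. -/
abbrev C1 := ∀ j k, L M (g j * g k)

/-- The differential. -/
def d0 : C0 g M →ₗ[A] C1 g M :=
  LinearMap.pi fun j => LinearMap.pi fun k =>
    res M (dvd_fst (g j) (g k)) ∘ₗ LinearMap.proj j - res M (dvd_snd (g j) (g k)) ∘ₗ LinearMap.proj k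

theorem d0_apply (z : C0 g M) (j k : ι) :
    d0 g M z j k = res M (dvd_fst (g j) (g k)) (z j) - res M (dvd_snd (g j) (g k)) (z k) := rfl

/-- The cocycles. -/
def Z1 : Submodule A (C1 g M) where
  carrier := {c | ∀ j k l, res M (dvd12 (g j) (g k) (g l)) (c j k) + res M (dvd23 (g j) (g k) (g l)) (c k l)
    = res M (dvd13 (g j) (g k) (g l)) (c j l)}
  zero_mem' j k l := by simp
  add_mem' {a b} ha hb j k l := by
    simp only [Pi.add_apply, map_add]
    rw [← ha j k l, ← hb j k l]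
    abel
  smul_mem' r a ha j k l := by
    simp only [Pi.smul_apply, map_smul]
    rw [← smul_add, ha j k l]

theorem mem_Z1 {c : C1 g M} : c ∈ Z1 g M ↔ ∀ j k l, res M (dvd12 (g j) (g k) (g l)) (c j k) +
    res M (dvd23 (g j) (g k) (g l)) (c k l) = res M (dvd13 (g j) (g k) (g l)) (c j l) := Iff.rfl

/-- The coboundaries. -/
def B1 : Submodule A (C1 g M) := LinearMap.range (d0 g M)

/-- The sections. -/
def H0 : Submodule A (C0 g M) := LinearMap.ker (d0 g M)

theorem mem_H0 {z : C0 g M} : z ∈ H0 g M ↔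
    ∀ j k, res M (dvd_fst (g j) (g k)) (z j) = res M (dvd_snd (g j) (g k)) (z k) := by
  simp only [H0, LinearMap.mem_ker, funext_iff, d0_apply, Pi.zero_apply, sub_eq_zero]

theorem B1_le_Z1 : B1 g M ≤ Z1 g M := by
  rintro _ ⟨z, rfl⟩ j k l
  simp only [d0_apply, map_sub, res_res]
  abel

/-- The canonical map. -/
def Φ : M →ₗ[A] C0 g M := LinearMap.pi fun j => mk M (g j)

theorem d0_Φ (m : M) : d0 g M (Φ g M m) = 0 := by
  funext j k
  show res M (dvd_fst (g j) (g k)) (mk M (g j) m) - res M (dvd_snd (g j) (g k)) (mk M (g k) m) = 0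
  rw [res_mk, res_mk, sub_self]

theorem range_Φ_le : LinearMap.range (Φ g M) ≤ H0 g M := by
  rintro _ ⟨m, rfl⟩
  exact d0_Φ g M m

/-- The classes of cocycles are finitely generated. -/
def H1FG : Prop := ((Z1 g M).map (B1 g M).mkQ).FG

theorem exists_pow_smul_mem_B1 [Fintype ι] (c : C1 g M) (hc : c ∈ Z1 g M) (l : ι) :
    ∃ n : ℕ, g l ^ n • c ∈ B1 g M := by
  classical
  choose n a ha using fun j => exists_res M (dvd_fst (g j) (g l)) (dvd_snd (g j) (g l)) dvd_rfl (c j l)
  let N := Finset.univ.sup n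
  let w : C0 g M := fun j => g l ^ (N - n j) • a j
  have hw : ∀ j, res M (dvd_fst (g j) (g l)) (w j) = g l ^ N • c j l := fun j => by
    rw [map_smul, ha, ← mul_smul, ← pow_add, Nat.sub_add_cancel (Finset.le_sup (Finset.mem_univ j))]
  have hres : ∀ j k, res M (dvd12 (g j) (g k) (g l)) (d0 g M w j k - g l ^ N • c j k) = 0 := by
    intro j k
    have e1 : res M ((dvd_fst (g j) (g k)).trans (dvd12 (g j) (g k) (g l))) (w j) =
        g l ^ N • res M (dvd13 (g j) (g k) (g l)) (c j l) := by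
      rw [← map_smul, ← hw, res_res]
    have e2 : res M ((dvd_snd (g j) (g k)).trans (dvd12 (g j) (g k) (g l))) (w k) =
        g l ^ N • res M (dvd23 (g j) (g k) (g l)) (c k l) := by
      rw [← map_smul, ← hw, res_res]
    rw [d0_apply, map_sub, map_sub, res_res, res_res,
      map_smul (res M (dvd12 (g j) (g k) (g l))) (g l ^ N) (c j k), e1, e2, ← (mem_Z1 g M).1 hc j k l, smul_add]
    abel
  choose s hs using fun p : ι × ι => res_eq_zero M (dvd12 (g p.1) (g p.2) (g l)) dvd_rfl _ (hres p.1 p.2)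
  let S := Finset.univ.sup s
  refine ⟨S + N, g l ^ S • w, ?_⟩
  funext j k
  have := hs (j, k)
  have hS : g l ^ S • (d0 g M w j k - g l ^ N • c j k) = 0 := by
    rw [← Nat.sub_add_cancel (show s (j, k) ≤ S from Finset.le_sup (f := s) (Finset.mem_univ (j, k))), pow_add, mul_smul, this, smul_zero]
  rw [map_smul, Pi.smul_apply, Pi.smul_apply, Pi.smul_apply, Pi.smul_apply, pow_add, mul_smul]
  exact sub_eq_zero.1 ((smul_sub _ _ _).symm.trans hS)

/-- A uniform power kills the classes of cocycles. -/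
theorem exists_kill [Fintype ι] (h : H1FG g M) (l : ι) :
    ∃ K : ℕ, ∀ c ∈ Z1 g M, g l ^ K • c ∈ B1 g M := by
  classical
  obtain ⟨s, hs⟩ := h
  have hmem : ∀ q ∈ s, ∃ n : ℕ, g l ^ n • q = 0 := fun q hq => by
    have hq' : q ∈ (Z1 g M).map (B1 g M).mkQ := hs ▸ Submodule.subset_span hq
    obtain ⟨c, hc, rfl⟩ := hq'
    obtain ⟨n, hn⟩ := exists_pow_smul_mem_B1 g M c hc l
    exact ⟨n, by rw [← map_smul, Submodule.mkQ_apply, Submodule.Quotient.mk_eq_zero]; exact hn⟩
  choose n hn using hmem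
  let K := s.attach.sup fun q => n q.1 q.2
  refine ⟨K, fun c hc => (Submodule.Quotient.mk_eq_zero _).1 ?_⟩
  rw [← Submodule.mkQ_apply, map_smul]
  have hz : ∀ z ∈ Submodule.span A (s : Set (C1 g M ⧸ B1 g M)), g l ^ K • z = 0 := by
    intro z hz
    induction hz using Submodule.span_induction with
    | mem q hq =>
      rw [← Nat.sub_add_cancel (show n q hq ≤ K from Finset.le_sup (f := fun q : {x // x ∈ s} => n q.1 q.2)
        (Finset.mem_attach s ⟨q, hq⟩)), pow_add, mul_smul, hn q hq, smul_zero]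
    | zero => rw [smul_zero]
    | add a b _ _ ha hb => rw [smul_add, ha, hb, add_zero]
    | smul r a _ ha => rw [smul_comm, ha, smul_zero]
  exact hz _ (hs ▸ Submodule.mem_map_of_mem hc)

end Cech

section Seq

variable {ι : Type} (g : ι → A)
variable {M F Q : Type u} [AddCommGroup M] [Module A M] [AddCommGroup F] [Module A F] [AddCommGroup Q] [Module A Q]

/-- The map of cochains. -/
def map0 (f : M →ₗ[A] F) : C0 g M →ₗ[A] C0 g F :=
  LinearMap.pi fun j => mapL f (g j) ∘ₗ LinearMap.proj j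

/-- The map of cochains. -/
def map1 (f : M →ₗ[A] F) : C1 g M →ₗ[A] C1 g F :=
  LinearMap.pi fun j => LinearMap.pi fun k => mapL f (g j * g k) ∘ₗ LinearMap.proj k ∘ₗ LinearMap.proj j

theorem d0_map (f : M →ₗ[A] F) (z : C0 g M) : d0 g F (map0 g f z) = map1 g f (d0 g M z) := by
  funext j k
  show res F (dvd_fst (g j) (g k)) (mapL f _ (z j)) - res F (dvd_snd (g j) (g k)) (mapL f _ (z k)) =
    mapL f _ (d0 g M z j k)
  rw [← mapL_res, ← mapL_res, ← map_sub]
  rfl

theorem map1_mem_Z1 (f : M →ₗ[A] F) {c : C1 g M} (hc : c ∈ Z1 g M) : map1 g f c ∈ Z1 g F := fun j k l => by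
  show res F _ (mapL f _ (c j k)) + res F _ (mapL f _ (c k l)) = res F _ (mapL f _ (c j l))
  rw [← mapL_res, ← mapL_res, ← mapL_res, ← map_add, hc j k l]

theorem map0_Φ (f : M →ₗ[A] F) (m : M) : map0 g f (Φ g M m) = Φ g F (f m) :=
  funext fun _ => mapL_mk f m

theorem map0_mem_H0 (f : M →ₗ[A] F) {z : C0 g M} (hz : z ∈ H0 g M) : map0 g f z ∈ H0 g F := by
  rw [H0, LinearMap.mem_ker, d0_map, LinearMap.mem_ker.1 hz, map_zero]

variable (i : M →ₗ[A] F) (π : F →ₗ[A] Q)

theorem finite_H0_of_injective [IsNoetherianRing A] (hinj : ∀ j, Function.Injective (mapL i (g j)))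
    [Module.Finite A (H0 g F)] : Module.Finite A (H0 g M) := by
  let f : H0 g M →ₗ[A] H0 g F := (map0 g i).restrict fun z hz => map0_mem_H0 g i hz
  refine Module.Finite.of_injective f fun a b hab => Subtype.ext (funext fun j => hinj j ?_)
  exact congrFun (congrArg Subtype.val hab) j

/-- The long exact sequence, in degree one. -/
theorem h1FG_of_exact [Fintype ι] [IsNoetherianRing A] (hπi : Function.Exact i π) (hinj : ∀ x ∈ Set.range g, ∀ y : A,
      Function.Injective (mapL i (x * y)))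
    (hF : H1FG g F) (hQ : Module.Finite A ((H0 g Q) ⧸ ((H0 g F).map (map0 g π)).comap (H0 g Q).subtype)) :
    H1FG g M := by
  have hinj1 : ∀ j k, Function.Injective (mapL i (g j * g k)) := fun j k => hinj _ ⟨j, rfl⟩ _
  have hinj0 : ∀ j, Function.Injective (mapL i (g j)) := fun j => by
    have := hinj (g j) ⟨j, rfl⟩ 1
    rwa [mul_one] at this
  have hπ0 : ∀ (e : C0 g M), map0 g π (map0 g i e) = 0 := fun e => funext fun j =>
    (mapL_exact hπi (g j)).apply_apply_eq_zero (e j)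
  let P : Submodule A (C0 g F) := (H0 g Q).comap (map0 g π)
  have hmem : ∀ e : P, d0 g F (e : C0 g F) ∈ LinearMap.range (map1 g i) := fun e => by
    have h0 : ∀ j k, mapL π (g j * g k) (d0 g F (e : C0 g F) j k) = 0 := fun j k => by
      have := congrFun (congrFun (LinearMap.mem_ker.1 e.2) j) k
      rw [d0_map] at this
      exact this
    choose c hc using fun j k => (mapL_exact hπi (g j * g k) _).1 (h0 j k)
    exact ⟨c, funext fun j => funext fun k => hc j k⟩
  have hker : LinearMap.ker (map1 g i) = ⊥ := LinearMap.ker_eq_bot.2 fun a b hab =>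
    funext fun j => funext fun k => hinj1 j k (congrFun (congrFun hab j) k)
  let ι1 := LinearEquiv.ofInjective (map1 g i) (LinearMap.ker_eq_bot.1 hker)
  let θ : P →ₗ[A] C1 g M := ι1.symm.toLinearMap ∘ₗ LinearMap.codRestrict _ (d0 g F ∘ₗ P.subtype) hmem
  have hθ : ∀ e : P, map1 g i (θ e) = d0 g F (e : C0 g F) := fun e => by
    have := LinearEquiv.apply_symm_apply ι1 ⟨d0 g F (e : C0 g F), hmem e⟩
    exact congrArg Subtype.val this
  let K : Submodule A P := (((H0 g F).map (map0 g π))).comap (map0 g π ∘ₗ P.subtype)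
  have hK : K ≤ LinearMap.ker ((B1 g M).mkQ ∘ₗ θ) := by
    rintro e ⟨e', he', heq⟩
    have heq' : map0 g π ((e : C0 g F) - e') = 0 := by rw [map_sub, sub_eq_zero]; exact heq.symm
    choose w hw using fun j => (mapL_exact hπi (g j) _).1 (congrFun heq' j)
    rw [LinearMap.mem_ker, LinearMap.comp_apply, Submodule.mkQ_apply, Submodule.Quotient.mk_eq_zero]
    refine ⟨w, LinearMap.ker_eq_bot.1 hker ?_⟩
    rw [hθ, ← d0_map, show map0 g i w = (e : C0 g F) - e' from funext hw, map_sub,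
      LinearMap.mem_ker.1 he', sub_zero]
  haveI : Module.Finite A (P ⧸ K) := by
    let q : P →ₗ[A] H0 g Q := (map0 g π).restrict (fun e he => he)
    refine Module.Finite.of_injective (Submodule.mapQ K (((H0 g F).map (map0 g π)).comap (H0 g Q).subtype) q
      (fun e he => he)) ((injective_iff_map_eq_zero _).2 ?_)
    intro z hz
    obtain ⟨e, rfl⟩ := Submodule.Quotient.mk_surjective _ z
    exact (Submodule.Quotient.mk_eq_zero _).2
      ((Submodule.Quotient.mk_eq_zero _).1 hz : q e ∈ ((H0 g F).map (map0 g π)).comap (H0 g Q).subtype)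
  let f : (C1 g M ⧸ B1 g M) →ₗ[A] (C1 g F ⧸ B1 g F) := Submodule.mapQ _ _ (map1 g i) (by
    rintro _ ⟨z, rfl⟩
    exact ⟨map0 g i z, d0_map g i z⟩)
  refine Submodule.fg_of_fg_map_of_fg_inf_ker f (Submodule.FG.of_le hF ?_) ?_
  · rintro _ ⟨_, ⟨c, hc, rfl⟩, rfl⟩
    exact ⟨_, map1_mem_Z1 g i hc, rfl⟩
  · refine Submodule.FG.of_le (T := LinearMap.range (K.liftQ ((B1 g M).mkQ ∘ₗ θ) hK))
      (Module.Finite.iff_fg.1 inferInstance) ?_
    rintro _ ⟨⟨c, hc, rfl⟩, hf⟩
    have hf' : map1 g i c ∈ B1 g F := (Submodule.Quotient.mk_eq_zero _).1 hf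
    obtain ⟨e, he⟩ := hf'
    have heP : e ∈ P := by
      show map0 g π e ∈ H0 g Q
      rw [H0, LinearMap.mem_ker, d0_map, he]
      exact funext fun j => funext fun k => (mapL_exact hπi _).apply_apply_eq_zero (c j k)
    refine ⟨Submodule.Quotient.mk ⟨e, heP⟩, ?_⟩
    show (B1 g M).mkQ (θ ⟨e, heP⟩) = (B1 g M).mkQ c
    rw [LinearMap.ker_eq_bot.1 hker ((hθ ⟨e, heP⟩).trans he)]

end Seq

end Groth.Agent.Pi1Alg

end
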