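import Groth.Agent.Pi1Alg.Cech
import Groth.Agent.PunctAlg.Finite
import Groth.Agent.S11600
import Groth.Agent.S11590

/-!
# Čech cohomology in low degrees and local cohomology
-/

set_option autoImplicit false
set_option linter.unusedSectionVars false
universe u

open CategoryTheory CategoryTheory.Limits

noncomputable section

namespace Groth.Agent.Pi1Alg

open Groth.Agent

variable {A : Type u} [CommRing A] [IsNoetherianRing A] {ι : Type} [Fintype ι] (g : ι → A)
variable (M : Type u) [AddCommGroup M] [Module A M]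

/-- The ideal of the cover. -/
abbrev idl : Ideal A := Ideal.span (Set.range g)

theorem exists_pow_le {J : Ideal A} (h : ∀ j, ∃ n : ℕ, g j ^ n ∈ J) : ∃ n : ℕ, idl g ^ n ≤ J :=
  Ideal.exists_pow_le_of_le_radical_of_fg (Ideal.span_le.2 (by rintro _ ⟨j, rfl⟩; exact h j))
    (IsNoetherian.noetherian _)

theorem ker_Φ_le : LinearMap.ker (Φ g M) ≤ DRing.torsionSub (idl g) M := fun m hm => by
  obtain ⟨n, hn⟩ := exists_pow_le g (J := LinearMap.ker (LinearMap.toSpanSingleton A M m)) fun j =>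
    (mk_eq_zero M).1 (congrFun (LinearMap.mem_ker.1 hm) j)
  exact ⟨n, fun b hb => hn hb⟩

theorem exists_pow_smul_mem_range (z : C0 g M) (hz : z ∈ H0 g M) (l : ι) :
    ∃ n : ℕ, g l ^ n • z ∈ LinearMap.range (Φ g M) := by
  classical
  obtain ⟨n, m, hm⟩ := exists_mk M (z l)
  have h0 : ∀ j, res M (dvd_fst (g j) (g l)) (g l ^ n • z j - mk M (g j) m) = 0 := fun j => by
    rw [map_sub, map_smul, (mem_H0 g M).1 hz j l, ← map_smul, hm, res_mk, res_mk, sub_self]
  choose s hs using fun j => res_eq_zero M (dvd_fst (g j) (g l)) dvd_rfl _ (h0 j)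
  let S := Finset.univ.sup s
  refine ⟨S + n, g l ^ S • m, ?_⟩
  funext j
  have hS : g l ^ S • (g l ^ n • z j - mk M (g j) m) = 0 := by
    rw [← Nat.sub_add_cancel (show s j ≤ S from Finset.le_sup (f := s) (Finset.mem_univ j)), pow_add, mul_smul,
      hs, smul_zero]
  rw [map_smul, Pi.smul_apply, Pi.smul_apply, pow_add, mul_smul]
  exact (sub_eq_zero.1 ((smul_sub _ _ _).symm.trans hS)).symm

/-- The sections map into the ideal transform. -/
theorem exists_toDT : ∃ ψ : H0 g M →ₗ[A] LocCoh.DT (idl g) M, Function.Injective ψ ∧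
    ∀ m, ψ ⟨Φ g M m, d0_Φ g M m⟩ = LocCoh.toDT (idl g) M m := by
  let e : M →ₗ[A] H0 g M := LinearMap.codRestrict _ (Φ g M) fun m => d0_Φ g M m
  have hco : ∀ (z : H0 g M) (l : ι), ∃ n : ℕ, g l ^ n • z ∈ LinearMap.range e := fun z l => by
    obtain ⟨n, m, hm⟩ := exists_pow_smul_mem_range g M z.1 z.2 l
    exact ⟨n, m, Subtype.ext hm⟩
  have hker : LinearMap.ker e ≤ DRing.torsionSub (idl g) M := fun m hm =>
    ker_Φ_le g M (congrArg Subtype.val (LinearMap.mem_ker.1 hm))
  obtain ⟨ψ, hψ, -⟩ := S11600.result A (idl g) M (H0 g M) M e hker (fun q => by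
      obtain ⟨z, rfl⟩ := Submodule.Quotient.mk_surjective _ q
      obtain ⟨n, hn⟩ := exists_pow_le g (J := (LinearMap.range e).comap (LinearMap.toSpanSingleton A _ z))
        (hco z)
      exact ⟨n, fun b hb => by
        rw [← Submodule.Quotient.mk_smul, Submodule.Quotient.mk_eq_zero]; exact hn hb⟩) LinearMap.id
  have hψ' : ∀ m, ψ (e m) = LocCoh.toDT (idl g) M m := fun m => LinearMap.congr_fun hψ m
  refine ⟨ψ, (injective_iff_map_eq_zero _).2 fun z hz => Subtype.ext (funext fun j => ?_), hψ'⟩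
  obtain ⟨n, m, hm⟩ := hco z j
  have hm0 : LocCoh.toDT (idl g) M m = 0 := by rw [← hψ', hm, map_smul, hz, smul_zero]
  obtain ⟨k, hk⟩ := (S11590.result A (idl g) M).le (LinearMap.mem_ker.2 hm0)
  refine pow_injective M dvd_rfl (k + n) ?_
  show g j ^ (k + n) • (z : C0 g M) j = g j ^ (k + n) • 0
  rw [smul_zero, pow_add, mul_smul, show g j ^ n • (z : C0 g M) j = mk M (g j) m from
      (congrFun (congrArg Subtype.val hm) j).symm,
    ← map_smul, hk (g j ^ k) (Ideal.pow_mem_pow (Ideal.subset_span (Set.mem_range_self j)) k), map_zero]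

theorem finite_H0 [Module.Finite A M] (h1 : Module.Finite A (LocCoh.H (idl g) 1 M)) :
    Module.Finite A (H0 g M) := by
  obtain ⟨ψ, hψ, -⟩ := exists_toDT g M
  obtain ⟨e⟩ := LC.nonempty_cokerToDT (idl g) (ModuleCat.of A M)
  haveI := h1
  haveI : Module.Finite A (LocCoh.DT (idl g) M ⧸ LinearMap.range (LocCoh.toDT (idl g) M)) :=
    Module.Finite.equiv e.symm
  haveI : Module.Finite A (LocCoh.DT (idl g) M) :=
    Module.Finite.of_submodule_quotient (LinearMap.range (LocCoh.toDT (idl g) M))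
  exact Module.Finite.of_injective ψ hψ

theorem finite_coker_Φ (h1 : Module.Finite A (LocCoh.H (idl g) 1 M)) :
    Module.Finite A (H0 g M ⧸ (LinearMap.range (Φ g M)).comap (H0 g M).subtype) := by
  obtain ⟨ψ, hψ, hψΦ⟩ := exists_toDT g M
  obtain ⟨e⟩ := LC.nonempty_cokerToDT (idl g) (ModuleCat.of A M)
  haveI := h1
  haveI : Module.Finite A (LocCoh.DT (idl g) M ⧸ LinearMap.range (LocCoh.toDT (idl g) M)) :=
    Module.Finite.equiv e.symm
  refine Module.Finite.of_injective (Submodule.mapQ _ (LinearMap.range (LocCoh.toDT (idl g) M)) ψ ?_)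
    ((injective_iff_map_eq_zero _).2 fun q hq => ?_)
  · rintro z ⟨m, hm⟩
    exact ⟨m, (hψΦ m).symm.trans (congrArg ψ (Subtype.ext hm))⟩
  · obtain ⟨z, rfl⟩ := Submodule.Quotient.mk_surjective _ q
    obtain ⟨m, hm⟩ := ((Submodule.Quotient.mk_eq_zero _).1 hq : ψ z ∈ LinearMap.range (LocCoh.toDT (idl g) M))
    exact (Submodule.Quotient.mk_eq_zero _).2 ⟨m, congrArg Subtype.val (hψ ((hψΦ m).trans hm))⟩

theorem exists_Φ_of_injective (E : ModuleCat.{u} A) [Injective E] (z : C0 g E) (hz : z ∈ H0 g E) :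
    ∃ e : E, Φ g E e = z := by
  obtain ⟨ψ, hψ, hψΦ⟩ := exists_toDT g E
  obtain ⟨e⟩ := LC.nonempty_cokerToDT (idl g) E
  haveI := LC.subsingleton_of_injective (idl g) E 0
  haveI : Subsingleton (LocCoh.DT (idl g) E ⧸ LinearMap.range (LocCoh.toDT (idl g) E)) :=
    e.toEquiv.subsingleton
  obtain ⟨m, hm⟩ := (Submodule.Quotient.mk_eq_zero (LinearMap.range (LocCoh.toDT (idl g) E))).1
    (Subsingleton.elim (Submodule.Quotient.mk (ψ ⟨z, hz⟩)) 0)
  exact ⟨m, congrArg Subtype.val (hψ ((hψΦ m).trans hm))⟩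

omit [IsNoetherianRing A] [Fintype ι] in
theorem res_transfer {x y w : A} (h : x ∣ w) (h' : w ∣ y) (hxy : x ∣ y) (z : L M x) :
    res M h' (res M h z) = res M hxy z := res_res M h h' z

theorem Z1_diag {c : C1 g M} (hc : c ∈ Z1 g M) (j : ι) : c j j = 0 := by
  have h := hc j j j
  have h' : res M (dvd12 (g j) (g j) (g j)) (c j j) = 0 :=
    add_eq_left.1 h
  obtain ⟨k, hk⟩ := res_eq_zero M (dvd12 (g j) (g j) (g j)) dvd_rfl _ h'
  exact pow_injective M (dvd_fst (g j) (g j)) k (hk.trans (smul_zero _).symm)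

theorem d0_eq_of_Z1 {c : C1 g M} (hc : c ∈ Z1 g M) (z : C0 g M) (j k : ι)
    (h : d0 g M z j k = c j k) : d0 g M z k j = c k j := by
  have hdj := Z1_diag g M hc j
  have hd : c - d0 g M z ∈ Z1 g M := sub_mem hc (B1_le_Z1 g M ⟨z, rfl⟩)
  have h1 := hd j k j
  rw [Z1_diag g M hd j, map_zero] at h1
  have h2 : (c - d0 g M z) j k = 0 := by
    show c j k - d0 g M z j k = 0
    rw [h, sub_self]
  rw [h2, map_zero, zero_add] at h1
  obtain ⟨n, hn⟩ := res_eq_zero M (y := g j) (dvd23 (g j) (g k) (g j)) ⟨1, by ring⟩ _ h1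
  exact (sub_eq_zero.1 (pow_injective M (dvd_snd (g k) (g j)) n (hn.trans (smul_zero _).symm) :
    c k j - d0 g M z k j = 0)).symm

theorem exists_d0_of_injective (E : ModuleCat.{u} A) [Injective E] {c : C1 g E} (hc : c ∈ Z1 g E) :
    ∃ z, d0 g E z = c := by
  classical
  suffices h : ∀ s : Finset ι, ∃ z : C0 g E, ∀ j ∈ s, ∀ k ∈ s, d0 g E z j k = c j k by
    obtain ⟨z, hz⟩ := h Finset.univ
    exact ⟨z, funext fun j => funext fun k => hz j (Finset.mem_univ _) k (Finset.mem_univ _)⟩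
  intro s
  induction s using Finset.induction_on with
  | empty => exact ⟨0, by simp⟩
  | @insert a s ha ih =>
    obtain ⟨z, hz⟩ := ih
    -- the prescribed restrictions of the new entry
    let y : C0 (fun j : {j // j ∈ s} => g j.1 * g a) E := fun j =>
      res E (dvd_fst (g j.1) (g a)) (z j.1) - c j.1 a
    let fin : Fintype {j // j ∈ s} := inferInstance
    have hy : y ∈ H0 (fun j : {j // j ∈ s} => g j.1 * g a) E := by
      rw [mem_H0]
      intro j k
      let w := (g j.1 * g a) * (g k.1 * g a)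
      have d1 : g j.1 * g k.1 * g a ∣ w := ⟨g a, by ring⟩
      have e := hc j.1 k.1 a
      rw [← hz j.1 j.2 k.1 k.2, d0_apply, map_sub, res_res, res_res] at e
      have e' := congrArg (res E d1) e
      rw [map_add, map_sub, res_res, res_res, res_res, res_res] at e'
      simp only [y, map_sub, res_res]
      rw [sub_eq_sub_iff_sub_eq_sub, ← e']
      abel
    obtain ⟨e, he⟩ := exists_Φ_of_injective _ E y hy
    refine ⟨Function.update z a (mk E (g a) e), ?_⟩
    have hnew : ∀ j ∈ s, d0 g E (Function.update z a (mk E (g a) e)) j a = c j a := fun j hj => by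
      have h2 : mk E (g j * g a) e = res E (dvd_fst (g j) (g a)) (z j) - c j a := congrFun he ⟨j, hj⟩
      rw [d0_apply, Function.update_of_ne (ne_of_mem_of_not_mem hj ha), Function.update_self, res_mk, h2,
        sub_sub_cancel]
    intro j hj k hk
    rcases Finset.mem_insert.1 hj with h1 | h1 <;> rcases Finset.mem_insert.1 hk with h3 | h3
    · rw [h1, h3, Z1_diag g E hc, d0_apply, sub_self]
    · rw [h1]
      exact d0_eq_of_Z1 g E hc _ _ _ (hnew k h3)
    · rw [h3]
      exact hnew j h1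
    · rw [d0_apply, Function.update_of_ne (ne_of_mem_of_not_mem h1 ha),
        Function.update_of_ne (ne_of_mem_of_not_mem h3 ha)]
      exact hz j h1 k h3

theorem h1FG_of_H2 (h2 : Module.Finite A (LocCoh.H (idl g) 2 M)) : H1FG g M := by
  let N : ModuleCat.{u} A := ModuleCat.of A M
  let i := Injective.ι N
  let S : ShortComplex (ModuleCat.{u} A) := ShortComplex.mk i (cokernel.π i) (cokernel.condition _)
  have hS : S.ShortExact := { exact := ShortComplex.exact_cokernel i }
  haveI : Injective S.X₂ := inferInstanceAs (Injective (Injective.under N))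
  have hQ1 : Module.Finite A (LocCoh.H (idl g) 1 S.X₃) :=
    PunctAlg.finite_localCohomology_one (idl g) hS h2
  haveI := finite_coker_Φ g S.X₃ hQ1
  have hinj : Function.Injective S.f.hom := hS.moduleCat_injective_f
  have hex : Function.Exact S.f.hom S.g.hom :=
    (ShortComplex.ShortExact.moduleCat_exact_iff_function_exact S).1 hS.exact
  refine h1FG_of_exact g S.f.hom S.g.hom hex
    (fun x _ y => mapL_injective _ _ fun m hm => ⟨0, by rw [hinj (hm.trans (map_zero S.f.hom).symm), smul_zero]⟩) ?_ ?_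
  · have : (Z1 g S.X₂).map (B1 g S.X₂).mkQ = ⊥ := by
      rw [eq_bot_iff]
      rintro _ ⟨c, hc, rfl⟩
      exact (Submodule.Quotient.mk_eq_zero _).2 (exists_d0_of_injective g S.X₂ hc)
    unfold H1FG
    rw [this]
    exact Submodule.fg_bot
  · have hle : (LinearMap.range (Φ g S.X₃)).comap (H0 g S.X₃).subtype ≤
        ((H0 g S.X₂).map (map0 g S.g.hom)).comap (H0 g S.X₃).subtype := by
      rintro z ⟨q, hq⟩
      obtain ⟨e, rfl⟩ := hS.moduleCat_surjective_g q
      exact ⟨Φ g S.X₂ e, d0_Φ g S.X₂ e, (map0_Φ g S.g.hom e).trans hq⟩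
    exact Module.Finite.of_surjective (Submodule.factor hle) (Submodule.factor_surjective hle)

section Split

variable (R : Type u) [AddCommGroup R] [Module A R]

/-- A module which is locally a direct summand of a finite power of `R`. -/
def LS : Prop := ∀ j, ∃ (p : ℕ) (σ : M →ₗ[A] (Fin p → R)) (ρ : (Fin p → R) →ₗ[A] M) (b : ℕ),
    ∀ m, ρ (σ m) = g j ^ b • m

variable {M R}

theorem LS.exists_embedding (h : LS g M R) : ∃ (κ : Type) (_ : Fintype κ) (i : M →ₗ[A] (κ → R)),
    ∀ j, ∃ (ρ : (κ → R) →ₗ[A] M) (b : ℕ), ∀ m, ρ (i m) = g j ^ b • m := by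
  choose p σ ρ b hb using h
  refine ⟨Σ j, Fin (p j), inferInstance, LinearMap.pi fun q => LinearMap.proj q.2 ∘ₗ σ q.1, fun j =>
    ⟨ρ j ∘ₗ LinearMap.pi fun a : Fin (p j) => LinearMap.proj (⟨j, a⟩ : Σ j, Fin (p j)), b j, fun m => ?_⟩⟩
  exact hb j m

omit [IsNoetherianRing A] [Fintype ι] in
theorem mapL_injective_of_retr {κ : Type} (i : M →ₗ[A] (κ → R))
    (hi : ∀ j, ∃ (ρ : (κ → R) →ₗ[A] M) (b : ℕ), ∀ m, ρ (i m) = g j ^ b • m) :
    ∀ x ∈ Set.range g, ∀ y : A, Function.Injective (mapL i (x * y)) := by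
  rintro _ ⟨j, rfl⟩ y
  obtain ⟨ρ, b, hb⟩ := hi j
  refine mapL_injective i _ fun m hm => ⟨b, ?_⟩
  rw [mul_pow, mul_comm, mul_smul, ← hb m, hm, map_zero, smul_zero]

theorem finite_H0_pi {κ : Type} [Fintype κ] [Module.Finite A (H0 g R)] :
    Module.Finite A (H0 g (κ → R)) := by
  let f : H0 g (κ → R) →ₗ[A] (κ → H0 g R) :=
    LinearMap.pi fun a => (map0 g (LinearMap.proj a)).restrict fun z hz => map0_mem_H0 g _ hz
  refine Module.Finite.of_injective f ((injective_iff_map_eq_zero _).2 fun z hz => Subtype.ext (funext fun j => ?_))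
  obtain ⟨n, m, hm⟩ := exists_mk (κ → R) ((z : C0 g (κ → R)) j)
  have h0 : ∀ a, mk R (g j) (m a) = 0 := fun a => by
    have h' : mapL (LinearMap.proj (R := A) (φ := fun _ : κ => R) a) (g j) ((z : C0 g (κ → R)) j) = 0 :=
      congrFun (congrArg Subtype.val (congrFun hz a)) j
    refine (mapL_mk (LinearMap.proj (R := A) (φ := fun _ : κ => R) a) m).symm.trans ?_
    rw [← hm, map_smul, h', smul_zero]
  choose k hk using fun a => (mk_eq_zero R).1 (h0 a)
  refine pow_injective _ dvd_rfl n ((hm.trans ((mk_eq_zero _).2 ⟨Finset.univ.sup k, funext fun a => ?_⟩)).trans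
    (smul_zero _).symm)
  show g j ^ Finset.univ.sup k • m a = 0
  rw [← Nat.sub_add_cancel (show k a ≤ Finset.univ.sup k from Finset.le_sup (Finset.mem_univ a)), pow_add,
    mul_smul, hk, smul_zero]

omit [IsNoetherianRing A] [Fintype ι] in
theorem sum_single_mapL {κ : Type} [Fintype κ] [DecidableEq κ] (x : A) (z : L (κ → R) x) :
    ∑ a, mapL (LinearMap.single A (fun _ : κ => R) a) x (mapL (LinearMap.proj a) x z) = z := by
  obtain ⟨n, m, hm⟩ := exists_mk (κ → R) z
  refine pow_injective _ dvd_rfl n ?_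
  show x ^ n • _ = x ^ n • z
  rw [Finset.smul_sum, hm]
  simp only [← map_smul, hm, mapL_mk, LinearMap.proj_apply]
  rw [← map_sum]
  exact congrArg _ (Finset.univ_sum_single m)

theorem exists_d0_of_proj {κ : Type} [Fintype κ] (c : C1 g (κ → R))
    (h : ∀ a : κ, ∃ w, d0 g R w = map1 g (LinearMap.proj a) c) : ∃ z, d0 g (κ → R) z = c := by
  classical
  choose w hw using h
  refine ⟨∑ a, map0 g (LinearMap.single A (fun _ : κ => R) a) (w a), funext fun j => funext fun k => ?_⟩
  rw [map_sum]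
  rw [Finset.sum_apply, Finset.sum_apply]
  have hterm : ∀ a, d0 g (κ → R) (map0 g (LinearMap.single A (fun _ : κ => R) a) (w a)) j k =
      mapL (LinearMap.single A (fun _ : κ => R) a) (g j * g k) (mapL (LinearMap.proj a) (g j * g k) (c j k)) :=
    fun a => by rw [d0_map, hw a]; rfl
  rw [Finset.sum_congr rfl fun a _ => hterm a]
  exact sum_single_mapL _ (c j k)

/-- The projections on classes. -/
def projQ (κ : Type) (a : κ) : (C1 g (κ → R) ⧸ B1 g (κ → R)) →ₗ[A] C1 g R ⧸ B1 g R :=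
  Submodule.mapQ _ _ (map1 g (LinearMap.proj (R := A) (φ := fun _ : κ => R) a)) (by
    rintro _ ⟨z, rfl⟩
    exact ⟨map0 g _ z, d0_map g _ z⟩)

theorem projQ_mk {κ : Type} (a : κ) (c : C1 g (κ → R)) :
    projQ g κ a (Submodule.Quotient.mk (p := B1 g (κ → R)) c) =
      Submodule.Quotient.mk (p := B1 g R) (map1 g (LinearMap.proj (R := A) (φ := fun _ : κ => R) a) c) := rfl

theorem projQ_injective {κ : Type} [Fintype κ] :
    Function.Injective (LinearMap.pi fun a => projQ g (R := R) κ a) := (injective_iff_map_eq_zero _).2 fun q hq => by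
  obtain ⟨c, rfl⟩ := Submodule.Quotient.mk_surjective _ q
  refine (Submodule.Quotient.mk_eq_zero _).2 (exists_d0_of_proj g c fun a => ?_)
  have h1 : projQ g κ a (Submodule.Quotient.mk (p := B1 g (κ → R)) c) = 0 := congrFun hq a
  rw [projQ_mk] at h1
  exact LinearMap.mem_range.1 ((Submodule.Quotient.mk_eq_zero (B1 g R)).1 h1)

theorem h1FG_pi {κ : Type} [Fintype κ] (h : H1FG g R) : H1FG g (κ → R) := by
  classical
  refine Submodule.fg_of_fg_map_injective _ (projQ_injective g (κ := κ)) (Submodule.FG.of_le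
    (T := Submodule.pi Set.univ fun _ : κ => (Z1 g R).map (B1 g R).mkQ) (Submodule.fg_pi fun _ => h) ?_)
  rintro _ ⟨_, ⟨c, hc, rfl⟩, rfl⟩ a -
  show projQ g κ a (Submodule.Quotient.mk (p := B1 g (κ → R)) c) ∈ (Z1 g R).map (B1 g R).mkQ
  rw [projQ_mk]
  exact Submodule.mem_map_of_mem (map1_mem_Z1 g _ hc)

theorem LS.finite_H0 (h : LS g M R) [Module.Finite A (H0 g R)] : Module.Finite A (H0 g M) := by
  obtain ⟨κ, _, i, hi⟩ := h.exists_embedding g
  haveI := finite_H0_pi g (κ := κ) (R := R)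
  exact finite_H0_of_injective g i fun j => by
    have := mapL_injective_of_retr g i hi (g j) ⟨j, rfl⟩ 1
    rwa [mul_one] at this

theorem LS.h1FG (h : LS g M R) [Module.Finite A (H0 g R)] (h1 : H1FG g R) : H1FG g M := by
  obtain ⟨κ, _, i, hi⟩ := h.exists_embedding g
  let Q := (κ → R) ⧸ LinearMap.range i
  have hQ : LS g Q R := fun j => by
    obtain ⟨ρ, b, hb⟩ := hi j
    let e := (Fintype.equivFin κ)
    let σ' : (κ → R) →ₗ[A] (κ → R) := g j ^ b • LinearMap.id - i ∘ₗ ρ
    have hσ : LinearMap.range i ≤ LinearMap.ker σ' := by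
      rintro _ ⟨m, rfl⟩
      simp [σ', hb]
    refine ⟨Fintype.card κ, (LinearMap.funLeft A R e.symm) ∘ₗ (LinearMap.range i).liftQ σ' hσ,
      (LinearMap.range i).mkQ ∘ₗ LinearMap.funLeft A R e, b, fun q => ?_⟩
    obtain ⟨x, rfl⟩ := Submodule.Quotient.mk_surjective _ q
    have he : (LinearMap.funLeft A R e) ((LinearMap.funLeft A R e.symm) (σ' x)) = σ' x :=
      funext fun a => congrArg (σ' x) (e.symm_apply_apply a)
    show (LinearMap.range i).mkQ ((LinearMap.funLeft A R e) ((LinearMap.funLeft A R e.symm) (σ' x))) = _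
    rw [he]
    show (LinearMap.range i).mkQ (g j ^ b • x - i (ρ x)) = _
    rw [map_sub, map_smul, Submodule.mkQ_apply, Submodule.mkQ_apply,
      (Submodule.Quotient.mk_eq_zero _).2 (LinearMap.mem_range_self i (ρ x)), sub_zero]
  haveI := LS.finite_H0 g hQ
  exact h1FG_of_exact g i (LinearMap.range i).mkQ (LinearMap.exact_map_mkQ_range i)
    (mapL_injective_of_retr g i hi) (h1FG_pi g h1)
    (Module.Finite.of_surjective (Submodule.mkQ _) (Submodule.mkQ_surjective _))

end Split

end Groth.Agent.Pi1Alg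

end
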