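import Groth.Agent.Pi1Alg.Cech
import Mathlib.RingTheory.Etale.Basic
import Mathlib.RingTheory.AdicCompletion.Basic
import Mathlib.RingTheory.Flat.Basic
import Mathlib.RingTheory.Smooth.Flat

/-!
# Algebraisation of a cover of the punctured divisor
-/

set_option autoImplicit false
set_option linter.unusedSectionVars false
set_option backward.isDefEq.respectTransparency false
universe u

noncomputable section

namespace Groth.Agent.Pi1Alg

variable {A : Type u} [CommRing A] (C : Type u) [CommRing C] [Algebra A C]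

theorem mk_mul (x : A) (a b : C) : mk C x (a * b) = mk C x a * mk C x b := by
  simp only [mk, LocalizedModule.mkLinearMap_apply, LocalizedModule.mk_mul_mk, mul_one]

theorem mk_one (x : A) : mk C x (1 : C) = 1 := by
  simp only [mk, LocalizedModule.mkLinearMap_apply]; rw [OreLocalization.one_def]

theorem res_mul {x y : A} (h : x ∣ y) (a b : L C x) : res C h (a * b) = res C h a * res C h b := by
  obtain ⟨n, u, hu⟩ := exists_mk C a
  obtain ⟨m, v, hv⟩ := exists_mk C b
  refine pow_injective C h (n + m) ?_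
  show x ^ (n + m) • res C h (a * b) = x ^ (n + m) • (res C h a * res C h b)
  rw [← map_smul, pow_add, ← smul_mul_smul_comm, ← smul_mul_smul_comm, hu, hv, ← map_smul, ← map_smul, hu, hv,
    ← mk_mul, res_mk, res_mk, res_mk, mk_mul]

theorem res_one {x y : A} (h : x ∣ y) : res C h (1 : L C x) = 1 := by
  rw [← mk_one C x, res_mk, mk_one]

/-- Restriction as a map of algebras. -/
def resA {x y : A} (h : x ∣ y) : L C x →ₐ[A] L C y :=
  AlgHom.ofLinearMap (res C h) (res_one C h) (res_mul C h)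

theorem resA_apply {x y : A} (h : x ∣ y) (a : L C x) : resA C h a = res C h a := rfl

/-- An étale lift of `C_x`. -/
structure Lift (t x : A) where
  P : Type u
  [cr : CommRing P]
  [alg : Algebra A P]
  etale : Algebra.Etale A P
  π : P →ₐ[A] L C x
  surj : Function.Surjective π
  ker_le : ∀ p : P, π p = 0 → p ∈ Ideal.span {algebraMap A P t}
  le_ker : π (algebraMap A P t) = 0

attribute [instance] Lift.cr Lift.alg Lift.etale

variable {C}
variable {ι : Type} {g : ι → A} {t : A}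

/-- Lifts on the members of the cover. -/
abbrev Lifts (C : Type u) [CommRing C] [Algebra A C] (g : ι → A) (t : A) :=
  ∀ x : A, x ∈ Ideal.span (Set.range g) → Lift C t x

variable (D : Lifts C g t)

/-- The indices. -/
abbrev X (g : ι → A) := {x : A // x ∈ Ideal.span (Set.range g)}

/-- The thickenings. -/
abbrev R (n : ℕ) (x : X g) : Type u :=
  (D x.1 x.2).P ⧸ Ideal.span {algebraMap A (D x.1 x.2).P t ^ (n + 1)}

/-- The reduction. -/
def π (n : ℕ) (x : X g) : R D n x →ₐ[A] L C x.1 :=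
  Ideal.Quotient.liftₐ _ (D x.1 x.2).π fun a ha => by
    obtain ⟨c, rfl⟩ := Ideal.mem_span_singleton'.1 ha
    rw [map_mul, map_pow, (D x.1 x.2).le_ker, zero_pow (Nat.succ_ne_zero n), mul_zero]

theorem π_mk (n : ℕ) (x : X g) (p : (D x.1 x.2).P) : π D n x (Ideal.Quotient.mk _ p) = (D x.1 x.2).π p := rfl

theorem π_surjective (n : ℕ) (x : X g) : Function.Surjective (π D n x) := fun z => by
  obtain ⟨p, rfl⟩ := (D x.1 x.2).surj z
  exact ⟨Ideal.Quotient.mk _ p, rfl⟩

theorem π_ker (n : ℕ) (x : X g) : IsNilpotent (RingHom.ker (π D n x : R D n x →+* L C x.1)) := by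
  refine ⟨n + 1, ?_⟩
  have hle : RingHom.ker (π D n x : R D n x →+* L C x.1) ≤
      Ideal.span {Ideal.Quotient.mk _ (algebraMap A (D x.1 x.2).P t)} := by
    intro v hv
    obtain ⟨p, rfl⟩ := Ideal.Quotient.mk_surjective v
    obtain ⟨c, hc⟩ := Ideal.mem_span_singleton'.1 ((D x.1 x.2).ker_le p hv)
    rw [← hc, map_mul]
    exact Ideal.mem_span_singleton'.2 ⟨_, rfl⟩
  refine le_bot_iff.1 ((Ideal.pow_right_mono hle _).trans (le_of_eq ?_))
  rw [Ideal.span_singleton_pow, Ideal.span_singleton_eq_bot, ← map_pow]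
  exact Ideal.Quotient.eq_zero_iff_mem.2 (Ideal.mem_span_singleton'.2 ⟨1, by rw [one_mul, map_pow]⟩)

/-- Maps between thickenings are determined by their reductions. -/
theorem ext {n m : ℕ} {x y : X g} {f₁ f₂ : R D n x →ₐ[A] R D m y}
    (h : ∀ v, π D m y (f₁ v) = π D m y (f₂ v)) : f₁ = f₂ := by
  refine Ideal.Quotient.algHom_ext A ?_
  exact Algebra.FormallyUnramified.lift_unique' (π D m y) (π_ker D m y) _ _ (AlgHom.ext fun p => h _)

theorem exists_lift (n : ℕ) {x y : X g} (h : x.1 ∣ y.1) :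
    ∃ f : R D n x →ₐ[A] R D n y, ∀ v, π D n y (f v) = resA C h (π D n x v) := by
  let f₀ := Algebra.FormallySmooth.liftOfSurjective ((resA C h).comp (D x.1 x.2).π) (π D n y)
    (π_surjective D n y) (π_ker D n y)
  refine ⟨Ideal.Quotient.liftₐ _ f₀ fun a ha => ?_, fun v => ?_⟩
  · obtain ⟨c, rfl⟩ := Ideal.mem_span_singleton'.1 ha
    rw [map_mul, map_pow, AlgHom.commutes]
    have : algebraMap A (R D n y) t ^ (n + 1) = 0 := by
      rw [← map_pow, IsScalarTower.algebraMap_apply A (D y.1 y.2).P (R D n y), map_pow,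
        Ideal.Quotient.algebraMap_eq]
      exact Ideal.Quotient.eq_zero_iff_mem.2 (Ideal.mem_span_singleton_self _)
    rw [this, mul_zero]
  · obtain ⟨p, rfl⟩ := Ideal.Quotient.mk_surjective v
    exact Algebra.FormallySmooth.liftOfSurjective_apply ((resA C h).comp (D x.1 x.2).π) (π D n y)
      (π_surjective D n y) (π_ker D n y) p

/-- Restriction of thickenings. -/
def rs (n : ℕ) {x y : X g} (h : x.1 ∣ y.1) : R D n x →ₐ[A] R D n y := (exists_lift D n h).choose

theorem π_rs (n : ℕ) {x y : X g} (h : x.1 ∣ y.1) (v : R D n x) :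
    π D n y (rs D n h v) = res C h (π D n x v) := (exists_lift D n h).choose_spec v

theorem rs_rs (n : ℕ) {x y w : X g} (h : x.1 ∣ y.1) (h' : y.1 ∣ w.1) (v : R D n x) :
    rs D n h' (rs D n h v) = rs D n (h.trans h') v :=
  AlgHom.congr_fun (ext D (f₁ := (rs D n h').comp (rs D n h)) (f₂ := rs D n (h.trans h')) fun u => by
    rw [AlgHom.comp_apply, π_rs, π_rs, π_rs, res_res]) v

/-- Truncation. -/
def red {m n : ℕ} (h : m ≤ n) (x : X g) : R D n x →ₐ[A] R D m x :=
  Ideal.Quotient.factorₐ A (Ideal.span_singleton_le_span_singleton.2 (pow_dvd_pow _ (by omega)))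

theorem red_mk {m n : ℕ} (h : m ≤ n) (x : X g) (p : (D x.1 x.2).P) :
    red D h x (Ideal.Quotient.mk _ p) = Ideal.Quotient.mk _ p := rfl

theorem π_red {m n : ℕ} (h : m ≤ n) (x : X g) (v : R D n x) : π D m x (red D h x v) = π D n x v := by
  obtain ⟨p, rfl⟩ := Ideal.Quotient.mk_surjective v
  rfl

theorem red_surjective {m n : ℕ} (h : m ≤ n) (x : X g) : Function.Surjective (red D h x) := fun v => by
  obtain ⟨p, rfl⟩ := Ideal.Quotient.mk_surjective v
  exact ⟨Ideal.Quotient.mk _ p, rfl⟩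

theorem red_red {a b c : ℕ} (h : a ≤ b) (h' : b ≤ c) (x : X g) (v : R D c x) :
    red D h x (red D h' x v) = red D (h.trans h') x v := by
  obtain ⟨p, rfl⟩ := Ideal.Quotient.mk_surjective v
  rfl

theorem red_self {a : ℕ} (h : a ≤ a) (x : X g) (v : R D a x) : red D h x v = v := by
  obtain ⟨p, rfl⟩ := Ideal.Quotient.mk_surjective v
  rfl

theorem red_rs {m n : ℕ} (hmn : m ≤ n) {x y : X g} (h : x.1 ∣ y.1) (v : R D n x) :
    red D hmn y (rs D n h v) = rs D m h (red D hmn x v) :=
  AlgHom.congr_fun (ext D (f₁ := (red D hmn y).comp (rs D n h)) (f₂ := (rs D m h).comp (red D hmn x)) fun u => by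
    rw [AlgHom.comp_apply, AlgHom.comp_apply, π_red, π_rs, π_rs, π_red]) v

theorem pow_smul_eq_zero (n : ℕ) (x : X g) (v : R D n x) : t ^ (n + 1) • v = 0 := by
  obtain ⟨p, rfl⟩ := Ideal.Quotient.mk_surjective v
  rw [← Ideal.Quotient.mkₐ_eq_mk A, ← map_smul, Ideal.Quotient.mkₐ_eq_mk, Ideal.Quotient.eq_zero_iff_mem,
    Algebra.smul_def, map_pow]
  exact Ideal.mul_mem_right _ _ (Ideal.mem_span_singleton_self _)

theorem ker_red_le (n : ℕ) (x : X g) : LinearMap.ker (red D n.le_succ x).toLinearMap ≤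
    LinearMap.ker (t • (LinearMap.id : R D (n + 1) x →ₗ[A] R D (n + 1) x)) := by
  intro v hv
  obtain ⟨p, rfl⟩ := Ideal.Quotient.mk_surjective v
  obtain ⟨c, rfl⟩ := Ideal.mem_span_singleton'.1 (Ideal.Quotient.eq_zero_iff_mem.1 hv)
  rw [LinearMap.mem_ker, LinearMap.smul_apply, LinearMap.id_apply, ← Ideal.Quotient.mkₐ_eq_mk A, ← map_smul,
    Ideal.Quotient.mkₐ_eq_mk, Ideal.Quotient.eq_zero_iff_mem, Algebra.smul_def]
  exact Ideal.mem_span_singleton'.2 ⟨c, by simp only [Nat.succ_eq_add_one]; ring⟩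

/-- Multiplication by `t`. -/
def mulT (n : ℕ) (x : X g) : R D n x →ₗ[A] R D (n + 1) x :=
  (LinearMap.ker (red D n.le_succ x).toLinearMap).liftQ (t • LinearMap.id) (ker_red_le D n x) ∘ₗ
    ((red D n.le_succ x).toLinearMap.quotKerEquivOfSurjective (red_surjective D n.le_succ x)).symm.toLinearMap

theorem mulT_red (n : ℕ) (x : X g) (v : R D (n + 1) x) : mulT D n x (red D n.le_succ x v) = t • v := by
  have h : ((red D n.le_succ x).toLinearMap.quotKerEquivOfSurjective (red_surjective D n.le_succ x)).symm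
      (red D n.le_succ x v) = Submodule.Quotient.mk v := by
    rw [LinearEquiv.symm_apply_eq]
    rfl
  rw [mulT, LinearMap.comp_apply, LinearEquiv.coe_coe, h]
  rfl

theorem mulT_mk (n : ℕ) (x : X g) (p : (D x.1 x.2).P) :
    mulT D n x (Ideal.Quotient.mk _ p) = Ideal.Quotient.mk _ (t • p) := by
  rw [← red_mk D n.le_succ x p, mulT_red]
  rfl

theorem red_mulT (n : ℕ) (x : X g) (v : R D n x) : red D n.le_succ x (mulT D n x v) = t • v := by
  obtain ⟨w, rfl⟩ := red_surjective D n.le_succ x v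
  rw [mulT_red, map_smul]

theorem red_mulT_comm (n : ℕ) (x : X g) (v : R D (n + 1) x) :
    red D (n + 1).le_succ x (mulT D (n + 1) x v) = mulT D n x (red D n.le_succ x v) := by
  rw [red_mulT, mulT_red]

theorem π_mulT (n : ℕ) (x : X g) (v : R D n x) : π D (n + 1) x (mulT D n x v) = 0 := by
  obtain ⟨p, rfl⟩ := Ideal.Quotient.mk_surjective v
  rw [mulT_mk, π_mk]
  rw [Algebra.smul_def, map_mul, (D x.1 x.2).le_ker, zero_mul]

theorem exists_mulT_of_π (n : ℕ) (x : X g) (v : R D (n + 1) x) (hv : π D (n + 1) x v = 0) :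
    ∃ w, mulT D n x w = v := by
  obtain ⟨p, rfl⟩ := Ideal.Quotient.mk_surjective v
  obtain ⟨q, hq⟩ := Ideal.mem_span_singleton'.1 ((D x.1 x.2).ker_le p hv)
  refine ⟨Ideal.Quotient.mk _ q, ?_⟩
  rw [mulT_mk, Algebra.smul_def, ← hq, mul_comm]

theorem mulT_rs (n : ℕ) {x y : X g} (h : x.1 ∣ y.1) (v : R D n x) :
    rs D (n + 1) h (mulT D n x v) = mulT D n y (rs D n h v) := by
  obtain ⟨w, rfl⟩ := red_surjective D n.le_succ x v
  rw [mulT_red, map_smul, ← red_rs, mulT_red]

theorem π_zero_injective (x : X g) : Function.Injective (π D 0 x) := (injective_iff_map_eq_zero _).2 fun v hv => by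
  obtain ⟨p, rfl⟩ := Ideal.Quotient.mk_surjective v
  rw [Ideal.Quotient.eq_zero_iff_mem, zero_add, pow_one]
  exact (D x.1 x.2).ker_le p hv

/-- The reduced ring. -/
def e0 (x : X g) : R D 0 x ≃ₐ[A] L C x.1 :=
  AlgEquiv.ofBijective (π D 0 x) ⟨π_zero_injective D x, π_surjective D 0 x⟩

/-- Multiplication by `t ^ n` from the reduced ring. -/
def T : (n : ℕ) → (x : X g) → L C x.1 →ₗ[A] R D n x
  | 0, x => (e0 D x).symm.toLinearMap
  | n + 1, x => mulT D n x ∘ₗ T n x

theorem T_zero_π (x : X g) (v : R D 0 x) : T D 0 x (π D 0 x v) = v := (e0 D x).symm_apply_apply v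

theorem π_T_zero (x : X g) (c : L C x.1) : π D 0 x (T D 0 x c) = c := (e0 D x).apply_symm_apply c

theorem T_succ (n : ℕ) (x : X g) (c : L C x.1) : T D (n + 1) x c = mulT D n x (T D n x c) := rfl

theorem T_rs (n : ℕ) {x y : X g} (h : x.1 ∣ y.1) (c : L C x.1) :
    rs D n h (T D n x c) = T D n y (res C h c) := by
  induction n with
  | zero => exact π_zero_injective D y (by rw [π_rs, π_T_zero, π_T_zero])
  | succ n ih => rw [T_succ, mulT_rs, ih, T_succ]

theorem red_T (n : ℕ) (x : X g) (c : L C x.1) : red D n.le_succ x (T D (n + 1) x c) = 0 := by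
  induction n with
  | zero => exact π_zero_injective D x (by rw [T_succ, π_red, π_mulT, map_zero])
  | succ n ih => rw [T_succ, red_mulT_comm, ih, map_zero]

section Regular

variable (hreg : ∀ x : X g, IsSMulRegular (D x.1 x.2).P t)
include hreg

theorem mulT_injective (n : ℕ) (x : X g) : Function.Injective (mulT D n x) :=
  (injective_iff_map_eq_zero _).2 fun v hv => by
    obtain ⟨p, rfl⟩ := Ideal.Quotient.mk_surjective v
    rw [mulT_mk, Ideal.Quotient.eq_zero_iff_mem, Ideal.mem_span_singleton'] at hv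
    obtain ⟨c, hc⟩ := hv
    rw [Ideal.Quotient.eq_zero_iff_mem, Ideal.mem_span_singleton']
    refine ⟨c, hreg x ?_⟩
    show t • (c * _) = t • p
    rw [← hc, Algebra.smul_def]
    ring

theorem T_injective (n : ℕ) (x : X g) : Function.Injective (T D n x) := by
  induction n with
  | zero => exact (e0 D x).symm.injective
  | succ n ih => exact (mulT_injective D hreg n x).comp ih

theorem exists_T_of_red (n : ℕ) (x : X g) (v : R D (n + 1) x) (hv : red D n.le_succ x v = 0) :
    ∃ c, T D (n + 1) x c = v := by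
  induction n with
  | zero =>
    obtain ⟨w, rfl⟩ := exists_mulT_of_π D 0 x v (by rw [← π_red D (Nat.le_succ 0), hv, map_zero])
    exact ⟨π D 0 x w, by rw [T_succ, T_zero_π]⟩
  | succ n ih =>
    obtain ⟨w, rfl⟩ := exists_mulT_of_π D (n + 1) x v (by rw [← π_red D (Nat.le_succ (n + 1)), hv, map_zero])
    rw [red_mulT_comm] at hv
    obtain ⟨c, rfl⟩ := ih w (mulT_injective D hreg n x (hv.trans (map_zero _).symm))
    exact ⟨c, rfl⟩

end Regular

section Cover

/-- The members of the cover. -/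
abbrev p1 (g : ι → A) (j : ι) : X g := ⟨g j, Ideal.subset_span ⟨j, rfl⟩⟩

/-- The overlaps. -/
abbrev p2 (g : ι → A) (j k : ι) : X g := ⟨g j * g k, Ideal.mul_mem_right _ _ (p1 g j).2⟩

/-- The triple overlaps. -/
abbrev p3 (g : ι → A) (j k l : ι) : X g := ⟨g j * g k * g l, Ideal.mul_mem_right _ _ (p2 g j k).2⟩

/-- Cochains of level `n`. -/
abbrev W0 (n : ℕ) := ∀ j, R D n (p1 g j)

/-- Cochains of level `n`. -/
abbrev W1 (n : ℕ) := ∀ j k, R D n (p2 g j k)

/-- The differential of level `n`. -/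
def dn (n : ℕ) : W0 D n →ₗ[A] W1 D n :=
  LinearMap.pi fun j => LinearMap.pi fun k =>
    (rs D n (x := p1 g j) (y := p2 g j k) (dvd_fst (g j) (g k))).toLinearMap ∘ₗ LinearMap.proj j -
      (rs D n (x := p1 g k) (y := p2 g j k) (dvd_snd (g j) (g k))).toLinearMap ∘ₗ LinearMap.proj k

theorem dn_apply (n : ℕ) (z : W0 D n) (j k : ι) : dn D n z j k =
    rs D n (x := p1 g j) (y := p2 g j k) (dvd_fst (g j) (g k)) (z j) -
      rs D n (x := p1 g k) (y := p2 g j k) (dvd_snd (g j) (g k)) (z k) := rfl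

/-- `T` on cochains. -/
def T1 (n : ℕ) : C1 g C →ₗ[A] W1 D n :=
  LinearMap.pi fun j => LinearMap.pi fun k => T D n (p2 g j k) ∘ₗ LinearMap.proj k ∘ₗ LinearMap.proj j

/-- `T` on cochains. -/
def T0 (n : ℕ) : C0 g C →ₗ[A] W0 D n := LinearMap.pi fun j => T D n (p1 g j) ∘ₗ LinearMap.proj j

theorem dn_T0 (n : ℕ) (w : C0 g C) : dn D n (T0 D n w) = T1 D n (d0 g C w) := by
  funext j k
  rw [dn_apply]
  show rs D n (x := p1 g j) (y := p2 g j k) _ (T D n (p1 g j) (w j)) -
    rs D n (x := p1 g k) (y := p2 g j k) _ (T D n (p1 g k) (w k)) = T D n (p2 g j k) (d0 g C w j k)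
  rw [T_rs, T_rs, ← map_sub]
  rfl

/-- Truncation of cochains. -/
def red0 {m n : ℕ} (h : m ≤ n) : W0 D n →ₗ[A] W0 D m :=
  LinearMap.pi fun j => (red D h (p1 g j)).toLinearMap ∘ₗ LinearMap.proj j

theorem red0_apply {m n : ℕ} (h : m ≤ n) (z : W0 D n) (j : ι) : red0 D h z j = red D h (p1 g j) (z j) := rfl

theorem red_dn {m n : ℕ} (h : m ≤ n) (z : W0 D n) (j k : ι) :
    red D h (p2 g j k) (dn D n z j k) = dn D m (red0 D h z) j k := by
  rw [dn_apply, dn_apply, map_sub, red_rs, red_rs]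
  rfl

theorem red0_surjective {m n : ℕ} (h : m ≤ n) : Function.Surjective (red0 D h) := fun z => by
  choose w hw using fun j => red_surjective D h (p1 g j) (z j)
  exact ⟨w, funext hw⟩

/-- The obstructions of level `n`. -/
def K (n : ℕ) : Submodule A (C1 g C) := (LinearMap.range (dn D n)).comap (T1 D n)

theorem B1_le_K (n : ℕ) : B1 g C ≤ K D n := by
  rintro _ ⟨w, rfl⟩
  exact ⟨T0 D n w, dn_T0 D n w⟩

theorem K_le_succ (n : ℕ) : K D n ≤ K D (n + 1) := by
  rintro c ⟨z, hz⟩
  obtain ⟨z', rfl⟩ := red0_surjective D n.le_succ z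
  refine ⟨t • z', ?_⟩
  rw [map_smul]
  funext j k
  show t • dn D (n + 1) z' j k = mulT D n (p2 g j k) (T D n (p2 g j k) (c j k))
  rw [← mulT_red, red_dn, hz]
  rfl

theorem exists_witness {N : ℕ} {c : C1 g C} (hc : c ∈ K D N) (i : ℕ) :
    ∃ w : W0 D (N + i), dn D (N + i) (t ^ i • w) = T1 D (N + i) c := by
  induction i with
  | zero => obtain ⟨w, hw⟩ := hc; exact ⟨w, by rw [pow_zero, one_smul]; exact hw⟩
  | succ i ih =>
    obtain ⟨w, hw⟩ := ih
    obtain ⟨w', rfl⟩ := red0_surjective D (Nat.le_succ (N + i)) w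
    refine ⟨w', ?_⟩
    rw [pow_succ', mul_smul, map_smul]
    funext j k
    show t • dn D (N + i + 1) (t ^ i • w') j k = mulT D (N + i) (p2 g j k) (T D (N + i) (p2 g j k) (c j k))
    rw [← mulT_red, red_dn, map_smul, hw]
    rfl

section Regular

variable (hreg : ∀ x : X g, IsSMulRegular (D x.1 x.2).P t)
include hreg

theorem K_le_Z1 (n : ℕ) : K D n ≤ Z1 g C := by
  rintro c ⟨z, hz⟩ j k l
  refine T_injective D hreg n (p3 g j k l) ?_
  rw [map_add, ← T_rs D n (x := p2 g j k) (y := p3 g j k l) (dvd12 (g j) (g k) (g l)),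
    ← T_rs D n (x := p2 g k l) (y := p3 g j k l) (dvd23 (g j) (g k) (g l)),
    ← T_rs D n (x := p2 g j l) (y := p3 g j k l) (dvd13 (g j) (g k) (g l))]
  have h : ∀ a b, T D n (p2 g a b) (c a b) = dn D n z a b := fun a b => (congrFun (congrFun hz a) b).symm
  rw [h, h, h, dn_apply, dn_apply, dn_apply, map_sub, map_sub, map_sub]
  simp only [rs_rs]
  abel

theorem exists_obstruction {n : ℕ} (z : W0 D n) (hz : dn D n z = 0) :
    ∃ (z' : W0 D (n + 1)) (c : C1 g C), red0 D n.le_succ z' = z ∧ dn D (n + 1) z' = T1 D (n + 1) c ∧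
      c ∈ K D (n + 1) := by
  obtain ⟨z', rfl⟩ := red0_surjective D n.le_succ z
  choose c hc using fun j k => exists_T_of_red D hreg n (p2 g j k) (dn D (n + 1) z' j k)
    (by rw [red_dn, hz]; rfl)
  have he : dn D (n + 1) z' = T1 D (n + 1) c := funext fun j => funext fun k => (hc j k).symm
  exact ⟨z', c, rfl, he, z', he⟩

/-- The obstructions stabilise. -/
theorem exists_stable [IsNoetherianRing A] (h : H1FG g C) : ∃ N, ∀ n ≥ N, K D n ≤ K D N := by
  let Zb := (Z1 g C).map (B1 g C).mkQ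
  haveI : Module.Finite A Zb := Module.Finite.iff_fg.2 h
  let F : ℕ →o Submodule A Zb :=
    ⟨fun n => ((K D n).map (B1 g C).mkQ).comap Zb.subtype, monotone_nat_of_le_succ fun n =>
      Submodule.comap_mono (Submodule.map_mono (K_le_succ D n))⟩
  obtain ⟨N, hN⟩ := monotone_stabilizes_iff_noetherian.2 (inferInstance : _root_.IsNoetherian A Zb) F
  refine ⟨N, fun n hn c hc => ?_⟩
  have h1 : (⟨_, Submodule.mem_map_of_mem (K_le_Z1 D hreg n hc)⟩ : Zb) ∈ F n := Submodule.mem_map_of_mem hc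
  rw [← hN n hn] at h1
  obtain ⟨c', hc', he⟩ := h1
  have := (Submodule.Quotient.eq _).1 he
  have h2 := (K D N).sub_mem hc' (B1_le_K D N this)
  rwa [sub_sub_cancel] at h2

end Regular

/-- The algebra of compatible families. -/
def B : Subalgebra A (∀ n, W0 D n) where
  carrier := {b | (∀ n, red0 D n.le_succ (b (n + 1)) = b n) ∧ ∀ n, dn D n (b n) = 0}
  mul_mem' {a b} ha hb := ⟨fun n => funext fun j => by
      rw [red0_apply, Pi.mul_apply, Pi.mul_apply, map_mul, ← red0_apply, ← red0_apply, ha.1, hb.1]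
      rfl,
    fun n => funext fun j => funext fun k => by
      have h1 := sub_eq_zero.1 ((dn_apply D n (a n) j k).symm.trans (congrFun (congrFun (ha.2 n) j) k))
      have h2 := sub_eq_zero.1 ((dn_apply D n (b n) j k).symm.trans (congrFun (congrFun (hb.2 n) j) k))
      rw [dn_apply, Pi.mul_apply, Pi.mul_apply, Pi.mul_apply, map_mul, map_mul, h1, h2, sub_self]
      rfl⟩
  add_mem' {a b} ha hb := ⟨fun n => by rw [Pi.add_apply, map_add, ha.1, hb.1]; rfl,
    fun n => by rw [Pi.add_apply, map_add, ha.2, hb.2, add_zero]⟩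
  algebraMap_mem' a := ⟨fun n => funext fun j => (red D n.le_succ (p1 g j)).commutes a,
    fun n => funext fun j => funext fun k => by
      rw [dn_apply]
      show rs D n _ (algebraMap A _ a) - rs D n _ (algebraMap A _ a) = 0
      rw [AlgHom.commutes, AlgHom.commutes, sub_self]⟩

theorem mem_B {b : (n : ℕ) → W0 D n} :
    b ∈ B D ↔ (∀ n, red0 D n.le_succ (b (n + 1)) = b n) ∧ ∀ n, dn D n (b n) = 0 := Iff.rfl

/-- The sections on the divisor. -/
def ev0 : B D →ₐ[A] (∀ j, L C (g j)) :=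
  Pi.algHom A _ fun j => ((π D 0 (p1 g j)).comp
    ((Pi.evalAlgHom A (fun j => R D 0 (p1 g j)) j).comp (Pi.evalAlgHom A (fun n => W0 D n) 0))).comp (B D).val

theorem ev0_apply (b : B D) (j : ι) : ev0 D b j = π D 0 (p1 g j) ((b : ∀ n, W0 D n) 0 j) := rfl

theorem ev0_mem (b : B D) : ev0 D b ∈ H0 g C := by
  rw [mem_H0]
  intro j k
  have := congrArg (π D 0 (p2 g j k)) (sub_eq_zero.1
    ((dn_apply D 0 _ j k).symm.trans (congrFun (congrFun (((mem_B D).1 b.2).2 0) j) k)))
  rw [π_rs, π_rs] at this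
  exact this

theorem pow_dvd_eq_zero {b : B D} {m : ℕ} {a : B D} (h : b = t ^ m • a) (n : ℕ) (hn : n < m) :
    (b : ∀ n, W0 D n) n = 0 := by
  subst h
  funext j
  show t ^ m • (a : ∀ n, W0 D n) n j = 0
  rw [show t ^ m = t ^ (m - (n + 1)) * t ^ (n + 1) from by rw [← pow_add]; congr 1; omega, mul_smul,
    pow_smul_eq_zero, smul_zero]

section Regular

variable (hreg : ∀ x : X g, IsSMulRegular (D x.1 x.2).P t)
include hreg

theorem isSMulRegular_B : IsSMulRegular (B D) t := by
  refine isSMulRegular_iff_right_eq_zero_of_smul.2 fun b hb => Subtype.ext (funext fun n => funext fun j => ?_)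
  have h1 : t • (b : ∀ n, W0 D n) (n + 1) j = 0 := congrFun (congrFun (congrArg Subtype.val hb) (n + 1)) j
  rw [← mulT_red] at h1
  have h2 := mulT_injective D hreg n _ (h1.trans (map_zero _).symm)
  rwa [show red D n.le_succ _ ((b : ∀ n, W0 D n) (n + 1) j) = (b : ∀ n, W0 D n) n j from congrFun (((mem_B D).1 b.2).1 n) j] at h2

theorem exists_of_ev0_eq_zero (b : B D) (hb : ev0 D b = 0) : ∃ a : B D, b = t • a := by
  have h0 : ∀ j, (b : ∀ n, W0 D n) 0 j = 0 := fun j =>
    π_zero_injective D _ ((congrFun hb j).trans (map_zero _).symm)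
  have hπ : ∀ n j, π D n (p1 g j) ((b : ∀ n, W0 D n) n j) = 0 := by
    intro n
    induction n with
    | zero => intro j; rw [h0, map_zero]
    | succ n ih => intro j; rw [← π_red D n.le_succ, ← red0_apply, ((mem_B D).1 b.2).1 n, ih]
  choose a ha using fun n j => exists_mulT_of_π D n (p1 g j) _ (hπ (n + 1) j)
  have hmem : (a : ∀ n, W0 D n) ∈ B D := by
    rw [mem_B]
    refine ⟨fun n => funext fun j => mulT_injective D hreg n _ ?_, fun n => funext fun j => funext fun k =>
      mulT_injective D hreg n _ ?_⟩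
    · rw [red0_apply, ← red_mulT_comm, ha, ha, ← red0_apply, ((mem_B D).1 b.2).1]
    · rw [dn_apply, map_sub, ← mulT_rs, ← mulT_rs, ha, ha, ← dn_apply, ((mem_B D).1 b.2).2, Pi.zero_apply, Pi.zero_apply,
        Pi.zero_apply, Pi.zero_apply, map_zero]
  refine ⟨⟨a, hmem⟩, Subtype.ext (funext fun n => funext fun j => ?_)⟩
  show _ = t • a n j
  rw [← red_mulT, ha]
  exact (congrFun (((mem_B D).1 b.2).1 n) j).symm

theorem exists_lift_level (l : ι) {M : ℕ} (hM : ∀ c ∈ Z1 g C, g l ^ M • c ∈ B1 g C) (x : C0 g C)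
    (hx : x ∈ H0 g C) (n : ℕ) :
    ∃ z : W0 D n, dn D n z = 0 ∧ ∀ j, π D n (p1 g j) (z j) = g l ^ (n * M) • x j := by
  induction n with
  | zero =>
    refine ⟨T0 D 0 x, by rw [dn_T0, LinearMap.mem_ker.1 hx, map_zero], fun j => ?_⟩
    rw [Nat.zero_mul, pow_zero, one_smul]
    exact π_T_zero D (p1 g j) (x j)
  | succ n ih =>
    obtain ⟨z, hz, hzx⟩ := ih
    obtain ⟨z', c, rfl, hdz, hc⟩ := exists_obstruction D hreg z hz
    obtain ⟨w, hw⟩ := hM c (K_le_Z1 D hreg _ hc)
    refine ⟨g l ^ M • z' - T0 D (n + 1) w, ?_, fun j => ?_⟩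
    · rw [map_sub, map_smul, hdz, dn_T0, hw, map_smul, sub_self]
    · have hT : π D (n + 1) (p1 g j) (T0 D (n + 1) w j) = 0 := π_mulT D n _ _
      rw [Pi.sub_apply, map_sub, hT, sub_zero, Pi.smul_apply, map_smul, ← π_red D n.le_succ, ← red0_apply,
        hzx, ← mul_smul, ← pow_add, Nat.succ_mul, add_comm]

theorem exists_B_of_level {N : ℕ} (hN : ∀ n ≥ N, K D n ≤ K D N) (z : W0 D N) (hz : dn D N z = 0) :
    ∃ b : B D, ∀ j, ev0 D b j = π D N (p1 g j) (z j) := by
  have step : ∀ (i : ℕ) (z : W0 D (N + i)), dn D (N + i) z = 0 →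
      ∃ (z' : W0 D (N + (i + 1))) (v : W0 D (N + i)), dn D (N + (i + 1)) z' = 0 ∧
        red0 D (Nat.le_succ (N + i)) z' = z + t ^ (i + 1) • v := by
    intro i z hz
    obtain ⟨z', c, rfl, hdz, hc⟩ := exists_obstruction D hreg z hz
    obtain ⟨w, hw⟩ := exists_witness D (hN _ (by omega) hc) (i + 1)
    refine ⟨z' - t ^ (i + 1) • w, -red0 D (Nat.le_succ (N + i)) w, ?_, ?_⟩
    · rw [map_sub, hw]
      exact sub_eq_zero.2 hdz
    · rw [map_sub, map_smul, smul_neg, sub_eq_add_neg]
  choose! f v hf hfv using step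
  let Z : ∀ i, W0 D (N + i) := fun i => Nat.rec (motive := fun i => W0 D (N + i)) z f i
  have hZd : ∀ i, dn D (N + i) (Z i) = 0 := fun i => by
    induction i with
    | zero => exact hz
    | succ i ih => exact hf i _ ih
  let b : ∀ m, W0 D m := fun m => red0 D (Nat.le_add_left m N) (Z m)
  have hb : (∀ n, red0 D n.le_succ (b (n + 1)) = b n) ∧ ∀ n, dn D n (b n) = 0 := by
    refine ⟨fun m => funext fun j => ?_, fun m => funext fun j => funext fun k => ?_⟩
    · show red D m.le_succ (p1 g j) (red D (Nat.le_add_left (m + 1) N) (p1 g j) (Z (m + 1) j)) =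
        red D (Nat.le_add_left m N) (p1 g j) (Z m j)
      rw [red_red]
      refine (red_red D (Nat.le_add_left m N) (show N + m ≤ N + (m + 1) by omega) (p1 g j) _).symm.trans ?_
      have : red D (show N + m ≤ N + (m + 1) by omega) (p1 g j) (Z (m + 1) j) = Z m j + t ^ (m + 1) • v m (Z m) j :=
        congrFun (hfv m (Z m) (hZd m)) j
      rw [this, map_add, map_smul, pow_smul_eq_zero, add_zero]
    · rw [← red_dn D (Nat.le_add_left m N) (Z m) j k, hZd, Pi.zero_apply, Pi.zero_apply, map_zero]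
      rfl
  refine ⟨⟨b, (mem_B D).2 hb⟩, fun j => ?_⟩
  show π D 0 (p1 g j) (red D (Nat.le_add_left 0 N) (p1 g j) (z j)) = _
  exact π_red D _ _ _

theorem exists_preimage [Fintype ι] [IsNoetherianRing A] (h : H1FG g C) (l : ι) :
    ∃ E : ℕ, ∀ x ∈ H0 g C, ∃ b : B D, ev0 D b = g l ^ E • x := by
  obtain ⟨M, hM⟩ := exists_kill g C h l
  obtain ⟨N, hN⟩ := exists_stable D hreg h
  refine ⟨N * M, fun x hx => ?_⟩
  obtain ⟨z, hz, hzx⟩ := exists_lift_level D hreg l hM x hx N
  obtain ⟨b, hb⟩ := exists_B_of_level D hreg hN z hz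
  exact ⟨b, funext fun j => (hb j).trans (hzx j)⟩

end Regular

end Cover

/-- A separated module over a complete ring is finite if it is finite modulo `t`. -/
theorem finite_of_separated [IsAdicComplete (Ideal.span {t}) A] (M : Type u) [AddCommGroup M] [Module A M]
    {F : Type u} [AddCommGroup F] [Module A F] [IsNoetherian A F] (f : M →ₗ[A] F)
    (hf : ∀ m, f m = 0 → ∃ m', m = t • m') (hsep : ∀ m : M, (∀ k, ∃ m', m = t ^ k • m') → m = 0) :
    Module.Finite A M := by
  classical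
  obtain ⟨s, hs⟩ := IsNoetherian.noetherian (LinearMap.range f)
  have hmem : ∀ q : s, ∃ m, f m = q.1 := fun q => LinearMap.mem_range.1 (hs.le (Submodule.subset_span q.2))
  choose e he using hmem
  let φ : (s → A) →ₗ[A] M := Fintype.linearCombination A e
  have hstep : ∀ m : M, ∃ a : s → A, ∃ m', m = φ a + t • m' := fun m => by
    have : f m ∈ Submodule.span A (Set.range fun q : s => (q : F)) := by
      rw [show (Set.range fun q : s => (q : F)) = ↑s from Set.ext fun y =>
        ⟨by rintro ⟨q, rfl⟩; exact q.2, fun h => ⟨⟨y, h⟩, rfl⟩⟩]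
      exact hs ▸ LinearMap.mem_range_self f m
    obtain ⟨a, ha⟩ := Submodule.mem_span_range_iff_exists_fun A |>.1 this
    obtain ⟨m', hm'⟩ := hf (m - φ a) (by
      rw [map_sub, sub_eq_zero, ← ha]
      simp [φ, Fintype.linearCombination_apply, he])
    exact ⟨a, m', by rw [← hm']; abel⟩
  choose a m' hm' using hstep
  refine Module.Finite.of_surjective φ fun m => ?_
  let r : ℕ → M := fun k => Nat.rec m (fun _ p => m' p) k
  let S : ℕ → s → A := fun k => ∑ i ∈ Finset.range k, t ^ i • a (r i)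
  have hS : ∀ k, m = φ (S k) + t ^ k • r k := by
    intro k
    induction k with
    | zero => simp [S, r]
    | succ k ih =>
      calc m = φ (S k) + t ^ k • r k := ih
        _ = φ (S k) + t ^ k • (φ (a (r k)) + t • r (k + 1)) := by rw [← hm' (r k)]
        _ = _ := by
            simp only [S, Finset.sum_range_succ, map_add, map_smul, smul_add, ← mul_smul, ← pow_succ]
            abel
  have hcauchy : ∀ (q : s) {i j : ℕ}, i ≤ j →
      S i q ≡ S j q [SMOD ((Ideal.span {t}) ^ i • ⊤ : Submodule A A)] := by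
    intro q i j hij
    rw [SModEq.sub_mem, smul_eq_mul, Ideal.mul_top, Ideal.span_singleton_pow, ← neg_sub]
    refine neg_mem ?_
    obtain ⟨d, rfl⟩ := Nat.exists_eq_add_of_le hij
    simp only [S, Finset.sum_range_add, Pi.add_apply, Finset.sum_apply, Pi.smul_apply, add_sub_cancel_left]
    refine Ideal.sum_mem _ fun i' _ => Ideal.mem_span_singleton'.2 ⟨t ^ i' * a (r (i + i')) q, ?_⟩
    rw [smul_eq_mul, pow_add]
    ring
  choose lim hlim using fun q : s => IsPrecomplete.prec (I := Ideal.span {t}) inferInstance (hcauchy q)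
  refine ⟨lim, (sub_eq_zero.1 (hsep _ fun k => ?_)).symm⟩
  have h1 : ∀ q, ∃ c, S k q - lim q = c * t ^ k := fun q => by
    have := hlim q k
    rw [SModEq.sub_mem, smul_eq_mul, Ideal.mul_top, Ideal.span_singleton_pow, Ideal.mem_span_singleton'] at this
    obtain ⟨c, hc⟩ := this
    exact ⟨c, hc.symm⟩
  choose c hc using h1
  refine ⟨r k + φ c, ?_⟩
  have h2 : S k = lim + t ^ k • c := funext fun q => by
    rw [Pi.add_apply, Pi.smul_apply, smul_eq_mul, mul_comm, ← hc q]; ring
  conv_lhs => rw [hS k, h2, map_add, map_smul]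
  rw [smul_add]
  abel

/-- Algebraisation. -/
theorem exists_algebra [Fintype ι] [IsNoetherianRing A] [IsAdicComplete (Ideal.span {t}) A]
    (ht : IsSMulRegular A t) (h1 : H1FG g C) [Module.Finite A (H0 g C)]
    (hD : ∀ x : A, x ∈ Ideal.span (Set.range g) → Nonempty (Lift C t x)) :
    ∃ (B : Type u) (_ : CommRing B) (_ : Algebra A B) (_ : Module.Finite A B) (φ : B →ₐ[A] ∀ j, L C (g j)),
      IsSMulRegular B t ∧ (∀ b, φ b ∈ H0 g C) ∧ (∀ b, φ b = 0 → ∃ a, b = t • a) ∧
        ∀ l, ∀ x ∈ H0 g C, ∃ (n : ℕ) (b : B), φ b = g l ^ n • x := by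
  classical
  let D : Lifts C g t := fun x hx => (hD x hx).some
  have hreg : ∀ x : X g, IsSMulRegular (D x.1 x.2).P t := fun x => by
    haveI : Module.Flat A (D x.1 x.2).P := inferInstance
    have h1 := IsSMulRegular.of_flat (S := (D x.1 x.2).P) ht
    exact fun a b hab => h1 (show algebraMap A _ t • a = algebraMap A _ t • b by
      rw [algebraMap_smul, algebraMap_smul]; exact hab)
  let f : B D →ₗ[A] H0 g C := LinearMap.codRestrict _ (ev0 D).toLinearMap (ev0_mem D)
  haveI : Module.Finite A (B D) := finite_of_separated (t := t) (B D) f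
    (fun b hb => exists_of_ev0_eq_zero D hreg b (congrArg Subtype.val hb))
    (fun b hb => Subtype.ext (funext fun n => by
      obtain ⟨a, ha⟩ := hb (n + 1)
      exact pow_dvd_eq_zero D ha n (Nat.lt_succ_self n)))
  refine ⟨B D, inferInstance, inferInstance, inferInstance, ev0 D, isSMulRegular_B D hreg, ev0_mem D,
    exists_of_ev0_eq_zero D hreg, fun l x hx => ?_⟩
  obtain ⟨E, hE⟩ := exists_preimage D hreg h1 l
  exact ⟨E, hE x hx⟩

end Groth.Agent.Pi1Alg

end
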