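import Groth.Agent.Pi1Alg.Bridge
import Groth.Agent.LC.CanonComplete
import Mathlib.RingTheory.AdicCompletion.Completeness

/-!
# Extension of covers of the punctured spectrum can be tested on the completion
-/

set_option autoImplicit false
set_option linter.unusedSectionVars false
set_option linter.style.haveILetI false
set_option backward.isDefEq.respectTransparency false
set_option backward.isDefEq.respectTransparency.types false
universe u

open CategoryTheory CategoryTheory.Limits AlgebraicGeometry IsLocalRing TensorProduct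

noncomputable section

namespace Groth.Agent.Pi1Alg

open Groth.Agent.Pi1Ext Groth.Agent.Pi1Ext.RegPurity Groth.Agent.Pi1Ext.PuritySch

variable {A : Type u} [CommRing A] [IsLocalRing A] {A' : Type u} [CommRing A'] [IsLocalRing A'] [Algebra A A']

/-- The punctured spectrum pulls back to the punctured spectrum. -/
theorem exists_punctured_baseChange (hm : (maximalIdeal A).map (algebraMap A A') = maximalIdeal A') :
    ∃ w : pullback (FEt.puncturedSpec A).ι (sp A A') ≅ (FEt.puncturedSpec A' : Scheme.{u}),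
      w.hom ≫ (FEt.puncturedSpec A').ι = pullback.snd _ _ := by
  have hrange : Set.range (pullback.snd (FEt.puncturedSpec A).ι (sp A A')) = Set.range (FEt.puncturedSpec A').ι := by
    rw [IsOpenImmersion.range_pullbackSnd, Scheme.Opens.opensRange_ι, Scheme.Opens.range_ι]
    ext p
    show (sp A A' p : PrimeSpectrum A) ∈ ({IsLocalRing.closedPoint A}ᶜ : Set (PrimeSpectrum A)) ↔
      p ∈ ({IsLocalRing.closedPoint A'}ᶜ : Set (PrimeSpectrum A'))
    simp only [Set.mem_compl_iff, Set.mem_singleton_iff]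
    refine not_congr ⟨fun e => PrimeSpectrum.ext ?_, fun e => PrimeSpectrum.ext ?_⟩
    · have h1 : (p : PrimeSpectrum A').asIdeal.comap (algebraMap A A') = maximalIdeal A :=
        congrArg PrimeSpectrum.asIdeal e
      refine ((maximalIdeal.isMaximal A').eq_of_le (p : PrimeSpectrum A').2.ne_top ?_).symm
      rw [← hm, Ideal.map_le_iff_le_comap, h1]
    · show (p : PrimeSpectrum A').asIdeal.comap (algebraMap A A') = maximalIdeal A
      rw [show (p : PrimeSpectrum A').asIdeal = maximalIdeal A' from congrArg PrimeSpectrum.asIdeal e, ← hm]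
      refine ((maximalIdeal.isMaximal A).eq_of_le ?_ Ideal.le_comap_map).symm
      rw [hm]
      exact Ideal.comap_ne_top _ (maximalIdeal.isMaximal A').ne_top
  exact ⟨IsOpenImmersion.isoOfRangeEq (pullback.snd (FEt.puncturedSpec A).ι (sp A A')) _ hrange,
    IsOpenImmersion.isoOfRangeEq_hom_fac _ _ _⟩

/-- An affine model of a cover of an affine scheme. -/
theorem exists_algebra_model (Y : FEt.Cat (Spec (CommRingCat.of A))) :
    ∃ (E : Type u) (_ : CommRing E) (_ : Algebra A E) (hfin : Module.Finite A E) (het : Algebra.Etale A E),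
      Nonempty (MorphismProperty.Over.mk (P := FEt.prop.{u}) ⊤ (sp A E) (fet_sp_iff.2 ⟨hfin, het⟩) ≅ Y) := by
  let y : Y.left ⟶ Spec (CommRingCat.of A) := Y.hom
  haveI : IsFinite y := Y.prop.1
  haveI : IsAffine Y.left := isAffine_of_isAffineHom y
  let φ := Spec.preimage (Y.left.isoSpec.inv ≫ y)
  letI : Algebra A Γ(Y.left, ⊤) := φ.hom.toAlgebra
  have hφ : sp A Γ(Y.left, ⊤) = Y.left.isoSpec.inv ≫ y := Spec.map_preimage _
  have hprop : FEt.prop (sp A Γ(Y.left, ⊤)) := by
    rw [hφ, MorphismProperty.cancel_left_of_respectsIso (P := FEt.prop.{u})]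
    exact Y.prop
  obtain ⟨hfin, het⟩ := fet_sp_iff.1 hprop
  exact ⟨Γ(Y.left, ⊤), inferInstance, inferInstance, hfin, het,
    ⟨MorphismProperty.Over.isoMk Y.left.isoSpec.symm hφ.symm⟩⟩

variable [IsNoetherianRing A] [IsNoetherianRing A']

theorem etOff_of_etale (R : Type u) [CommRing R] [Algebra A R] [Algebra.Etale A R] : EtOff A R := fun g _ => by
  haveI : Algebra.Etale R (Localization.Away (algebraMap A R g)) := Algebra.Etale.of_isLocalizationAway (algebraMap A R g)
  exact Algebra.Etale.comp A R _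

theorem nonempty_iso_of_maps {ι : Type} (g : ι → A) (hidl : Ideal.span (Set.range g) = maximalIdeal A)
    {R C S : Type u} [CommRing R] [Algebra A R] [Module.Finite A R] [CommRing C] [Algebra A C] [Module.Finite A C]
    [CommRing S] [Algebra A S] (ρ : R →ₐ[A] S) (τ : C →ₐ[A] S)
    (hρ : ∀ (h : S) (l : ι), ∃ (n : ℕ) (x : R), g l ^ n • h = ρ x)
    (hρker : ∀ x, ρ x = 0 → ∀ l, ∃ n : ℕ, g l ^ n • x = 0)
    (hτ : ∀ (h : S) (l : ι), ∃ (n : ℕ) (x : C), g l ^ n • h = τ x)
    (hτker : ∀ x, τ x = 0 → ∀ l, ∃ n : ℕ, g l ^ n • x = 0)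
    (hR : FEt.prop (rest A R)) (hC : EtOff A C) : Nonempty (obj R hR ≅ obj C (prop_rest C hC)) := by
  let Φ₀ : R ⊗[A] C →ₐ[A] S := Algebra.TensorProduct.lift ρ τ fun _ _ => Commute.all _ _
  let T : Subalgebra A S := Φ₀.range
  haveI : Module.Finite A T := Module.Finite.of_surjective Φ₀.rangeRestrict.toLinearMap Φ₀.rangeRestrict_surjective
  let ρT : R →ₐ[A] T := ρ.codRestrict T fun x => ⟨x ⊗ₜ 1, by simp [Φ₀]⟩
  let tT : C →ₐ[A] T := τ.codRestrict T fun c => ⟨1 ⊗ₜ c, by simp [Φ₀]⟩
  have hisoR : ∀ x ∈ maximalIdeal A, IsoAway ρT x := fun x hx =>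
    isoAway_of_gens g ρT (fun l y => by
      obtain ⟨n, p, hp⟩ := hρ y.1 l
      exact ⟨n, p, Subtype.ext hp⟩) (fun l p hp => hρker p (congrArg Subtype.val hp) l) (by rw [hidl]; exact hx)
  have hisoC : ∀ x ∈ maximalIdeal A, IsoAway tT x := fun x hx =>
    isoAway_of_gens g tT (fun l y => by
      obtain ⟨n, p, hp⟩ := hτ y.1 l
      exact ⟨n, p, Subtype.ext hp⟩) (fun l p hp => hτker p (congrArg Subtype.val hp) l) (by rw [hidl]; exact hx)
  have hT : EtOff A T := fun x hx => (hisoC x hx).etale (hC x hx)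
  obtain ⟨eT⟩ := nonempty_iso tT hisoC (prop_rest C hC) (prop_rest T hT)
  obtain ⟨eR⟩ := nonempty_iso ρT hisoR hR (prop_rest T hT)
  exact ⟨eR.symm ≪≫ eT⟩

/-- Covers extend if their base changes extend. -/
theorem exists_extend_of_baseChange [Module.FaithfullyFlat A A']
    (hm : (maximalIdeal A).map (algebraMap A A') = maximalIdeal A')
    (hA' : ∀ (n : ℕ) (a' : A'), ∃ a : A, a' - algebraMap A A' a ∈ (maximalIdeal A ^ n).map (algebraMap A A'))
    (V : FEt.Cat (FEt.puncturedSpec A : Scheme.{u}))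
    (hV : ∃ Y' : FEt.Cat (Spec (CommRingCat.of A')),
      Nonempty ((FEt.restrict (pullback.snd (FEt.puncturedSpec A).ι (sp A A'))).obj Y' ≅
        (FEt.restrict (pullback.fst (FEt.puncturedSpec A).ι (sp A A'))).obj V)) :
    ∃ Y : FEt.Cat (Spec (CommRingCat.of A)), Nonempty ((FEt.restrict (FEt.puncturedSpec A).ι).obj Y ≅ V) := by
  classical
  obtain ⟨Y', ⟨eY⟩⟩ := hV
  obtain ⟨w, hw⟩ := exists_punctured_baseChange (A := A) (A' := A') hm
  obtain ⟨C, _, _, hCfin, hC, ⟨eC⟩⟩ := exists_finite_model V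
  haveI := hCfin
  obtain ⟨E, _, _, hEfin, hEet, ⟨eE⟩⟩ := exists_algebra_model Y'
  haveI := hEfin
  haveI := hEet
  let P := FEt.puncturedSpec A
  let P' := FEt.puncturedSpec A'
  let C' := A' ⊗[A] C
  have hC' : EtOff A' C' := etOff_baseChange hC A' hm.symm
  have hE : EtOff A' E := etOff_of_etale E
  -- the two restrictions to the punctured spectrum upstairs
  let ψ : (P' : Scheme.{u}) ⟶ (P : Scheme.{u}) := w.inv ≫ pullback.fst _ _
  have hψ : ψ ≫ P.ι = P'.ι ≫ sp A A' := by
    rw [Category.assoc, pullback.condition, ← hw, Category.assoc, w.inv_hom_id_assoc]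
  have hpo : IsPullback (Spec.map (CommRingCat.ofHom (Algebra.TensorProduct.includeRight : C →ₐ[A] C').toRingHom))
      (sp A' C') (sp A C) (sp A A') :=
    (isPullback_SpecMap_of_isPushout _ _ _ _ (CommRingCat.isPushout_tensorProduct A A' C)).flip
  have hB1 : IsPullback (pullback.fst (rest A C) ψ ≫ pullback.fst (sp A C) P.ι)
      (pullback.snd (rest A C) ψ) (sp A C) (P'.ι ≫ sp A A') := by
    have h3 := (IsPullback.of_hasPullback (rest A C) ψ).paste_horiz (IsPullback.of_hasPullback (sp A C) P.ι)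
    rw [hψ] at h3
    exact h3
  have hB2 : IsPullback (pullback.fst (sp A' C') P'.ι ≫ _) (rest A' C') (sp A C) (P'.ι ≫ sp A A') :=
    (IsPullback.of_hasPullback (sp A' C') P'.ι).paste_horiz hpo
  let e1 : (FEt.restrict ψ).obj (obj C (prop_rest C hC)) ≅ obj C' (prop_rest C' hC') :=
    MorphismProperty.Over.isoMk (hB1.isoIsPullback _ _ hB2) (hB1.isoIsPullback_hom_snd _ _ hB2)
  let oE : FEt.Cat (Spec (CommRingCat.of A')) := MorphismProperty.Over.mk ⊤ (sp A' E) (fet_sp_iff.2 ⟨hEfin, hEet⟩)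
  have hsnd : w.inv ≫ pullback.snd P.ι (sp A A') = P'.ι := by rw [← hw, w.inv_hom_id_assoc]
  let e2 : obj C' (prop_rest C' hC') ≅ (FEt.restrict P'.ι).obj oE :=
    e1.symm ≪≫ (FEt.restrict ψ).mapIso eC ≪≫ (restrictComp w.inv _ _ rfl V).symm ≪≫
      (FEt.restrict w.inv).mapIso eY.symm ≪≫ restrictComp w.inv _ _ hsnd Y' ≪≫ (FEt.restrict P'.ι).mapIso eE.symm
  let e3 : objO A' C' ≅ objO A' E :=
    (MorphismProperty.Over.forget FEt.prop.{u} ⊤ _).mapIso e2 ≪≫ Over.isoMk (Iso.refl _) (Category.id_comp _)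
  -- generators
  obtain ⟨r, g, hg⟩ := Submodule.fg_iff_exists_fin_generating_family.1 (IsNoetherian.noetherian (maximalIdeal A))
  have hidl : Ideal.span (Set.range g) = maximalIdeal A := hg
  have hgm : ∀ j, g j ∈ maximalIdeal A := fun j => hidl ▸ Ideal.subset_span ⟨j, rfl⟩
  let g' : Fin r → A' := fun j => algebraMap A A' (g j)
  have hg'm : ∀ j, g' j ∈ maximalIdeal A' := fun j => hm ▸ Ideal.mem_map_of_mem _ (hgm j)
  obtain ⟨f', hf'sur, hf'ker⟩ := exists_secMap g' hg'm e3
  -- change the base of the localisations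
  have hel : ∀ x : A, algebraMap A' C' (algebraMap A A' x) = algebraMap A C' x := fun x =>
    (IsScalarTower.algebraMap_apply A A' C' x).symm
  haveI hloc : ∀ x : A, IsLocalization.Away (algebraMap A C' x) (Loc (A := A') C' (algebraMap A A' x)) := fun x => by
    rw [← hel x]
    infer_instance
  let cv : ∀ x : A, Loc (A := A') C' (algebraMap A A' x) ≃ₐ[C'] Loc (A := A) C' x := fun x =>
    haveI := hloc x
    IsLocalization.algEquiv (Submonoid.powers (algebraMap A C' x)) _ _
  have hcv : ∀ {x y : A} (h : x ∣ y) (h' : algebraMap A A' x ∣ algebraMap A A' y) (z : Loc (A := A') C' (algebraMap A A' x)),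
      resL (A := A) C' h (cv x z) = cv y (resL (A := A') C' h' z) := fun {x y} h h' z => by
    haveI := hloc x
    have he : (resL (A := A) C' h).comp (cv x).toAlgHom = (cv y).toAlgHom.comp (resL (A := A') C' h') :=
      IsLocalization.algHom_ext (Submonoid.powers (algebraMap A C' x)) (AlgHom.ext fun c => by
        show resL (A := A) C' h (cv x (algebraMap C' _ c)) = cv y (resL (A := A') C' h' (algebraMap C' _ c))
        rw [AlgEquiv.commutes, AlgHom.commutes, AlgHom.commutes, AlgEquiv.commutes])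
    exact AlgHom.congr_fun he z
  let cvA : ∀ x : A, Loc (A := A') C' (algebraMap A A' x) →ₐ[A'] Loc (A := A) C' x :=
    fun x => (cv x).toAlgHom.restrictScalars A'
  let f : E →ₐ[A'] ∀ j, Loc (A := A) C' (g j) :=
    Pi.algHom A' _ fun j => (cvA (g j)).comp
      ((Pi.evalAlgHom A' (fun j => Loc (A := A') C' (g' j)) j).comp ((SecL g' C').val.comp f'))
  have hfj : ∀ e j, f e j = cv (g j) ((f' e : ∀ j, Loc (A := A') C' (g' j)) j) := fun _ _ => rfl
  have hfS : ∀ e, f e ∈ SecL g C' := fun e => by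
    have hmul : ∀ j k, algebraMap A A' (g j * g k) = g' j * g' k := fun j k => map_mul _ _ _
    intro j k
    rw [hfj, hfj, hcv (dvd_fst (g j) (g k)) (map_dvd _ (dvd_fst (g j) (g k))),
      hcv (dvd_snd (g j) (g k)) (map_dvd _ (dvd_snd (g j) (g k)))]
    congr 1
    have key : ∀ (b : A') (hb : g' j * g' k = b) (h1 : g' j ∣ b) (h2 : g' k ∣ b),
        resL (A := A') C' h1 ((f' e : ∀ j, Loc (A := A') C' (g' j)) j) =
          resL (A := A') C' h2 ((f' e : ∀ j, Loc (A := A') C' (g' j)) k) := by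
      rintro _ rfl h1 h2
      exact (f' e).2 j k
    exact key _ (hmul j k).symm _ _
  have hA'2 : ∀ (n : ℕ) (a' : A'), ∃ a : A,
      a' - algebraMap A A' a ∈ (Ideal.span (Set.range g) ^ n).map (algebraMap A A') := by
    rw [hidl]; exact hA'
  obtain ⟨R, _, _, hRfin, ρ, hρsur, hρker, ⟨eR⟩⟩ := exists_patch A' g C hA'2 E f hfS (fun c l => by
      obtain ⟨n, e, he⟩ := hf'sur c l
      refine ⟨n, e, fun j => ?_⟩
      rw [hfj, he]
      show cv (g j) (g' l ^ n • algebraMap C' (Loc (A := A') C' (g' j)) c) = _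
      rw [← map_pow, Algebra.smul_def, map_mul, IsScalarTower.algebraMap_apply A' C' (Loc (A := A') C' (g' j)),
        AlgEquiv.commutes, AlgEquiv.commutes, Algebra.smul_def, ← IsScalarTower.algebraMap_apply,
        ← IsScalarTower.algebraMap_apply])
    (fun e he l => by
      obtain ⟨n, hn⟩ := hf'ker e (Subtype.ext (funext fun j => (cv (g j)).injective (by
        rw [← hfj, he, Pi.zero_apply]
        exact (map_zero _).symm))) l
      exact ⟨n, by rw [map_pow]; exact hn⟩)
  haveI := hRfin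
  haveI : Algebra.Etale A' (A' ⊗[A] R) := Algebra.Etale.of_equiv eR.symm
  haveI hRet : Algebra.Etale A R := Algebra.Etale.of_etale_tensorProduct_of_faithfullyFlat (R := A) (S := R) (T := A')
  -- compare with the given cover
  have hR : FEt.prop (rest A R) := MorphismProperty.pullback_snd _ _ (fet_sp_iff.2 ⟨hRfin, hRet⟩)
  obtain ⟨eR'⟩ := nonempty_iso_of_maps g hidl ρ (toSecL g C) hρsur hρker
    (fun h l => exists_pow_smul_mem_toSecL g C h l) (fun c hc l => toSecL_eq_zero g C hc l) hR hC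
  let oR : FEt.Cat (Spec (CommRingCat.of A)) := MorphismProperty.Over.mk ⊤ (sp A R) (fet_sp_iff.2 ⟨hRfin, hRet⟩)
  exact ⟨oR, ⟨MorphismProperty.Over.isoMk (Iso.refl _) (by simp [oR]) ≪≫ eR' ≪≫ eC⟩⟩

/-- The completion. -/
theorem completion_surj (A : Type u) [CommRing A] [IsLocalRing A] [IsNoetherianRing A] (n : ℕ)
    (a' : AdicCompletion (maximalIdeal A) A) :
    ∃ a : A, a' - algebraMap A (AdicCompletion (maximalIdeal A) A) a ∈
      (maximalIdeal A ^ n).map (algebraMap A (AdicCompletion (maximalIdeal A) A)) := by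
  obtain ⟨a, ha⟩ := Submodule.Quotient.mk_surjective _ (AdicCompletion.eval (maximalIdeal A) A n a')
  refine ⟨a, ?_⟩
  have h : a' - algebraMap A (AdicCompletion (maximalIdeal A) A) a ∈
      (maximalIdeal A ^ n • ⊤ : Submodule A (AdicCompletion (maximalIdeal A) A)) := by
    rw [AdicCompletion.pow_smul_top_eq_ker_eval (M := A) (IsNoetherian.noetherian (maximalIdeal A)), LinearMap.mem_ker,
      map_sub, sub_eq_zero, ← ha]
    rfl
  rwa [Ideal.smul_top_eq_map, Submodule.restrictScalars_mem] at h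

end Groth.Agent.Pi1Alg

end
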