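import Groth.Agent.Pi1Alg.Descend
import Groth.Agent.Alg6.AssDepth
import Mathlib.RingTheory.Regular.Flat

/-!
# Descending extensions of covers along flat local maps in depth two
-/

set_option autoImplicit false
set_option linter.unusedSectionVars false
set_option linter.style.haveILetI false
set_option backward.isDefEq.respectTransparency false
set_option backward.isDefEq.respectTransparency.types false
universe u

open CategoryTheory CategoryTheory.Limits AlgebraicGeometry IsLocalRing TensorProduct RingTheory.Sequence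

noncomputable section

namespace Groth.Agent.Pi1Alg

open Groth.Agent Groth.Agent.Pi1Ext Groth.Agent.Pi1Ext.RegPurity Groth.Agent.Pi1Ext.PuritySch

variable {A : Type u} [CommRing A] [IsLocalRing A] [IsNoetherianRing A]

theorem exists_regular_pair (h : (2 : ℕ∞) ≤ LocCoh.depth A A) :
    ∃ a b : A, a ∈ maximalIdeal A ∧ b ∈ maximalIdeal A ∧ IsSMulRegular A a ∧
      ∀ x y : A, b * x = a * y → ∃ z, x = a * z := by
  have hne : maximalIdeal A • (⊤ : Submodule A A) ≠ ⊤ := by
    rw [Ideal.smul_eq_mul, Ideal.mul_top]; exact (maximalIdeal.isMaximal A).ne_top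
  obtain ⟨rs, hrs, hmem, hlen⟩ := Alg6.exists_length_ge_of_le_idealDepth hne (n := 2) (by exact_mod_cast h)
  match rs, hlen with
  | a :: b :: rs, _ =>
    obtain ⟨ha, hb⟩ := (isWeaklyRegular_cons_iff A a (b :: rs)).mp hrs
    have hb' := ((isWeaklyRegular_cons_iff _ b rs).mp hb).1
    refine ⟨a, b, hmem a (by simp), hmem b (by simp), ha, fun x y hxy => ?_⟩
    have : b • (Submodule.Quotient.mk x : QuotSMulTop a A) = 0 := by
      rw [← Submodule.Quotient.mk_smul, Submodule.Quotient.mk_eq_zero, smul_eq_mul, hxy]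
      exact Submodule.smul_mem_pointwise_smul y a ⊤ trivial
    obtain ⟨z, -, hz⟩ := (Submodule.Quotient.mk_eq_zero _).1 (hb'.right_eq_zero_of_smul this)
    exact ⟨z, hz.symm⟩

/-- Powers of a regular pair stay regular on a flat algebra. -/
theorem regular_pair_of_flat (E : Type u) [CommRing E] [Algebra A E] [Module.Flat A E] {a b : A}
    (ha : IsSMulRegular A a) (hab : ∀ x y : A, b * x = a * y → ∃ z, x = a * z) :
    (∀ (N : ℕ) (e : E), a ^ N • e = 0 → e = 0) ∧
      ∀ (N : ℕ) (e : E), (∃ e', b ^ N • e = a ^ N • e') → ∃ e₀, e = a ^ N • e₀ := by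
  have hw : IsWeaklyRegular A [a, b] := by
    refine (isWeaklyRegular_cons_iff A a [b]).2 ⟨ha, (isWeaklyRegular_cons_iff _ b []).2 ⟨?_, IsWeaklyRegular.nil A _⟩⟩
    refine isSMulRegular_iff_right_eq_zero_of_smul.2 fun q hq => ?_
    obtain ⟨x, rfl⟩ := Submodule.Quotient.mk_surjective _ q
    rw [← Submodule.Quotient.mk_smul, Submodule.Quotient.mk_eq_zero] at hq
    obtain ⟨y, -, hy⟩ := hq
    obtain ⟨z, rfl⟩ := hab x y hy.symm
    rw [Submodule.Quotient.mk_eq_zero]
    exact Submodule.smul_mem_pointwise_smul z a ⊤ trivial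
  have hE := IsWeaklyRegular.of_flat (S := E) hw
  simp only [List.map_cons, List.map_nil, isWeaklyRegular_cons_iff] at hE
  obtain ⟨haE, hbE, -⟩ := hE
  have ha1 : ∀ e : E, a • e = 0 → e = 0 := fun e he => haE.right_eq_zero_of_smul (by rwa [algebraMap_smul])
  have ha2 : ∀ (N : ℕ) (e : E), a ^ N • e = 0 → e = 0 := fun N => by
    induction N with
    | zero => intro e he; simpa using he
    | succ N ih => intro e he; exact ha1 e (ih _ (by rwa [smul_smul, ← pow_succ]))
  have hb1 : ∀ (e e' : E), b • e = a • e' → ∃ e₀, e = a • e₀ := fun e e' h => by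
    have h1 : algebraMap A E b • (Submodule.Quotient.mk e : QuotSMulTop (algebraMap A E a) E) = 0 := by
      rw [← Submodule.Quotient.mk_smul, Submodule.Quotient.mk_eq_zero, algebraMap_smul, h, ← algebraMap_smul E a e']
      exact Submodule.smul_mem_pointwise_smul e' _ ⊤ trivial
    obtain ⟨z, -, hz⟩ := (Submodule.Quotient.mk_eq_zero _).1 (hbE.right_eq_zero_of_smul h1)
    exact ⟨z, by rw [← algebraMap_smul E a z]; exact hz.symm⟩
  have hbN : ∀ (N : ℕ) (e e' : E), b ^ N • e = a • e' → ∃ e₀, e = a • e₀ := fun N => by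
    induction N with
    | zero => intro e e' h; exact ⟨e', by simpa using h⟩
    | succ N ih =>
      intro e e' h
      rw [pow_succ, mul_smul] at h
      obtain ⟨e₁, he₁⟩ := ih _ _ h
      exact hb1 e e₁ he₁
  refine ⟨ha2, fun N => ?_⟩
  suffices key : ∀ (k : ℕ) (e e' : E), b ^ N • e = a ^ k • e' → ∃ e₀, e = a ^ k • e₀ from
    fun e ⟨e', he'⟩ => key N e e' he'
  intro k
  induction k with
  | zero => intro e e' _; exact ⟨e, by simp⟩
  | succ k ih =>
    intro e e' h
    obtain ⟨e₁, rfl⟩ := hbN N e (a ^ k • e') (by rw [h, smul_smul, ← pow_succ'])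
    have h2 : a • (b ^ N • e₁ - a ^ k • e') = 0 := by
      rw [smul_sub, smul_smul, mul_comm, ← smul_smul, h, smul_smul, ← pow_succ', sub_self]
    obtain ⟨e₂, rfl⟩ := ih e₁ e' (sub_eq_zero.1 (ha1 _ h2))
    exact ⟨e₂, by rw [smul_smul, ← pow_succ']⟩

variable {A' : Type u} [CommRing A'] [IsLocalRing A'] [Algebra A A'] [IsNoetherianRing A']

/-- The punctured spectrum pulls back to the punctured spectrum along a map with primary closed fibre. -/
theorem exists_punctured_of_primary (hle : (maximalIdeal A).map (algebraMap A A') ≤ maximalIdeal A')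
    (hm : maximalIdeal A' ≤ ((maximalIdeal A).map (algebraMap A A')).radical) :
    ∃ w : pullback (FEt.puncturedSpec A).ι (sp A A') ≅ (FEt.puncturedSpec A' : Scheme.{u}),
      w.hom ≫ (FEt.puncturedSpec A').ι = pullback.snd _ _ := by
  have hrange : Set.range (pullback.snd (FEt.puncturedSpec A).ι (sp A A')) = Set.range (FEt.puncturedSpec A').ι := by
    rw [IsOpenImmersion.range_pullbackSnd, Scheme.Opens.opensRange_ι, Scheme.Opens.range_ι]
    ext p
    show (sp A A' p : PrimeSpectrum A) ∈ ({IsLocalRing.closedPoint A}ᶜ : Set (PrimeSpectrum A)) ↔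
      p ∈ ({IsLocalRing.closedPoint A'}ᶜ : Set (PrimeSpectrum A'))
    simp only [Set.mem_compl_iff, Set.mem_singleton_iff]
    refine not_congr ⟨fun e => PrimeSpectrum.ext ?_, fun e => PrimeSpectrum.ext ?_⟩
    · have h1 : (p : PrimeSpectrum A').asIdeal.comap (algebraMap A A') = maximalIdeal A :=
        congrArg PrimeSpectrum.asIdeal e
      refine ((maximalIdeal.isMaximal A').eq_of_le (p : PrimeSpectrum A').2.ne_top (hm.trans ?_)).symm
      exact ((p : PrimeSpectrum A').2.radical_le_iff).2 (Ideal.map_le_iff_le_comap.2 h1.ge)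
    · show (p : PrimeSpectrum A').asIdeal.comap (algebraMap A A') = maximalIdeal A
      rw [show (p : PrimeSpectrum A').asIdeal = maximalIdeal A' from congrArg PrimeSpectrum.asIdeal e]
      exact ((maximalIdeal.isMaximal A).eq_of_le (Ideal.comap_ne_top _ (maximalIdeal.isMaximal A').ne_top)
        (Ideal.map_le_iff_le_comap.1 hle)).symm
  exact ⟨IsOpenImmersion.isoOfRangeEq (pullback.snd (FEt.puncturedSpec A).ι (sp A A')) _ hrange,
    IsOpenImmersion.isoOfRangeEq_hom_fac _ _ _⟩

/-- Being étale off the closed point is stable under base change with primary closed fibre. -/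
theorem etOff_baseChange_of_primary {C : Type u} [CommRing C] [Algebra A C] [Module.Finite A C] (hC : EtOff A C)
    (hm : maximalIdeal A' ≤ ((maximalIdeal A).map (algebraMap A A')).radical) : EtOff A' (A' ⊗[A] C) := fun g' hg' => by
  haveI : Algebra.FinitePresentation A' (A' ⊗[A] C) :=
    Algebra.FinitePresentation.of_finiteType.mp inferInstance
  unfold EtAway
  rw [← Algebra.basicOpen_subset_etaleLocus_iff_etale]
  intro q hq
  obtain ⟨g, hg, hgq⟩ : ∃ g ∈ maximalIdeal A,
      algebraMap A' (A' ⊗[A] C) (algebraMap A A' g) ∉ q.asIdeal := by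
    by_contra! hall
    refine hq (Ideal.mem_comap.1 (?_ : g' ∈ q.asIdeal.comap (algebraMap A' (A' ⊗[A] C))))
    exact (Ideal.IsPrime.radical_le_iff inferInstance).2 (show (maximalIdeal A).map (algebraMap A A') ≤ q.asIdeal.comap (algebraMap A' (A' ⊗[A] C)) from
      Ideal.map_le_iff_le_comap.2 hall) (hm hg')
  exact Algebra.basicOpen_subset_etaleLocus_iff_etale.2 (etAway_baseChange A' (hC g hg)) hgq

/-- Covers extend if their base changes along a flat local map extend, in depth at least two. -/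
theorem exists_extend_of_flat_baseChange [Module.FaithfullyFlat A A'] (hdepth : (2 : ℕ∞) ≤ LocCoh.depth A A)
    (hle : (maximalIdeal A).map (algebraMap A A') ≤ maximalIdeal A')
    (hm : maximalIdeal A' ≤ ((maximalIdeal A).map (algebraMap A A')).radical)
    (V : FEt.Cat (FEt.puncturedSpec A : Scheme.{u}))
    (hV : ∃ Y' : FEt.Cat (Spec (CommRingCat.of A')),
      Nonempty ((FEt.restrict (pullback.snd (FEt.puncturedSpec A).ι (sp A A'))).obj Y' ≅
        (FEt.restrict (pullback.fst (FEt.puncturedSpec A).ι (sp A A'))).obj V)) :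
    ∃ Y : FEt.Cat (Spec (CommRingCat.of A)), Nonempty ((FEt.restrict (FEt.puncturedSpec A).ι).obj Y ≅ V) := by
  classical
  obtain ⟨Y', ⟨eY⟩⟩ := hV
  obtain ⟨w, hw⟩ := exists_punctured_of_primary (A := A) (A' := A') hle hm
  obtain ⟨C, _, _, hCfin, hC, ⟨eC⟩⟩ := exists_finite_model V
  haveI := hCfin
  obtain ⟨E, _, _, hEfin, hEet, ⟨eE⟩⟩ := exists_algebra_model Y'
  haveI := hEfin
  haveI := hEet
  let P := FEt.puncturedSpec A
  let P' := FEt.puncturedSpec A'
  let C' := A' ⊗[A] C
  have hC' : EtOff A' C' := etOff_baseChange_of_primary hC hm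
  have hE : EtOff A' E := etOff_of_etale E
  -- the two restrictions to the punctured spectrum upstairs
  let ψ : (P' : Scheme.{u}) ⟶ (P : Scheme.{u}) := w.inv ≫ pullback.fst _ _
  have hψ : ψ ≫ P.ι = P'.ι ≫ sp A A' := by
    rw [Category.assoc, pullback.condition, ← hw, Category.assoc, w.inv_hom_id_assoc]
  have hpo : IsPullback (Spec.map (CommRingCat.ofHom (Algebra.TensorProduct.includeRight : C →ₐ[A] C').toRingHom))
      (sp A' C') (sp A C) (sp A A') :=
    (isPullback_SpecMap_of_isPushout _ _ _ _ (CommRingCat.isPushout_tensorProduct A A' C)).flip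
  have hB1 : IsPullback (pullback.fst (rest A C) ψ ≫ pullback.fst (sp A C) P.ι)
      (pullback.snd (rest A C) ψ) (sp A C) (P'.ι ≫ sp A A') := by
    have h3 := (IsPullback.of_hasPullback (rest A C) ψ).paste_horiz (IsPullback.of_hasPullback (sp A C) P.ι)
    rw [hψ] at h3
    exact h3
  have hB2 : IsPullback (pullback.fst (sp A' C') P'.ι ≫ _) (rest A' C') (sp A C) (P'.ι ≫ sp A A') :=
    (IsPullback.of_hasPullback (sp A' C') P'.ι).paste_horiz hpo
  let e1 : (FEt.restrict ψ).obj (obj C (prop_rest C hC)) ≅ obj C' (prop_rest C' hC') :=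
    MorphismProperty.Over.isoMk (hB1.isoIsPullback _ _ hB2) (hB1.isoIsPullback_hom_snd _ _ hB2)
  let oE : FEt.Cat (Spec (CommRingCat.of A')) := MorphismProperty.Over.mk ⊤ (sp A' E) (fet_sp_iff.2 ⟨hEfin, hEet⟩)
  have hsnd : w.inv ≫ pullback.snd P.ι (sp A A') = P'.ι := by rw [← hw, w.inv_hom_id_assoc]
  let e2 : obj C' (prop_rest C' hC') ≅ (FEt.restrict P'.ι).obj oE :=
    e1.symm ≪≫ (FEt.restrict ψ).mapIso eC ≪≫ (restrictComp w.inv _ _ rfl V).symm ≪≫
      (FEt.restrict w.inv).mapIso eY.symm ≪≫ restrictComp w.inv _ _ hsnd Y' ≪≫ (FEt.restrict P'.ι).mapIso eE.symm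
  let e3 : objO A' C' ≅ objO A' E :=
    (MorphismProperty.Over.forget FEt.prop.{u} ⊤ _).mapIso e2 ≪≫ Over.isoMk (Iso.refl _) (Category.id_comp _)
  -- generators
  obtain ⟨r, g, hg⟩ := Submodule.fg_iff_exists_fin_generating_family.1 (IsNoetherian.noetherian (maximalIdeal A))
  have hidl : Ideal.span (Set.range g) = maximalIdeal A := hg
  have hgm : ∀ j, g j ∈ maximalIdeal A := fun j => hidl ▸ Ideal.subset_span ⟨j, rfl⟩
  let g' : Fin r → A' := fun j => algebraMap A A' (g j)
  have hg'm : ∀ j, g' j ∈ maximalIdeal A' := fun j => hle (Ideal.mem_map_of_mem _ (hgm j))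
  obtain ⟨f', hf'sur, hf'ker⟩ := exists_secMap g' hg'm e3
  -- change the base of the localisations
  have hel : ∀ x : A, algebraMap A' C' (algebraMap A A' x) = algebraMap A C' x := fun x =>
    (IsScalarTower.algebraMap_apply A A' C' x).symm
  haveI hloc : ∀ x : A, IsLocalization.Away (algebraMap A C' x) (Loc (A := A') C' (algebraMap A A' x)) := fun x => by
    rw [← hel x]
    infer_instance
  let cv : ∀ x : A, Loc (A := A') C' (algebraMap A A' x) ≃ₐ[C'] Loc (A := A) C' x := fun x =>
    haveI := hloc x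
    IsLocalization.algEquiv (Submonoid.powers (algebraMap A C' x)) _ _
  have hcv : ∀ {x y : A} (h : x ∣ y) (h' : algebraMap A A' x ∣ algebraMap A A' y) (z : Loc (A := A') C' (algebraMap A A' x)),
      resL (A := A) C' h (cv x z) = cv y (resL (A := A') C' h' z) := fun {x y} h h' z => by
    haveI := hloc x
    have he : (resL (A := A) C' h).comp (cv x).toAlgHom = (cv y).toAlgHom.comp (resL (A := A') C' h') :=
      IsLocalization.algHom_ext (Submonoid.powers (algebraMap A C' x)) (AlgHom.ext fun c => by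
        show resL (A := A) C' h (cv x (algebraMap C' _ c)) = cv y (resL (A := A') C' h' (algebraMap C' _ c))
        rw [AlgEquiv.commutes, AlgHom.commutes, AlgHom.commutes, AlgEquiv.commutes])
    exact AlgHom.congr_fun he z
  let cvA : ∀ x : A, Loc (A := A') C' (algebraMap A A' x) →ₐ[A'] Loc (A := A) C' x :=
    fun x => (cv x).toAlgHom.restrictScalars A'
  let f : E →ₐ[A'] ∀ j, Loc (A := A) C' (g j) :=
    Pi.algHom A' _ fun j => (cvA (g j)).comp
      ((Pi.evalAlgHom A' (fun j => Loc (A := A') C' (g' j)) j).comp ((SecL g' C').val.comp f'))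
  have hfj : ∀ e j, f e j = cv (g j) ((f' e : ∀ j, Loc (A := A') C' (g' j)) j) := fun _ _ => rfl
  have hfS : ∀ e, f e ∈ SecL g C' := fun e => by
    have hmul : ∀ j k, algebraMap A A' (g j * g k) = g' j * g' k := fun j k => map_mul _ _ _
    intro j k
    rw [hfj, hfj, hcv (dvd_fst (g j) (g k)) (map_dvd _ (dvd_fst (g j) (g k))),
      hcv (dvd_snd (g j) (g k)) (map_dvd _ (dvd_snd (g j) (g k)))]
    congr 1
    have key : ∀ (b : A') (hb : g' j * g' k = b) (h1 : g' j ∣ b) (h2 : g' k ∣ b),
        resL (A := A') C' h1 ((f' e : ∀ j, Loc (A := A') C' (g' j)) j) =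
          resL (A := A') C' h2 ((f' e : ∀ j, Loc (A := A') C' (g' j)) k) := by
      rintro _ rfl h1 h2
      exact (f' e).2 j k
    exact key _ (hmul j k).symm _ _
  -- regular sequence
  obtain ⟨a, b, ham, hbm, ha, hab⟩ := exists_regular_pair hdepth
  letI : Algebra A E := Algebra.compHom E (algebraMap A A')
  haveI : IsScalarTower A A' E := IsScalarTower.of_algebraMap_eq fun _ => rfl
  haveI : Module.Flat A' E := inferInstance
  haveI : Module.Flat A E := Module.Flat.trans A A' E
  obtain ⟨haE, habE⟩ := regular_pair_of_flat E ha hab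
  -- kernels killed by the maximal ideal vanish
  have hzero : ∀ e : E, (∀ l, ∃ n : ℕ, g l ^ n • e = 0) → e = 0 := fun e he => by
    obtain ⟨N, hN⟩ := exists_pow_le g (J := LinearMap.ker (LinearMap.toSpanSingleton A E e)) he
    exact (haE N) e (hN (Ideal.pow_mem_pow (show a ∈ idl g from hidl.ge ham) N))
  have hinj : Function.Injective f := (injective_iff_map_eq_zero _).2 fun e he => hzero e fun l => by
    obtain ⟨n, hn⟩ := hf'ker e (Subtype.ext (funext fun j => (cv (g j)).injective (by
      rw [← hfj, he, Pi.zero_apply]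
      exact (map_zero _).symm))) l
    exact ⟨n, by rw [← algebraMap_smul A', map_pow]; exact hn⟩
  have hsmul : ∀ (x : A) (e : E), f (x • e) = x • f e := fun x e => by
    rw [← algebraMap_smul A' x e, map_smul, algebraMap_smul]
  -- the sections are those of the finite etale algebra
  have hsurS : ∀ y : SecL g C', ∀ l, ∃ (n : ℕ) (e : E), f e = g l ^ n • (y : ∀ j, Loc (A := A) C' (g j)) := fun y l => by
    obtain ⟨n, c, hc⟩ := exists_pow_smul_mem_toSecL g C' y l
    obtain ⟨m, e, he⟩ := hf'sur c l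
    refine ⟨m + n, e, funext fun j => ?_⟩
    rw [hfj, he, pow_add, mul_smul]
    show cv (g j) (g' l ^ m • algebraMap C' (Loc (A := A') C' (g' j)) c) = g l ^ m • ((g l ^ n • y : SecL g C') : ∀ j, Loc (A := A) C' (g j)) j
    rw [hc, toSecL_apply]
    rw [← map_pow, Algebra.smul_def, map_mul, IsScalarTower.algebraMap_apply A' C' (Loc (A := A') C' (g' j)),
      AlgEquiv.commutes, AlgEquiv.commutes, Algebra.smul_def, ← IsScalarTower.algebraMap_apply,
      ← IsScalarTower.algebraMap_apply]
  have hsurj : ∀ y : SecL g C', ∃ e : E, f e = (y : ∀ j, Loc (A := A) C' (g j)) := fun y => by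
    let J : Ideal A :=
      { carrier := {x | ∃ e : E, f e = x • (y : ∀ j, Loc (A := A) C' (g j))}
        add_mem' := fun {x z} ⟨e, he⟩ ⟨e', he'⟩ => ⟨e + e', by rw [map_add, he, he', add_smul]⟩
        zero_mem' := ⟨0, by rw [map_zero, zero_smul]⟩
        smul_mem' := fun c x ⟨e, he⟩ => ⟨c • e, by rw [hsmul, he, smul_smul, smul_eq_mul]⟩ }
    obtain ⟨N, hN⟩ := exists_pow_le g (J := J) fun l => by
      obtain ⟨n, e, he⟩ := hsurS y l
      exact ⟨n, e, he⟩
    obtain ⟨e1, he1⟩ := hN (Ideal.pow_mem_pow (show a ∈ idl g from hidl.ge ham) N)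
    obtain ⟨e2, he2⟩ := hN (Ideal.pow_mem_pow (show b ∈ idl g from hidl.ge hbm) N)
    obtain ⟨e, rfl⟩ := habE N e1 ⟨e2, hinj (by rw [hsmul, hsmul, he1, he2, smul_comm])⟩
    refine ⟨e, funext fun j => ?_⟩
    obtain ⟨n, e3, he3⟩ := hsurS y j
    have h3 : e3 = g j ^ n • e := by
      have h4 : a ^ N • (e3 - g j ^ n • e) = 0 := hinj (by
        rw [map_zero, hsmul, map_sub, hsmul, he3, smul_sub, smul_comm (a ^ N), smul_comm (a ^ N) _ (f e),
          ← hsmul (a ^ N) e, he1, sub_self])
      exact sub_eq_zero.1 (haE N _ h4)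
    rw [h3, hsmul] at he3
    have h5 := congrFun he3 j
    rw [Pi.smul_apply, Pi.smul_apply, Algebra.smul_def, Algebra.smul_def, map_pow] at h5
    exact ((isUnit_of_dvd C' dvd_rfl).pow n).mul_left_cancel h5
  -- base change of the sections
  let S := SecL g C
  have hβS : ∀ z, β A' g C z ∈ SecL g C' := fun z j k => by
    induction z using TensorProduct.induction_on with
    | zero => simp
    | tmul s h =>
      simp only [β_tmul, Pi.mul_apply, κS_apply, map_mul]
      exact congrArg₂ (· * ·) ((resL_algebraMap' A' C _ s).trans (resL_algebraMap' A' C _ s).symm)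
        ((κ_resL A' C _ _).symm.trans ((congrArg _ (h.2 j k)).trans (κ_resL A' C _ _)))
    | add z w hz hw => simp only [map_add, Pi.add_apply, hz, hw]
  choose ε hε using fun z => hsurj ⟨β A' g C z, hβS z⟩
  let εh : A' ⊗[A] S →ₐ[A'] E :=
    { toFun := ε
      map_one' := hinj ((hε 1).trans ((map_one (β A' g C)).trans (map_one f).symm))
      map_mul' := fun z w => hinj (by rw [map_mul, hε, hε, hε]; exact map_mul (β A' g C) z w)
      map_zero' := hinj ((hε 0).trans ((map_zero (β A' g C)).trans (map_zero f).symm))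
      map_add' := fun z w => hinj (by rw [map_add, hε, hε, hε]; exact map_add (β A' g C) z w)
      commutes' := fun r => hinj (by rw [hε, f.commutes]; exact (β A' g C).commutes r) }
  have hεb : Function.Bijective εh := by
    refine ⟨fun z w h => β_injective A' g C ?_, fun e => ?_⟩
    · have := congrArg f h
      rwa [show εh z = ε z from rfl, show εh w = ε w from rfl, hε, hε] at this
    · obtain ⟨z, hz⟩ := exists_β_eq A' g C (f e) (hfS e)
      exact ⟨z, hinj (by rw [show εh z = ε z from rfl, hε]; exact hz)⟩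
  let eS := AlgEquiv.ofBijective εh hεb
  haveI : Module.Finite A' (A' ⊗[A] S) := Module.Finite.equiv eS.toLinearEquiv.symm
  haveI : Module.Finite A S := Module.Finite.of_finite_tensorProduct_of_faithfullyFlat (R := A) A'
  haveI : Algebra.Etale A' (A' ⊗[A] S) := Algebra.Etale.of_equiv eS.symm
  haveI hSet : Algebra.Etale A S := Algebra.Etale.of_etale_tensorProduct_of_faithfullyFlat (R := A) (S := S) (T := A')
  have hSfin : Module.Finite A S := inferInstance
  have hR : FEt.prop (rest A S) := MorphismProperty.pullback_snd _ _ (fet_sp_iff.2 ⟨hSfin, hSet⟩)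
  obtain ⟨eR'⟩ := nonempty_iso_of_maps g hidl (AlgHom.id A S) (toSecL g C) (fun h _ => ⟨0, h, by simp⟩)
    (fun x hx _ => ⟨0, by rw [AlgHom.id_apply] at hx; rw [hx, smul_zero]⟩)
    (fun h l => exists_pow_smul_mem_toSecL g C h l) (fun c hc l => toSecL_eq_zero g C hc l) hR hC
  let oR : FEt.Cat (Spec (CommRingCat.of A)) := MorphismProperty.Over.mk ⊤ (sp A S) (fet_sp_iff.2 ⟨hSfin, hSet⟩)
  exact ⟨oR, ⟨MorphismProperty.Over.isoMk (Iso.refl _) (by simp [oR]) ≪≫ eR' ≪≫ eC⟩⟩

/-- Purity descends along faithfully flat maps with primary closed fibre, in depth at least two. -/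
theorem purityHolds_of_flat [Module.FaithfullyFlat A A'] (hdepth : (2 : ℕ∞) ≤ LocCoh.depth A A)
    (hle : (maximalIdeal A).map (algebraMap A A') ≤ maximalIdeal A')
    (hm : maximalIdeal A' ≤ ((maximalIdeal A).map (algebraMap A A')).radical)
    (hp : FEt.PurityHolds A') : FEt.PurityHolds A := by
  refine ⟨fun V => ?_⟩
  obtain ⟨w, hw⟩ := exists_punctured_of_primary (A := A) (A' := A') hle hm
  haveI : (FEt.restrict (FEt.puncturedSpec A').ι).EssSurj := hp
  let V' := (FEt.restrict (w.inv ≫ pullback.fst (FEt.puncturedSpec A).ι (sp A A'))).obj V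
  refine exists_extend_of_flat_baseChange hdepth hle hm V ⟨(FEt.restrict (FEt.puncturedSpec A').ι).objPreimage V', ⟨?_⟩⟩
  exact (restrictComp w.hom (FEt.puncturedSpec A').ι _ hw _).symm ≪≫
    (FEt.restrict w.hom).mapIso ((FEt.restrict (FEt.puncturedSpec A').ι).objObjPreimageIso V') ≪≫
      restrictComp w.hom _ _ (w.hom_inv_id_assoc _) V

end Groth.Agent.Pi1Alg

end
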