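import Groth.Agent.Pi1Alg.Punct

/-!
# Finite étale covers of the punctured divisor come from finite algebras
-/

set_option autoImplicit false
set_option linter.unusedSectionVars false
set_option linter.style.haveILetI false
set_option backward.isDefEq.respectTransparency false
set_option backward.isDefEq.respectTransparency.types false
universe u

open TensorProduct IsLocalRing CategoryTheory AlgebraicGeometry

noncomputable section

namespace Groth.Agent.Pi1Alg

open Groth.Agent.Pi1Ext Groth.Agent.Pi1Ext.RegPurity Groth.Agent.Pi1Ext.PuritySch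

variable {A : Type u} [CommRing A]

section Sub

variable {t : A} (C : Type u) [CommRing C] [Algebra A C] [Algebra (A ⧸ Ideal.span {t}) C]
  [IsScalarTower A (A ⧸ Ideal.span {t}) C] {ι : Type} (g : ι → A)

/-- The sections over the punctured divisor, as an algebra. -/
def secAlg : Subalgebra (A ⧸ Ideal.span {t}) (∀ j, Loc C (g j)) where
  carrier := {y | (fun j => (locEquiv C (g j)).symm (y j)) ∈ H0 g C}
  mul_mem' {a b} ha hb := (mem_H0 g C).2 fun j k => by
    have h1 := (mem_H0 g C).1 ha j k
    have h2 := (mem_H0 g C).1 hb j k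
    simp only [Pi.mul_apply, map_mul, res_mul] at h1 h2 ⊢
    rw [h1, h2]
  add_mem' {a b} ha hb := by
    show (fun j => (locEquiv C (g j)).symm ((a + b) j)) ∈ H0 g C
    have : (fun j => (locEquiv C (g j)).symm ((a + b) j)) =
        (fun j => (locEquiv C (g j)).symm (a j)) + fun j => (locEquiv C (g j)).symm (b j) :=
      funext fun j => map_add (locEquiv C (g j)).symm (a j) (b j)
    rw [this]
    exact add_mem ha hb
  algebraMap_mem' r := (mem_H0 g C).2 fun j k => by
    obtain ⟨a, rfl⟩ := Ideal.Quotient.mk_surjective r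
    have key : ∀ j, (locEquiv C (g j)).symm
        (algebraMap (A ⧸ Ideal.span {t}) (∀ j, Loc C (g j)) (Ideal.Quotient.mk _ a) j) = algebraMap A (L C (g j)) a :=
      fun j => by
        rw [← Ideal.Quotient.algebraMap_eq, ← IsScalarTower.algebraMap_apply]
        exact (locEquiv C (g j)).symm.commutes a
    simp only [key]
    rw [← resA_apply, ← resA_apply, AlgHom.commutes, AlgHom.commutes]

theorem mem_secAlg {y : ∀ j, Loc C (g j)} :
    y ∈ secAlg (t := t) C g ↔ (fun j => (locEquiv C (g j)).symm (y j)) ∈ H0 g C := Iff.rfl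

end Sub

variable [IsLocalRing A] [IsNoetherianRing A]

/-- Algebraisation of finite étale covers of the punctured divisor. -/
theorem exists_algebraisation (t : A) (ht : t ∈ maximalIdeal A) [IsAdicComplete (Ideal.span {t}) A]
    (hnz : IsSMulRegular A t) [IsLocalRing (A ⧸ Ideal.span {t})]
    (h1 : Module.Finite A (LocCoh.H (maximalIdeal A) 1 (A ⧸ Ideal.span {t})))
    (h2 : Module.Finite A (LocCoh.H (maximalIdeal A) 2 (A ⧸ Ideal.span {t})))
    (C : Type u) [CommRing C] [Algebra (A ⧸ Ideal.span {t}) C] [Module.Finite (A ⧸ Ideal.span {t}) C]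
    (hC : EtOff (A ⧸ Ideal.span {t}) C) :
    ∃ (B : Type u) (_ : CommRing B) (_ : Algebra A B) (_ : Module.Finite A B)
      (hB : FEt.prop (rest (A ⧸ Ideal.span {t}) ((A ⧸ Ideal.span {t}) ⊗[A] B))),
      (∀ (q : Ideal B) [q.IsPrime], t ∈ q.comap (algebraMap A B) → q.comap (algebraMap A B) ≠ maximalIdeal A →
        Algebra.IsEtaleAt A q) ∧
      Nonempty (obj ((A ⧸ Ideal.span {t}) ⊗[A] B) hB ≅ obj C (prop_rest C hC)) := by
  classical
  let T := A ⧸ Ideal.span {t}
  letI : Algebra A C := Algebra.compHom C (algebraMap A T)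
  haveI : IsScalarTower A T C := IsScalarTower.of_algebraMap_eq fun _ => rfl
  haveI : Module.Finite A C := Module.Finite.trans T C
  obtain ⟨r, g, hg⟩ := Submodule.fg_iff_exists_fin_generating_family.1 (IsNoetherian.noetherian (maximalIdeal A))
  have hidl : Ideal.span (Set.range g) = maximalIdeal A := hg
  have hgm : ∀ j, g j ∈ maximalIdeal A := fun j => hidl ▸ Ideal.subset_span ⟨j, rfl⟩
  have hmT : ∀ {x : A}, x ∈ maximalIdeal A → Ideal.Quotient.mk (Ideal.span {t}) x ∈ maximalIdeal T := fun {x} hx => by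
    rw [IsLocalRing.mem_maximalIdeal, mem_nonunits_iff]
    intro hu
    haveI : IsLocalHom (Ideal.Quotient.mk (Ideal.span {t})) :=
      IsLocalHom.of_surjective _ Ideal.Quotient.mk_surjective
    exact hx ((isUnit_map_iff (Ideal.Quotient.mk (Ideal.span {t})) x).1 hu)
  haveI : Module.Finite A (H0 g T) := finite_H0 g T (by rw [idl, hidl]; exact h1)
  have hT1 : H1FG g T := h1FG_of_H2 g T (by rw [idl, hidl]; exact h2)
  have hLS : LS g C T := fun j => exists_retr (hC _ (hmT (hgm j)))
  haveI := LS.finite_H0 g hLS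
  have hC1 : H1FG g C := LS.h1FG g hLS hT1
  obtain ⟨B, _, _, hBfin, φ, hBreg, hφmem, hφker, hφsur⟩ := exists_algebra (g := g) hnz hC1
    (fun x hx => exists_lift_of_etale (hC _ (hmT (hidl ▸ hx))))
  haveI := hBfin
  let T' := secAlg (t := t) C g
  -- the map from the algebraisation
  let eAll : (∀ j, L C (g j)) →ₐ[A] (∀ j, Loc C (g j)) :=
    Pi.algHom A _ fun j => (locEquiv C (g j)).toAlgHom.comp (Pi.evalAlgHom A (fun j => L C (g j)) j)
  let ψ : B →ₐ[A] T' := ((eAll.comp φ).codRestrict (T'.restrictScalars A) fun b => by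
    show (fun j => (locEquiv C (g j)).symm (locEquiv C (g j) (φ b j))) ∈ H0 g C
    simp only [AlgEquiv.symm_apply_apply]
    exact hφmem b)
  let fB : T ⊗[A] B →ₐ[T] T' := Algebra.TensorProduct.lift (Algebra.ofId T T') ψ fun _ _ => Commute.all _ _
  have hfB : ∀ b : B, ∀ j, ((fB (1 ⊗ₜ b) : T') : ∀ j, Loc C (g j)) j = locEquiv C (g j) (φ b j) := fun b j => by
    simp only [fB, Algebra.TensorProduct.lift_tmul, map_one, one_mul]
    rfl
  have hone : ∀ z : T ⊗[A] B, ∃ b : B, z = 1 ⊗ₜ b := fun z => by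
    induction z using TensorProduct.induction_on with
    | zero => exact ⟨0, (TensorProduct.tmul_zero _ _).symm⟩
    | tmul q b =>
      obtain ⟨a, rfl⟩ := Ideal.Quotient.mk_surjective q
      refine ⟨a • b, ?_⟩
      rw [← TensorProduct.smul_tmul, Algebra.smul_def, mul_one]
      rfl
    | add z w hz hw =>
      obtain ⟨a, rfl⟩ := hz
      obtain ⟨c, rfl⟩ := hw
      exact ⟨a + c, (TensorProduct.tmul_add _ _ _).symm⟩
  -- the map from the given algebra
  let fC : C →ₐ[T] T' := (Pi.algHom T _ fun j => IsScalarTower.toAlgHom T C (Loc C (g j))).codRestrict T'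
    fun c => (mem_H0 g C).2 fun j k => by
      have key : ∀ j, (locEquiv C (g j)).symm (algebraMap C (Loc C (g j)) c) = mk C (g j) c := fun j => by
        rw [AlgEquiv.symm_apply_eq, locEquiv_apply, locLin_mk]
      show res C _ ((locEquiv C (g j)).symm (algebraMap C (Loc C (g j)) c)) =
        res C _ ((locEquiv C (g k)).symm (algebraMap C (Loc C (g k)) c))
      rw [key, key, res_mk, res_mk]
  haveI : Module.Finite T T' := by
    haveI : Module.Finite A T' := by
      let f : T' →ₗ[A] H0 g C := LinearMap.codRestrict _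
        ((LinearMap.pi fun j => (locEquiv C (g j)).symm.toLinearMap ∘ₗ LinearMap.proj j) ∘ₗ
          (T'.val.restrictScalars A).toLinearMap) fun y => y.2
      refine Module.Finite.of_injective f fun a b hab => Subtype.ext (funext fun j => ?_)
      exact (locEquiv C (g j)).symm.injective (congrFun (congrArg Subtype.val hab) j)
    exact Module.Finite.of_restrictScalars_finite A T T'
  have hT'mem : ∀ (x : A) (n : ℕ) (y : T') (j), ((Ideal.Quotient.mk (Ideal.span {t}) x ^ n • y : T') :
      ∀ j, Loc C (g j)) j = x ^ n • (y : ∀ j, Loc C (g j)) j := fun x n y j => by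
    rw [← map_pow]
    exact algebraMap_smul T (x ^ n) ((y : ∀ j, Loc C (g j)) j)
  have hspan : ∀ {x : T}, x ∈ maximalIdeal T → x ∈ Ideal.span (Set.range fun j => Ideal.Quotient.mk (Ideal.span {t}) (g j)) :=
    fun {x} hx => by
      obtain ⟨a, rfl⟩ := Ideal.Quotient.mk_surjective x
      have ha : a ∈ maximalIdeal A := fun hu => hx (hu.map _)
      have h3 := Ideal.mem_map_of_mem (Ideal.Quotient.mk (Ideal.span {t})) (show a ∈ Ideal.span (Set.range g) from hidl ▸ ha)
      rwa [Ideal.map_span, ← Set.range_comp] at h3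
  have hisoC : ∀ x ∈ maximalIdeal T, IsoAway fC x := fun x hx => by
    refine isoAway_of_gens (fun j => Ideal.Quotient.mk (Ideal.span {t}) (g j)) fC (fun l y => ?_) (fun l c hc => ?_)
      (hspan hx)
    · obtain ⟨n, m, hm⟩ := exists_pow_smul_mem_range g C _ y.2 l
      refine ⟨n, m, Subtype.ext (funext fun j => ?_)⟩
      rw [hT'mem]
      show g l ^ n • (y : ∀ j, Loc C (g j)) j = algebraMap C (Loc C (g j)) m
      rw [← locLin_mk, ← locEquiv_apply]
      have := congrArg (locEquiv C (g j)) (congrFun hm j).symm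
      rwa [Pi.smul_apply, map_smul, AlgEquiv.apply_symm_apply] at this
    · have h0 : algebraMap C (Loc C (g l)) c = 0 := congrFun (congrArg Subtype.val hc) l
      rw [← locLin_mk] at h0
      obtain ⟨n, hn⟩ := (mk_eq_zero C).1 ((locLin C (g l)).injective (h0.trans (map_zero _).symm))
      refine ⟨n, ?_⟩
      rw [← map_pow]
      exact (algebraMap_smul T (g l ^ n) c).trans hn
  have hisoB : ∀ x ∈ maximalIdeal T, IsoAway fB x := fun x hx => by
    refine isoAway_of_gens (fun j => Ideal.Quotient.mk (Ideal.span {t}) (g j)) fB (fun l y => ?_) (fun l z hz => ?_)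
      (hspan hx)
    · obtain ⟨n, b, hb⟩ := hφsur l _ y.2
      refine ⟨n, 1 ⊗ₜ b, Subtype.ext (funext fun j => ?_)⟩
      rw [hT'mem, hfB, hb, Pi.smul_apply, map_smul, AlgEquiv.apply_symm_apply]
    · obtain ⟨b, rfl⟩ := hone z
      have hb0 : φ b = 0 := funext fun j => (locEquiv C (g j)).injective (by
        rw [← hfB, hz, Pi.zero_apply, map_zero]; rfl)
      obtain ⟨a, rfl⟩ := hφker b hb0
      refine ⟨0, ?_⟩
      rw [pow_zero, one_smul, ← TensorProduct.smul_tmul, Algebra.smul_def, mul_one]
      have : algebraMap A T t = 0 := Ideal.Quotient.eq_zero_iff_mem.2 (Ideal.mem_span_singleton_self t)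
      rw [this, TensorProduct.zero_tmul]
  have hT' : EtOff T T' := fun x hx => (hisoC x hx).etale (hC x hx)
  have hBT : EtOff T (T ⊗[A] B) := fun x hx => etAway_of_isoAway (hisoB x hx) (hT' x hx)
  obtain ⟨e₁⟩ := nonempty_iso fC hisoC (prop_rest C hC) (prop_rest T' hT')
  obtain ⟨e₂⟩ := nonempty_iso fB hisoB (prop_rest (T ⊗[A] B) hBT) (prop_rest T' hT')
  refine ⟨B, inferInstance, inferInstance, hBfin, prop_rest _ hBT, fun q _ htq hne => ?_, ⟨e₂.symm ≪≫ e₁⟩⟩
  obtain ⟨l, hl⟩ : ∃ l, g l ∉ q.comap (algebraMap A B) := by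
    by_contra! hall
    refine hne ((maximalIdeal.isMaximal A).eq_of_le (Ideal.IsPrime.ne_top inferInstance) ?_).symm
    rw [← hidl, Ideal.span_le]
    rintro _ ⟨l, rfl⟩
    exact hall l
  exact isEtaleAt_of_quot B hBreg (hBT _ (hmT (hgm l))) _ htq hl q rfl

end Groth.Agent.Pi1Alg

end
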