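import Groth.Agent.Pi1Alg.Punct
import Mathlib.RingTheory.Finiteness.Descent
import Mathlib.RingTheory.Etale.Descent
import Mathlib.RingTheory.Flat.Equalizer

/-!
# Patching a finite algebra along a flat map which is an isomorphism modulo powers of an ideal
-/

set_option autoImplicit false
set_option linter.unusedSectionVars false
set_option linter.style.haveILetI false
set_option backward.isDefEq.respectTransparency false
set_option backward.isDefEq.respectTransparency.types false
universe u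

open TensorProduct

noncomputable section

namespace Groth.Agent.Pi1Alg

variable {A : Type u} [CommRing A] (A' : Type u) [CommRing A'] [Algebra A A']

theorem isUnit_of_dvd (C : Type u) [CommRing C] [Algebra A C] {x y : A} (h : x ∣ y) :
    IsUnit (algebraMap A (Loc C y) x) := by
  refine isUnit_of_dvd_unit (map_dvd (algebraMap A (Loc C y)) h) ?_
  rw [IsScalarTower.algebraMap_apply A C (Loc C y)]
  exact IsLocalization.Away.algebraMap_isUnit _

/-- Restriction between localisations, as algebras. -/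
def resL (C : Type u) [CommRing C] [Algebra A C] {x y : A} (h : x ∣ y) : Loc C x →ₐ[C] Loc C y :=
  IsLocalization.liftAlgHom (M := Submonoid.powers (algebraMap A C x)) (f := Algebra.ofId C (Loc C y)) fun s => by
    obtain ⟨_, n, rfl⟩ := s
    rw [map_pow]
    refine IsUnit.pow n ?_
    show IsUnit (algebraMap C (Loc C y) (algebraMap A C x))
    rw [← IsScalarTower.algebraMap_apply]
    exact isUnit_of_dvd C h

theorem resL_res (C : Type u) [CommRing C] [Algebra A C] {x y : A} (h : x ∣ y) (z : L C x) :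
    resL C h (locEquiv C x z) = locEquiv C y (res C h z) := by
  obtain ⟨n, c, hc⟩ := exists_mk C z
  have key : x ^ n • resL C h (locEquiv C x z) = x ^ n • locEquiv C y (res C h z) := by
    rw [← AlgHom.restrictScalars_apply A (resL C h), ← map_smul, ← map_smul, hc, ← map_smul, ← map_smul, hc,
      res_mk, locEquiv_apply, locEquiv_apply, locLin_mk, locLin_mk]
    exact (resL C h).commutes c
  rw [Algebra.smul_def, Algebra.smul_def, map_pow] at key
  exact ((isUnit_of_dvd C h).pow n).mul_left_cancel key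

variable {ι : Type} (g : ι → A) (C : Type u) [CommRing C] [Algebra A C]

/-- Sections over the cover. -/
def SecL : Subalgebra A (∀ j, Loc C (g j)) where
  carrier := {y | ∀ j k, resL C (dvd_fst (g j) (g k)) (y j) = resL C (dvd_snd (g j) (g k)) (y k)}
  mul_mem' {a b} ha hb j k := by simp only [Pi.mul_apply, map_mul, ha j k, hb j k]
  add_mem' {a b} ha hb j k := by simp only [Pi.add_apply, map_add, ha j k, hb j k]
  algebraMap_mem' a j k := by
    simp only [Pi.algebraMap_apply]
    exact (((resL C (dvd_fst (g j) (g k))).restrictScalars A).commutes a).trans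
      (((resL C (dvd_snd (g j) (g k))).restrictScalars A).commutes a).symm

theorem mem_SecL {y : ∀ j, Loc C (g j)} :
    y ∈ SecL g C ↔ ∀ j k, resL C (dvd_fst (g j) (g k)) (y j) = resL C (dvd_snd (g j) (g k)) (y k) := Iff.rfl

theorem mem_SecL_iff_H0 {z : C0 g C} : (fun j => locEquiv C (g j) (z j)) ∈ SecL g C ↔ z ∈ H0 g C := by
  rw [mem_SecL, mem_H0]
  refine forall_congr' fun j => forall_congr' fun k => ?_
  rw [resL_res, resL_res]
  exact (locEquiv C (g j * g k)).injective.eq_iff

/-- The canonical map to the sections. -/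
def toSecL : C →ₐ[A] SecL g C :=
  (Pi.algHom A _ fun j => IsScalarTower.toAlgHom A C (Loc C (g j))).codRestrict _ fun c j k =>
    ((resL C (dvd_fst (g j) (g k))).commutes c).trans ((resL C (dvd_snd (g j) (g k))).commutes c).symm

theorem toSecL_apply (c : C) (j : ι) : (toSecL g C c : ∀ j, Loc C (g j)) j = algebraMap C (Loc C (g j)) c := rfl

theorem exists_pow_smul_mem_toSecL [IsNoetherianRing A] [Fintype ι] (y : SecL g C) (l : ι) :
    ∃ (n : ℕ) (c : C), g l ^ n • y = toSecL g C c := by
  have hz : (fun j => (locEquiv C (g j)).symm ((y : ∀ j, Loc C (g j)) j)) ∈ H0 g C := by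
    rw [← mem_SecL_iff_H0]
    simpa using y.2
  obtain ⟨n, c, hc⟩ := exists_pow_smul_mem_range g C _ hz l
  refine ⟨n, c, Subtype.ext (funext fun j => ?_)⟩
  rw [toSecL_apply, ← locLin_mk, ← locEquiv_apply]
  show g l ^ n • (y : ∀ j, Loc C (g j)) j = _
  rw [show mk C (g j) c = (g l ^ n • fun j => (locEquiv C (g j)).symm ((y : ∀ j, Loc C (g j)) j)) j from
    congrFun hc j, Pi.smul_apply, map_smul, AlgEquiv.apply_symm_apply]

theorem toSecL_eq_zero [Fintype ι] {c : C} (h : toSecL g C c = 0) (l : ι) : ∃ n : ℕ, g l ^ n • c = 0 := by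
  have h0 : algebraMap C (Loc C (g l)) c = 0 := congrFun (congrArg Subtype.val h) l
  rw [← locLin_mk] at h0
  exact (mk_eq_zero C).1 ((locLin C (g l)).injective (h0.trans (map_zero _).symm))

/-- The comparison of localisations. -/
def κ (x : A) : Loc C x →ₐ[A] Loc (A' ⊗[A] C) x :=
  IsLocalization.liftAlgHom (M := Submonoid.powers (algebraMap A C x))
    (f := (IsScalarTower.toAlgHom A (A' ⊗[A] C) (Loc (A' ⊗[A] C) x)).comp Algebra.TensorProduct.includeRight) fun s => by
    obtain ⟨_, n, rfl⟩ := s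
    rw [map_pow]
    refine IsUnit.pow n ?_
    rw [AlgHom.commutes]
    exact isUnit_of_dvd (A' ⊗[A] C) dvd_rfl

theorem κ_algebraMap (x : A) (c : C) :
    κ A' C x (algebraMap C (Loc C x) c) = algebraMap (A' ⊗[A] C) (Loc (A' ⊗[A] C) x) (1 ⊗ₜ c) :=
  IsLocalization.lift_eq _ c

theorem κ_resL {x y : A} (h : x ∣ y) (z : Loc C x) :
    κ A' C y (resL C h z) = resL (A' ⊗[A] C) h (κ A' C x z) := by
  obtain ⟨c, ⟨_, n, rfl⟩, rfl⟩ := IsLocalization.exists_mk'_eq (Submonoid.powers (algebraMap A C x)) z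
  set v := IsLocalization.mk' (Loc C x) c (⟨algebraMap A C x ^ n, n, rfl⟩ : Submonoid.powers (algebraMap A C x))
  have hv : x ^ n • v = algebraMap C (Loc C x) c := by
    rw [Algebra.smul_def, map_pow, IsScalarTower.algebraMap_apply A C (Loc C x), ← map_pow (algebraMap C (Loc C x)),
      ← map_pow (algebraMap A C)]
    rw [map_pow (algebraMap A C)]
    exact IsLocalization.mk'_spec' (Loc C x) c (⟨algebraMap A C x ^ n, n, rfl⟩ : Submonoid.powers (algebraMap A C x))
  have key : x ^ n • κ A' C y (resL C h v) = x ^ n • resL (A' ⊗[A] C) h (κ A' C x v) := by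
    rw [← map_smul, ← AlgHom.restrictScalars_apply A (resL C h), ← map_smul, hv,
      ← AlgHom.restrictScalars_apply A (resL (A' ⊗[A] C) h), ← map_smul, ← map_smul, hv,
      AlgHom.restrictScalars_apply, AlgHom.restrictScalars_apply, AlgHom.commutes, κ_algebraMap, κ_algebraMap,
      AlgHom.commutes]
  rw [Algebra.smul_def, Algebra.smul_def, map_pow] at key
  exact ((isUnit_of_dvd (A' ⊗[A] C) h).pow n).mul_left_cancel key

/-- The base change of a localisation. -/
def γ (x : A) : A' ⊗[A] Loc C x →ₐ[A'] Loc (A' ⊗[A] C) x :=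
  Algebra.TensorProduct.lift (Algebra.ofId A' _) (κ A' C x) fun _ _ => Commute.all _ _

theorem γ_tmul (x : A) (a : A') (z : Loc C x) :
    γ A' C x (a ⊗ₜ z) = algebraMap A' (Loc (A' ⊗[A] C) x) a * κ A' C x z :=
  Algebra.TensorProduct.lift_tmul _ _ _ a z

theorem γ_injective (x : A) : Function.Injective (γ A' C x) := by
  let q : A' ⊗[A] C →ₐ[A'] A' ⊗[A] Loc C x :=
    Algebra.TensorProduct.map (AlgHom.id A' A') (IsScalarTower.toAlgHom A C (Loc C x))
  have hq : ∀ c', γ A' C x (q c') = algebraMap (A' ⊗[A] C) (Loc (A' ⊗[A] C) x) c' := fun c' => by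
    induction c' using TensorProduct.induction_on with
    | zero => simp
    | tmul a c =>
      rw [Algebra.TensorProduct.map_tmul, γ_tmul, AlgHom.id_apply, IsScalarTower.coe_toAlgHom', κ_algebraMap,
        IsScalarTower.algebraMap_apply A' (A' ⊗[A] C) (Loc (A' ⊗[A] C) x), ← map_mul]
      congr 1
      rw [Algebra.TensorProduct.algebraMap_apply, Algebra.TensorProduct.tmul_mul_tmul]
      simp
    | add z w hz hw => simp only [map_add, hz, hw]
  have hu : IsUnit (algebraMap A (A' ⊗[A] Loc C x) x) := by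
    rw [← Algebra.TensorProduct.includeRight.commutes (R := A) x]
    exact (isUnit_of_dvd C dvd_rfl).map _
  have hrep : ∀ z : A' ⊗[A] Loc C x, ∃ (n : ℕ) (c' : A' ⊗[A] C), x ^ n • z = q c' := fun z => by
    induction z using TensorProduct.induction_on with
    | zero => exact ⟨0, 0, by simp⟩
    | tmul a w =>
      obtain ⟨⟨c, ⟨_, n, rfl⟩⟩, hn⟩ := IsLocalization.surj (Submonoid.powers (algebraMap A C x)) w
      refine ⟨n, a ⊗ₜ c, ?_⟩
      rw [Algebra.TensorProduct.map_tmul, AlgHom.id_apply, IsScalarTower.coe_toAlgHom', ← TensorProduct.tmul_smul,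
        ← hn, Algebra.smul_def, mul_comm]
      simp only [map_pow, IsScalarTower.algebraMap_apply A C (Loc C x)]
    | add z w hz hw =>
      obtain ⟨n, c, hc⟩ := hz
      obtain ⟨m, d, hd⟩ := hw
      refine ⟨n + m, x ^ m • c + x ^ n • d, ?_⟩
      rw [map_add, AlgHom.map_smul_of_tower, AlgHom.map_smul_of_tower, ← hc, ← hd, smul_add, smul_smul, smul_smul,
        ← pow_add, ← pow_add, add_comm m n]
  refine (injective_iff_map_eq_zero _).2 fun z hz => ?_
  obtain ⟨n, c', hc⟩ := hrep z
  have h0 : algebraMap (A' ⊗[A] C) (Loc (A' ⊗[A] C) x) c' = 0 := by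
    rw [← hq, ← hc, AlgHom.map_smul_of_tower, hz, smul_zero]
  obtain ⟨⟨_, k, rfl⟩, hk⟩ := (IsLocalization.map_eq_zero_iff (Submonoid.powers (algebraMap A (A' ⊗[A] C) x))
    (Loc (A' ⊗[A] C) x) c').1 h0
  have h1 : algebraMap A (A' ⊗[A] Loc C x) x ^ (k + n) * z = 0 := by
    rw [← map_pow, ← Algebra.smul_def, pow_add, mul_smul, hc, ← AlgHom.map_smul_of_tower, Algebra.smul_def,
      map_pow, show algebraMap A (A' ⊗[A] C) x ^ k * c' = 0 from hk, map_zero]
  exact (hu.pow (k + n)).mul_left_cancel (h1.trans (mul_zero _).symm)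

/-- The comparison of sections. -/
def κS : SecL g C →ₐ[A] ∀ j, Loc (A' ⊗[A] C) (g j) :=
  Pi.algHom A _ fun j => (κ A' C (g j)).comp ((Pi.evalAlgHom A (fun j => Loc C (g j)) j).comp (SecL g C).val)

theorem κS_apply (h : SecL g C) (j : ι) :
    κS A' g C h j = κ A' C (g j) ((h : ∀ j, Loc C (g j)) j) := rfl

/-- The base change of the sections. -/
def β : A' ⊗[A] SecL g C →ₐ[A'] ∀ j, Loc (A' ⊗[A] C) (g j) :=
  Algebra.TensorProduct.lift (Algebra.ofId A' _) (κS A' g C) fun _ _ => Commute.all _ _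

theorem β_tmul (a : A') (h : SecL g C) :
    β A' g C (a ⊗ₜ h) = algebraMap A' _ a * κS A' g C h := Algebra.TensorProduct.lift_tmul _ _ _ a h

theorem β_piRight [Fintype ι] [DecidableEq ι] (z : A' ⊗[A] SecL g C) (j : ι) :
    β A' g C z j = γ A' C (g j) (TensorProduct.piRight A A' A' (fun j => Loc C (g j))
      ((SecL g C).val.toLinearMap.lTensor A' z) j) := by
  induction z using TensorProduct.induction_on with
  | zero => simp
  | tmul a h =>
    rw [LinearMap.lTensor_tmul, TensorProduct.piRight_apply, TensorProduct.piRightHom_tmul, γ_tmul, β_tmul]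
    rfl
  | add z w hz hw => simp only [map_add, Pi.add_apply, hz, hw]

theorem β_injective [Fintype ι] [Module.Flat A A'] : Function.Injective (β A' g C) := by
  classical
  refine (injective_iff_map_eq_zero _).2 fun z hz => ?_
  refine Module.Flat.lTensor_preserves_injective_linearMap (M := A') (SecL g C).val.toLinearMap
    Subtype.val_injective ((TensorProduct.piRight A A' A' (fun j => Loc C (g j))).injective ?_)
  rw [map_zero, map_zero]
  funext j
  refine γ_injective A' C (g j) ?_
  rw [← β_piRight, hz]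
  exact (map_zero _).symm

theorem γ_surjective (x : A) : Function.Surjective (γ A' C x) := fun y => by
  obtain ⟨⟨c', ⟨_, n, rfl⟩⟩, hn⟩ := IsLocalization.surj (Submonoid.powers (algebraMap A (A' ⊗[A] C) x)) y
  obtain ⟨u, hu⟩ := ((isUnit_of_dvd C (x := x) dvd_rfl).pow n).exists_right_inv
  refine ⟨Algebra.TensorProduct.map (AlgHom.id A' A') (IsScalarTower.toAlgHom A C (Loc C x)) c' * (1 ⊗ₜ u), ?_⟩
  have hq : γ A' C x (Algebra.TensorProduct.map (AlgHom.id A' A') (IsScalarTower.toAlgHom A C (Loc C x)) c') =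
      algebraMap (A' ⊗[A] C) (Loc (A' ⊗[A] C) x) c' := by
    clear hn
    induction c' using TensorProduct.induction_on with
    | zero => simp
    | tmul a c =>
      rw [Algebra.TensorProduct.map_tmul, γ_tmul, AlgHom.id_apply, IsScalarTower.coe_toAlgHom', κ_algebraMap,
        IsScalarTower.algebraMap_apply A' (A' ⊗[A] C) (Loc (A' ⊗[A] C) x), ← map_mul]
      congr 1
      rw [Algebra.TensorProduct.algebraMap_apply, Algebra.TensorProduct.tmul_mul_tmul]
      simp
    | add z w hz hw => simp only [map_add, hz, hw]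
  have h2 : algebraMap A (Loc (A' ⊗[A] C) x) x ^ n * κ A' C x u = 1 := by
    rw [← (κ A' C x).commutes, ← map_pow, ← map_mul, hu, map_one]
  rw [map_mul, hq, γ_tmul, map_one, one_mul, ← hn, mul_assoc]
  simp only [map_pow, ← IsScalarTower.algebraMap_apply]
  rw [h2, mul_one]

/-- The differential. -/
def dL : (∀ j, Loc C (g j)) →ₗ[A] (∀ j k, Loc C (g j * g k)) :=
  LinearMap.pi fun j => LinearMap.pi fun k =>
    ((resL C (dvd_fst (g j) (g k))).restrictScalars A).toLinearMap ∘ₗ LinearMap.proj j -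
      ((resL C (dvd_snd (g j) (g k))).restrictScalars A).toLinearMap ∘ₗ LinearMap.proj k

theorem exact_dL : Function.Exact (SecL g C).val.toLinearMap (dL g C) := fun v => by
  constructor
  · intro hv
    exact ⟨⟨v, fun j k => sub_eq_zero.1 (congrFun (congrFun hv j) k)⟩, rfl⟩
  · rintro ⟨h, rfl⟩
    funext j k
    exact sub_eq_zero.2 (h.2 j k)

theorem resL_algebraMap' {x y : A} (h : x ∣ y) (a : A') :
    resL (A' ⊗[A] C) h (algebraMap A' (Loc (A' ⊗[A] C) x) a) = algebraMap A' (Loc (A' ⊗[A] C) y) a :=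
  ((resL (A' ⊗[A] C) h).restrictScalars A').commutes a

theorem γ_resL {x y : A} (h : x ∣ y) (z : A' ⊗[A] Loc C x) :
    γ A' C y (((resL C h).restrictScalars A).toLinearMap.lTensor A' z) = resL (A' ⊗[A] C) h (γ A' C x z) := by
  induction z using TensorProduct.induction_on with
  | zero => simp
  | tmul a w =>
    rw [LinearMap.lTensor_tmul, γ_tmul, γ_tmul, map_mul, resL_algebraMap']
    exact congrArg _ (κ_resL A' C h w)
  | add z w hz hw => simp only [map_add, hz, hw]

theorem exists_β_eq [Fintype ι] [Module.Flat A A'] (y : ∀ j, Loc (A' ⊗[A] C) (g j))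
    (hy : y ∈ SecL g (A' ⊗[A] C)) : ∃ z, β A' g C z = y := by
  classical
  choose v hv using fun j => γ_surjective A' C (g j) (y j)
  let V := (TensorProduct.piRight A A' A' (fun j => Loc C (g j))).symm v
  have hV : ∀ j, TensorProduct.piRight A A' A' (fun j => Loc C (g j)) V j = v j := fun j => by
    rw [LinearEquiv.apply_symm_apply]
  have hpi : ∀ (z : A' ⊗[A] (∀ j, Loc C (g j))) (j k),
      TensorProduct.piRight A A' A' (fun k => Loc C (g j * g k))
          (TensorProduct.piRight A A' A' (fun j => ∀ k, Loc C (g j * g k)) ((dL g C).lTensor A' z) j) k =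
        ((resL C (dvd_fst (g j) (g k))).restrictScalars A).toLinearMap.lTensor A'
            (TensorProduct.piRight A A' A' (fun j => Loc C (g j)) z j) -
          ((resL C (dvd_snd (g j) (g k))).restrictScalars A).toLinearMap.lTensor A'
            (TensorProduct.piRight A A' A' (fun j => Loc C (g j)) z k) := by
    intro z j k
    induction z using TensorProduct.induction_on with
    | zero => simp
    | tmul a w =>
      simp only [LinearMap.lTensor_tmul, TensorProduct.piRight_apply, TensorProduct.piRightHom_tmul]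
      rw [← TensorProduct.tmul_sub]
      rfl
    | add z w hz hw => simp only [map_add, Pi.add_apply, hz, hw]; abel
  have hV0 : (dL g C).lTensor A' V = 0 := by
    refine (TensorProduct.piRight A A' A' (fun j => ∀ k, Loc C (g j * g k))).injective (funext fun j => ?_)
    refine (TensorProduct.piRight A A' A' (fun k => Loc C (g j * g k))).injective (funext fun k => ?_)
    refine γ_injective A' C _ ?_
    rw [hpi, map_sub, γ_resL, γ_resL, hV, hV, hv, hv, hy j k, sub_self]
    simp
  obtain ⟨z, hz⟩ := (Module.Flat.lTensor_exact A' (exact_dL g C) V).1 hV0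
  exact ⟨z, funext fun j => by rw [β_piRight, hz, hV, hv]⟩

section Patch

variable [IsNoetherianRing A] [Fintype ι] [Module.FaithfullyFlat A A']
variable (hA' : ∀ (n : ℕ) (a' : A'), ∃ a : A, a' - algebraMap A A' a ∈ (Ideal.span (Set.range g) ^ n).map (algebraMap A A'))
include hA'

theorem exists_tmul_one {Q : Type u} [AddCommGroup Q] [Module A Q]
    (hQ : ∀ (q : Q) (l : ι), ∃ n : ℕ, g l ^ n • q = 0) (z : A' ⊗[A] Q) : ∃ q : Q, z = 1 ⊗ₜ q := by
  induction z using TensorProduct.induction_on with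
  | zero => exact ⟨0, (TensorProduct.tmul_zero _ _).symm⟩
  | tmul a q =>
    obtain ⟨n, hn⟩ := exists_pow_le g (J := LinearMap.ker (LinearMap.toSpanSingleton A Q q)) (hQ q)
    obtain ⟨a₀, ha₀⟩ := hA' n a
    refine ⟨a₀ • q, ?_⟩
    have hz : ∀ b ∈ (Ideal.span (Set.range g) ^ n).map (algebraMap A A'), b ⊗ₜ[A] q = 0 := by
      intro b hb
      induction hb using Submodule.span_induction with
      | mem b hb =>
        obtain ⟨c, hc, rfl⟩ := hb
        rw [Algebra.algebraMap_eq_smul_one, TensorProduct.smul_tmul, show c • q = 0 from hn hc, TensorProduct.tmul_zero]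
      | zero => rw [TensorProduct.zero_tmul]
      | add b c _ _ hb hc => rw [TensorProduct.add_tmul, hb, hc, add_zero]
      | smul r b _ hb => rw [← TensorProduct.smul_tmul', hb, smul_zero]
    rw [← TensorProduct.smul_tmul, ← Algebra.algebraMap_eq_smul_one]
    exact sub_eq_zero.1 ((TensorProduct.sub_tmul _ _ _).symm.trans (hz _ ha₀))
  | add z w hz hw =>
    obtain ⟨a, rfl⟩ := hz
    obtain ⟨b, rfl⟩ := hw
    exact ⟨a + b, (TensorProduct.tmul_add _ _ _).symm⟩

/-- Patching, in abstract form. -/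
theorem exists_fibre_product {S M : Type u} [CommRing S] [Algebra A S] [CommRing M] [Algebra A' M]
    [Algebra A M] [IsScalarTower A A' M] (β : A' ⊗[A] S →ₐ[A'] M) (hβ : Function.Injective β)
    (E : Type u) [CommRing E] [Algebra A' E] [Module.Finite A' E] (f : E →ₐ[A'] M)
    (hrange : ∀ e, ∃ z, β z = f e)
    (hsur : ∀ (h : S) (l : ι), ∃ (n : ℕ) (e : E), f e = β (1 ⊗ₜ (g l ^ n • h)))
    (hker : ∀ e, f e = 0 → ∀ l, ∃ n : ℕ, algebraMap A A' (g l ^ n) • e = 0) :
    ∃ (R : Type u) (_ : CommRing R) (_ : Algebra A R) (_ : Module.Finite A R) (r : R →ₐ[A] S),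
      (∀ (h : S) (l : ι), ∃ (n : ℕ) (x : R), g l ^ n • h = r x) ∧
      (∀ x, r x = 0 → ∀ l, ∃ n : ℕ, g l ^ n • x = 0) ∧ Nonempty (A' ⊗[A] R ≃ₐ[A'] E) := by
  letI : Algebra A E := Algebra.compHom E (algebraMap A A')
  haveI : IsScalarTower A A' E := IsScalarTower.of_algebraMap_eq fun _ => rfl
  let κ₀ : S →ₐ[A] M := (β.restrictScalars A).comp Algebra.TensorProduct.includeRight
  let R : Subalgebra A (E × S) :=
    AlgHom.equalizer ((f.restrictScalars A).comp (AlgHom.fst A E S)) (κ₀.comp (AlgHom.snd A E S))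
  have hRmem : ∀ {p : E × S}, p ∈ R ↔ f p.1 = β (1 ⊗ₜ p.2) := fun {p} => Iff.rfl
  let s : R →ₐ[A] E := (AlgHom.fst A E S).comp R.val
  let r : R →ₐ[A] S := (AlgHom.snd A E S).comp R.val
  have hrker : ∀ x, r x = 0 → ∀ l, ∃ n : ℕ, g l ^ n • x = 0 := fun x hx l => by
    have hx2 : (x : E × S).2 = 0 := hx
    obtain ⟨n, hn⟩ := hker (x : E × S).1 (by rw [hRmem.1 x.2, hx2, TensorProduct.tmul_zero, map_zero]) l
    refine ⟨n, Subtype.ext (Prod.ext ?_ ?_)⟩
    · show g l ^ n • (x : E × S).1 = 0
      rw [← algebraMap_smul A']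
      exact hn
    · show g l ^ n • (x : E × S).2 = 0
      rw [hx2, smul_zero]
  have hrsur : ∀ (h : S) (l : ι), ∃ (n : ℕ) (x : R), g l ^ n • h = r x := fun h l => by
    obtain ⟨n, e, he⟩ := hsur h l
    exact ⟨n, ⟨(e, g l ^ n • h), hRmem.2 he⟩, rfl⟩
  let ε : A' ⊗[A] R →ₐ[A'] E := Algebra.TensorProduct.lift (Algebra.ofId A' E) s fun _ _ => Commute.all _ _
  have hε : ∀ (a : A') (x : R), ε (a ⊗ₜ x) = algebraMap A' E a * (x : E × S).1 :=
    fun a x => Algebra.TensorProduct.lift_tmul _ _ _ a x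
  have hfε : ∀ ζ, f (ε ζ) = β (r.toLinearMap.lTensor A' ζ) := fun ζ => by
    induction ζ using TensorProduct.induction_on with
    | zero => simp
    | tmul a x =>
      rw [LinearMap.lTensor_tmul, hε, map_mul, f.commutes, hRmem.1 x.2, ← β.commutes, ← map_mul,
        Algebra.TensorProduct.algebraMap_apply, Algebra.TensorProduct.tmul_mul_tmul, mul_one, one_mul]
      rfl
    | add z w hz hw => simp only [map_add, hz, hw]
  have hsurj : Function.Surjective ε := fun e => by
    obtain ⟨z, hz⟩ := hrange e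
    let Rr : Submodule A S := LinearMap.range r.toLinearMap
    obtain ⟨q, hq⟩ := exists_tmul_one A' g hA' (Q := S ⧸ Rr) (fun q l => by
      obtain ⟨h, rfl⟩ := Submodule.Quotient.mk_surjective _ q
      obtain ⟨n, x, hx⟩ := hrsur h l
      exact ⟨n, by rw [← Submodule.Quotient.mk_smul, Submodule.Quotient.mk_eq_zero]; exact ⟨x, hx.symm⟩⟩)
      (Rr.mkQ.lTensor A' z)
    obtain ⟨h, rfl⟩ := Submodule.Quotient.mk_surjective _ q
    have hex : Function.Exact r.toLinearMap Rr.mkQ := LinearMap.exact_map_mkQ_range _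
    obtain ⟨ζ, hζ⟩ := (Module.Flat.lTensor_exact A' hex (z - 1 ⊗ₜ h)).1 (by
      rw [map_sub, hq, LinearMap.lTensor_tmul, Submodule.mkQ_apply, sub_self])
    have hmem : ((e - ε ζ, h) : E × S) ∈ R := by
      rw [hRmem]
      show f (e - ε ζ) = _
      rw [map_sub, hfε, hζ, map_sub, hz, sub_sub_cancel]
    refine ⟨ζ + 1 ⊗ₜ ⟨_, hmem⟩, ?_⟩
    rw [map_add, hε, map_one, one_mul]
    show ε ζ + (e - ε ζ) = e
    rw [add_sub_cancel]
  have hinj : Function.Injective ε := (injective_iff_map_eq_zero _).2 fun ζ hζ => by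
    have h0 : r.toLinearMap.lTensor A' ζ = 0 := hβ (by rw [← hfε, hζ, map_zero, map_zero])
    let K : Submodule A R := LinearMap.ker r.toLinearMap
    have hexK : Function.Exact K.subtype r.toLinearMap := LinearMap.exact_subtype_ker_map r.toLinearMap
    obtain ⟨η, hη⟩ := (Module.Flat.lTensor_exact (R := A) (N := ↥K) (f := K.subtype) (g := r.toLinearMap) A' hexK ζ).1 h0
    obtain ⟨x, hx⟩ := exists_tmul_one A' g hA' (Q := K) (fun x l => by
      obtain ⟨n, hn⟩ := hrker x.1 x.2 l
      exact ⟨n, Subtype.ext hn⟩) η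
    rw [hx, LinearMap.lTensor_tmul] at hη
    rw [← hη, hε, map_one, one_mul] at hζ
    have hx0 : (x : R) = 0 := Subtype.ext (Prod.ext hζ x.2)
    rw [← hη]
    show (1 : A') ⊗ₜ[A] (x : R) = 0
    rw [hx0, TensorProduct.tmul_zero]
  let e₀ : A' ⊗[A] R ≃ₐ[A'] E := AlgEquiv.ofBijective ε ⟨hinj, hsurj⟩
  haveI : Module.Finite A' (A' ⊗[A] R) := Module.Finite.equiv e₀.toLinearEquiv.symm
  haveI : Module.Finite A R := Module.Finite.of_finite_tensorProduct_of_faithfullyFlat (R := A) A'
  exact ⟨R, inferInstance, inferInstance, inferInstance, r, hrsur, hrker, ⟨e₀⟩⟩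

/-- Patching. -/
theorem exists_patch (E : Type u) [CommRing E] [Algebra A' E] [Module.Finite A' E]
    (f : E →ₐ[A'] ∀ j, Loc (A' ⊗[A] C) (g j)) (hfS : ∀ e, f e ∈ SecL g (A' ⊗[A] C))
    (hsur : ∀ (c : A' ⊗[A] C) (l : ι), ∃ (n : ℕ) (e : E),
      ∀ j, f e j = g l ^ n • algebraMap (A' ⊗[A] C) (Loc (A' ⊗[A] C) (g j)) c)
    (hker : ∀ e, f e = 0 → ∀ l, ∃ n : ℕ, algebraMap A A' (g l ^ n) • e = 0) :
    ∃ (R : Type u) (_ : CommRing R) (_ : Algebra A R) (_ : Module.Finite A R) (r : R →ₐ[A] SecL g C),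
      (∀ (h : SecL g C) (l : ι), ∃ (n : ℕ) (x : R), g l ^ n • h = r x) ∧
      (∀ x, r x = 0 → ∀ l, ∃ n : ℕ, g l ^ n • x = 0) ∧ Nonempty (A' ⊗[A] R ≃ₐ[A'] E) := by
  refine exists_fibre_product A' g hA' (β A' g C) (β_injective A' g C) E f
    (fun e => exists_β_eq A' g C (f e) (hfS e)) (fun h l => ?_) hker
  obtain ⟨n, c, hc⟩ := exists_pow_smul_mem_toSecL g C h l
  obtain ⟨m, e, he⟩ := hsur (1 ⊗ₜ c) l
  refine ⟨m + n, e, funext fun j => ?_⟩
  rw [he, β_tmul, map_one, one_mul, pow_add, mul_smul, hc, κS_apply]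
  show _ = κ A' C (g j) (g l ^ m • algebraMap C (Loc C (g j)) c)
  rw [map_smul, κ_algebraMap]

end Patch

end Groth.Agent.Pi1Alg

end
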