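import Groth.Agent.Pi1Alg.CechLC
import Groth.Agent.Pi1Alg.Core
import Groth.Agent.Pi1Ext.PuritySch
import Groth.Agent.Hensel.LiftEtaleAlg
import Groth.Agent.SekSuwaLib.Exact
import Groth.Agent.RigPt7.EtaleRed
import Mathlib.RingTheory.Smooth.Fiber

/-!
# Algebraisation of a finite cover of the punctured divisor by a finite algebra
-/

set_option autoImplicit false
set_option linter.unusedSectionVars false
set_option linter.style.haveILetI false
set_option backward.isDefEq.respectTransparency false
set_option backward.isDefEq.respectTransparency.types false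
universe u

open TensorProduct IsLocalRing

noncomputable section

namespace Groth.Agent.Pi1Alg

open Groth.Agent.Pi1Ext Groth.Agent.Pi1Ext.RegPurity

variable {A : Type u} [CommRing A] (C : Type u) [CommRing C] [Algebra A C]

/-- The localised algebra. -/
abbrev Loc (x : A) := Localization.Away (algebraMap A C x)

/-- The localisation map. -/
abbrev lmap (x : A) : C →ₗ[A] Loc C x := (IsScalarTower.toAlgHom A C (Loc C x)).toLinearMap

instance isLocalizedModule_lmap (x : A) : IsLocalizedModule (Submonoid.powers x) (lmap C x) := by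
  haveI : IsLocalization (Algebra.algebraMapSubmonoid C (Submonoid.powers x)) (Loc C x) := by
    rw [Algebra.algebraMapSubmonoid_powers]
    infer_instance
  exact (isLocalizedModule_iff_isLocalization (S := Submonoid.powers x)).2 inferInstance

/-- The two localisations as modules. -/
def locLin (x : A) : L C x ≃ₗ[A] Loc C x := IsLocalizedModule.iso (Submonoid.powers x) (lmap C x)

theorem locLin_mk (x : A) (c : C) : locLin C x (mk C x c) = algebraMap C (Loc C x) c :=
  IsLocalizedModule.iso_mk_one (Submonoid.powers x) (lmap C x) c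

theorem locLin_mul (x : A) (a b : L C x) : locLin C x (a * b) = locLin C x a * locLin C x b := by
  obtain ⟨n, u, hu⟩ := exists_mk C a
  obtain ⟨m, v, hv⟩ := exists_mk C b
  refine IsLocalizedModule.smul_injective (lmap C x) (⟨x ^ (n + m), n + m, rfl⟩ : Submonoid.powers x) ?_
  show x ^ (n + m) • locLin C x (a * b) = x ^ (n + m) • (locLin C x a * locLin C x b)
  rw [← map_smul, pow_add, ← smul_mul_smul_comm, ← smul_mul_smul_comm, hu, hv, ← map_smul, ← map_smul, hu, hv,
    ← mk_mul, locLin_mk, locLin_mk, locLin_mk, map_mul]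

/-- The two localisations. -/
def locEquiv (x : A) : L C x ≃ₐ[A] Loc C x :=
  AlgEquiv.ofLinearEquiv (locLin C x) (by rw [← mk_one C x, locLin_mk, map_one]) (locLin_mul C x)

theorem locEquiv_apply (x : A) (a : L C x) : locEquiv C x a = locLin C x a := rfl

variable {C}

section Quot

variable {t : A}
variable [Algebra (A ⧸ Ideal.span {t}) C] [IsScalarTower A (A ⧸ Ideal.span {t}) C]

theorem algebraMap_mk (a : A) : algebraMap (A ⧸ Ideal.span {t}) C (Ideal.Quotient.mk _ a) = algebraMap A C a :=
  (IsScalarTower.algebraMap_apply A (A ⧸ Ideal.span {t}) C a).symm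

theorem etale_loc {x : A} (h : EtAway (A ⧸ Ideal.span {t}) C (Ideal.Quotient.mk _ x)) :
    Algebra.Etale (A ⧸ Ideal.span {t}) (Loc C x) := by
  unfold EtAway at h
  rwa [algebraMap_mk] at h

theorem t_eq_zero : algebraMap A C t = 0 := by
  rw [← algebraMap_mk (t := t), Ideal.Quotient.eq_zero_iff_mem.2 (Ideal.mem_span_singleton_self t), map_zero]

theorem exists_lift_of_etale {x : A} (h : EtAway (A ⧸ Ideal.span {t}) C (Ideal.Quotient.mk _ x)) :
    Nonempty (Lift C t x) := by
  let T := A ⧸ Ideal.span {t}
  haveI : Algebra.Etale T (Loc C x) := etale_loc h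
  obtain ⟨P, _, _, hP, ⟨e⟩⟩ := Hensel.exists_etale_algebra_lift (A := A) (T := T) (C := Loc C x)
    Ideal.Quotient.mk_surjective
  let i : P →ₐ[A] T ⊗[A] P := Algebra.TensorProduct.includeRight
  have hi : Function.Surjective i := fun z => by
    induction z using TensorProduct.induction_on with
    | zero => exact ⟨0, map_zero _⟩
    | tmul q p =>
      obtain ⟨a, rfl⟩ := Ideal.Quotient.mk_surjective q
      refine ⟨a • p, ?_⟩
      show (1 : T) ⊗ₜ[A] (a • p) = _
      rw [← TensorProduct.smul_tmul, Algebra.smul_def, mul_one]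
      rfl
    | add z w hz hw =>
      obtain ⟨a, rfl⟩ := hz
      obtain ⟨c, rfl⟩ := hw
      exact ⟨a + c, map_add _ _ _⟩
  have hker : ∀ p, i p = 0 → p ∈ Ideal.span {algebraMap A P t} := fun p hp => by
    have h1 : (Ideal.Quotient.mk ((Ideal.span {t}).map (algebraMap A P)) p) = 0 := by
      refine (Algebra.TensorProduct.quotIdealMapEquivTensorQuot P (Ideal.span {t})).injective ?_
      rw [Algebra.TensorProduct.quotIdealMapEquivTensorQuot_mk, map_zero]
      have := congrArg (TensorProduct.comm A T P) hp
      rwa [map_zero] at this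
    rwa [Ideal.Quotient.eq_zero_iff_mem, Ideal.map_span, Set.image_singleton] at h1
  refine ⟨{
    P := P
    etale := hP
    π := ((locEquiv C x).symm.toAlgHom.comp (e.restrictScalars A).toAlgHom).comp i
    surj := ((locEquiv C x).symm.surjective.comp e.surjective).comp hi
    ker_le := fun p hp => hker p (e.injective ((locEquiv C x).symm.injective (by
      rw [map_zero, map_zero]
      exact hp)))
    le_ker := by
      rw [AlgHom.commutes, ← (locEquiv C x).symm.commutes t, IsScalarTower.algebraMap_apply A C (Loc C x),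
        t_eq_zero (C := C) (t := t), map_zero, map_zero] }⟩

theorem exists_retr [Module.Finite (A ⧸ Ideal.span {t}) C] [IsNoetherianRing A] {x : A}
    (h : EtAway (A ⧸ Ideal.span {t}) C (Ideal.Quotient.mk _ x)) :
    ∃ (p : ℕ) (σ : C →ₗ[A] (Fin p → A ⧸ Ideal.span {t})) (ρ : (Fin p → A ⧸ Ideal.span {t}) →ₗ[A] C) (b : ℕ),
      ∀ c, ρ (σ c) = x ^ b • c := by
  classical
  let T := A ⧸ Ideal.span {t}
  let y : T := Ideal.Quotient.mk _ x
  let S := Submonoid.powers y
  haveI : Algebra.Etale T (Loc C x) := etale_loc h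
  haveI : IsLocalization (Algebra.algebraMapSubmonoid C S) (Loc C x) := by
    rw [Algebra.algebraMapSubmonoid_powers, algebraMap_mk]
    infer_instance
  haveI : IsLocalizedModule S (IsScalarTower.toAlgHom T C (Loc C x)).toLinearMap :=
    isLocalizedModule_iff_isLocalization.2 inferInstance
  let MS := LocalizedModule S C
  haveI : Module.Flat T MS :=
    Module.Flat.of_linearEquiv (IsLocalizedModule.iso S (IsScalarTower.toAlgHom T C (Loc C x)).toLinearMap)
  haveI : Module.Flat (Localization S) MS := (Module.flat_iff_of_isLocalization (Localization S) S MS).2 ‹_›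
  haveI : Module.FinitePresentation T C := Module.finitePresentation_of_finite T C
  haveI : Module.Projective (Localization S) MS := Module.Flat.projective_of_finitePresentation
  obtain ⟨p, π, hπ⟩ := Module.Finite.exists_fin' T C
  let fF := LocalizedModule.mkLinearMap S (Fin p → T)
  let fC := LocalizedModule.mkLinearMap S C
  let πS := (IsLocalizedModule.map S fF fC π).extendScalarsOfIsLocalization S (Localization S)
  obtain ⟨s, hs⟩ := Module.projective_lifting_property πS LinearMap.id
    (IsLocalizedModule.map_surjective S fF fC π hπ)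
  obtain ⟨σ, ⟨_, n, rfl⟩, hσ⟩ :=
    Module.FinitePresentation.exists_lift_of_isLocalizedModule S fF ((s.restrictScalars T) ∘ₗ fC)
  have hloc : ∀ c, fC (π (σ c) - y ^ n • c) = 0 := fun c => by
    rw [map_sub, map_smul, ← IsLocalizedModule.map_apply S fF fC π]
    have h1 : fF (σ c) = y ^ n • s (fC c) := LinearMap.congr_fun hσ c
    have h2 : IsLocalizedModule.map S fF fC π (s (fC c)) = fC c := LinearMap.congr_fun hs (fC c)
    rw [h1, map_smul, h2, sub_self]
  obtain ⟨G, hG⟩ := (Module.Finite.fg_top : (⊤ : Submodule T C).FG)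
  choose k hk using fun c => (mk_eq_zero (x := y) C).1 (hloc c)
  let K := G.sup k
  have hall : ∀ c, π ((y ^ K • σ) c) = y ^ (K + n) • c := by
    intro c
    have : c ∈ Submodule.span T (G : Set C) := hG ▸ trivial
    induction this using Submodule.span_induction with
    | mem c hc =>
      rw [LinearMap.smul_apply, map_smul, pow_add, mul_smul, ← sub_eq_zero, ← smul_sub,
        ← Nat.sub_add_cancel (show k c ≤ K from Finset.le_sup hc), pow_add, mul_smul, hk, smul_zero]
    | zero => simp
    | add a b _ _ ha hb => rw [map_add, map_add, ha, hb, smul_add]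
    | smul r a _ ha => rw [map_smul, map_smul, ha, smul_comm]
  refine ⟨p, (y ^ K • σ).restrictScalars A, π.restrictScalars A, K + n, fun c => ?_⟩
  show π ((y ^ K • σ) c) = x ^ (K + n) • c
  rw [hall, ← map_pow]
  exact algebraMap_smul T (x ^ (K + n)) c

end Quot

theorem isoAway_of_gens {R P Q : Type u} [CommRing R] [CommRing P] [CommRing Q] [Algebra R P] [Algebra R Q]
    {ι : Type*} (g : ι → R) (f : P →ₐ[R] Q)
    (h₁ : ∀ l, ∀ q : Q, ∃ (n : ℕ) (p : P), g l ^ n • q = f p)
    (h₂ : ∀ l, ∀ p, f p = 0 → ∃ n : ℕ, g l ^ n • p = 0) {x : R} (hx : x ∈ Ideal.span (Set.range g)) :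
    IsoAway f x := by
  constructor
  · intro q
    let J : Ideal R := (LinearMap.range f.toLinearMap).comap (LinearMap.toSpanSingleton R Q q)
    have : x ∈ J.radical := (Ideal.span_le.2 (by
      rintro _ ⟨l, rfl⟩
      obtain ⟨n, p, hp⟩ := h₁ l q
      exact ⟨n, p, hp.symm⟩) : Ideal.span (Set.range g) ≤ J.radical) hx
    obtain ⟨n, p, hp⟩ := this
    exact ⟨n, p, hp.symm⟩
  · intro p hp
    let J : Ideal R := LinearMap.ker (LinearMap.toSpanSingleton R P p)
    have : x ∈ J.radical := (Ideal.span_le.2 (by
      rintro _ ⟨l, rfl⟩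
      obtain ⟨n, hn⟩ := h₂ l p hp
      exact ⟨n, hn⟩) : Ideal.span (Set.range g) ≤ J.radical) hx
    obtain ⟨n, hn⟩ := this
    exact ⟨n, hn⟩

theorem etale_cancel_iff (A T R B : Type u) [CommRing A] [CommRing T] [CommRing R] [CommRing B] [Algebra A T]
    [Algebra T R] [Algebra A R] [IsScalarTower A T R] [Algebra A B] :
    Algebra.Etale R (R ⊗[T] (T ⊗[A] B)) ↔ Algebra.Etale R (R ⊗[A] B) :=
  ⟨fun _ => Algebra.Etale.of_equiv (Algebra.TensorProduct.cancelBaseChange A T R R B),
    fun _ => Algebra.Etale.of_equiv (Algebra.TensorProduct.cancelBaseChange A T R R B).symm⟩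

theorem etale_of_etale_quot {R : Type u} [CommRing R] [IsLocalRing R] [IsNoetherianRing R] (M : Type u)
    [CommRing M] [Algebra R M] [Module.Finite R M] {x : R} (hx : x ∈ maximalIdeal R) (hreg : IsSMulRegular M x)
    (h : Algebra.Etale (R ⧸ Ideal.span {x}) ((R ⧸ Ideal.span {x}) ⊗[R] M)) : Algebra.Etale R M := by
  let I : Ideal R := Ideal.span {x}
  haveI : Nontrivial (R ⧸ Ideal.span {x}) := Ideal.Quotient.nontrivial_iff.2 fun e =>
    (maximalIdeal.isMaximal R).ne_top (eq_top_iff.2 (e ▸ (Ideal.span_singleton_le_iff_mem _).2 hx))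
  haveI : IsLocalRing (R ⧸ Ideal.span {x}) :=
    IsLocalRing.of_surjective' (Ideal.Quotient.mk _) Ideal.Quotient.mk_surjective
  haveI := h
  haveI : Module.Flat (R ⧸ Ideal.span {x}) ((R ⧸ Ideal.span {x}) ⊗[R] M) := Algebra.Smooth.flat _ _
  haveI : Module.Free (R ⧸ Ideal.span {x}) ((R ⧸ Ideal.span {x}) ⊗[R] M) := Module.free_of_flat_of_isLocalRing
  haveI : Module.Free R M := SekSuwaLib.free_of_quotient_free M x hx hreg
  haveI : Algebra.FormallyUnramified R (R ⧸ Ideal.span {x}) :=
    Algebra.FormallyUnramified.of_surjective (Algebra.ofId R (R ⧸ Ideal.span {x})) Ideal.Quotient.mk_surjective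
  haveI : Algebra.FormallyUnramified R ((R ⧸ Ideal.span {x}) ⊗[R] M) :=
    Algebra.FormallyUnramified.comp R (R ⧸ Ideal.span {x}) _
  haveI : Algebra.FormallyUnramified R (M ⧸ (Ideal.span {x}).map (algebraMap R M)) :=
    Algebra.FormallyUnramified.of_equiv
      ((Algebra.TensorProduct.comm R (R ⧸ Ideal.span {x}) M).trans
        ((Algebra.TensorProduct.quotIdealMapEquivTensorQuot M (Ideal.span {x})).symm.restrictScalars R))
  haveI : Algebra.FormallyUnramified R M := RigPt7.formallyUnramified_of_quotient (Ideal.span {x}) (by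
    refine (Ideal.map_mono ((Ideal.span_singleton_le_iff_mem _).2 hx)).trans ?_
    refine le_sInf fun J hJ => ?_
    haveI := hJ.2
    haveI : (J.comap (algebraMap R M)).IsMaximal := Ideal.isMaximal_comap_of_isIntegral_of_isMaximal J
    exact Ideal.map_le_iff_le_comap.2 (IsLocalRing.eq_maximalIdeal ‹(J.comap (algebraMap R M)).IsMaximal›).ge)
    inferInstance
  haveI : Algebra.FinitePresentation R M := Algebra.FinitePresentation.of_finiteType.mp inferInstance
  exact Algebra.Etale.of_formallyUnramified_of_flat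

/-- A finite algebra with `t` regular which is étale modulo `t` at a prime is étale over that prime. -/
theorem isEtaleAt_of_quot [IsNoetherianRing A] {t : A} (B : Type u) [CommRing B] [Algebra A B] [Module.Finite A B]
    (ht : IsSMulRegular B t) {h : A}
    (het : EtAway (A ⧸ Ideal.span {t}) ((A ⧸ Ideal.span {t}) ⊗[A] B) (Ideal.Quotient.mk _ h))
    (p : Ideal A) [p.IsPrime] (htp : t ∈ p) (hhp : h ∉ p) (q : Ideal B) [q.IsPrime]
    (hq : q.comap (algebraMap A B) = p) : Algebra.IsEtaleAt A q := by
  let T := A ⧸ Ideal.span {t}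
  let R := Localization.AtPrime p
  let I : Ideal R := Ideal.span {algebraMap A R t}
  let R₀ := R ⧸ I
  letI : Algebra T R₀ := (Ideal.Quotient.lift (Ideal.span {t}) (algebraMap A R₀) fun a ha => by
    obtain ⟨c, rfl⟩ := Ideal.mem_span_singleton'.1 ha
    rw [map_mul, IsScalarTower.algebraMap_apply A R R₀ t, Ideal.Quotient.algebraMap_eq,
      Ideal.Quotient.eq_zero_iff_mem.2 (Ideal.mem_span_singleton_self _), mul_zero]).toAlgebra
  haveI : IsScalarTower A T R₀ := IsScalarTower.of_algebraMap_eq fun a => rfl
  have htm : algebraMap A R t ∈ maximalIdeal R := by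
    rw [IsLocalization.AtPrime.to_map_mem_maximal_iff R p]
    exact htp
  haveI : Nontrivial R₀ := Ideal.Quotient.nontrivial_iff.2 fun e =>
    (maximalIdeal.isMaximal R).ne_top (eq_top_iff.2 (e ▸ (Ideal.span_singleton_le_iff_mem _).2 htm))
  haveI : IsLocalRing R₀ := IsLocalRing.of_surjective' (Ideal.Quotient.mk I) Ideal.Quotient.mk_surjective
  haveI h1 : Algebra.Etale R₀ (R₀ ⊗[T] (T ⊗[A] B)) := etale_tensor_of_etAway het R₀ (by
    have hu : IsUnit (algebraMap A R h) := IsLocalization.map_units R (⟨h, hhp⟩ : p.primeCompl)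
    exact hu.map (Ideal.Quotient.mk I))
  haveI : Algebra.Etale R₀ (R₀ ⊗[A] B) := (etale_cancel_iff A T R₀ B).1 h1
  let M := R ⊗[A] B
  haveI h3 : Algebra.Etale R₀ (R₀ ⊗[R] M) := (etale_cancel_iff A R R₀ B).2 ‹_›
  have hregM : IsSMulRegular M (algebraMap A R t) := by
    have h2 : Function.Injective ((LinearMap.lsmul A B t).lTensor R) :=
      Module.Flat.lTensor_preserves_injective_linearMap _ ht
    intro a b hab
    refine h2 ?_
    have key : ∀ z : M, (LinearMap.lsmul A B t).lTensor R z = algebraMap A R t • z := fun z => by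
      induction z using TensorProduct.induction_on with
      | zero => simp
      | tmul r b => rw [LinearMap.lTensor_tmul, LinearMap.lsmul_apply, algebraMap_smul,
          TensorProduct.tmul_smul]
      | add z w hz hw => rw [map_add, hz, hw, smul_add]
    rw [key, key]
    exact hab
  haveI : Algebra.Etale R M := etale_of_etale_quot M htm hregM h3
  letI : Algebra B M := Algebra.TensorProduct.rightAlgebra
  haveI : IsLocalization (Algebra.algebraMapSubmonoid B p.primeCompl) M :=
    IsLocalization.tensorRight (R := A) (S := B) (A := R) p.primeCompl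
  haveI : IsScalarTower A B M := IsScalarTower.of_algebraMap_eq fun a => by
    show algebraMap A M a = (1 : R) ⊗ₜ[A] algebraMap A B a
    rw [Algebra.algebraMap_eq_smul_one (A := B), TensorProduct.tmul_smul, ← Algebra.TensorProduct.one_def,
      Algebra.algebraMap_eq_smul_one]
  have hdisj : Disjoint (↑(Algebra.algebraMapSubmonoid B p.primeCompl) : Set B) (q : Set B) := by
    rw [Set.disjoint_left]
    rintro _ ⟨a, ha, rfl⟩ hm
    exact ha (by rw [← hq]; exact hm)
  haveI := IsLocalization.isPrime_of_isPrime_disjoint _ M q inferInstance hdisj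
  have h4 := (formallyEtale_atPrime_comp (A := A) (A' := R) (B := B) (B' := M) p.primeCompl
    (q.map (algebraMap B M))).1 inferInstance
  have key : ∀ (J : Ideal B) [J.IsPrime], J = q → Algebra.IsEtaleAt A J → Algebra.IsEtaleAt A q := by
    rintro J _ rfl h
    exact h
  exact key _ (IsLocalization.comap_map_of_isPrime_disjoint _ M inferInstance hdisj) h4

end Groth.Agent.Pi1Alg

end
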