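import Groth.Agent.Pi1Alg.Main

/-!
# Finite étale covers of the punctured divisor extend to a neighbourhood
-/

set_option autoImplicit false
set_option linter.unusedSectionVars false
set_option linter.style.haveILetI false
set_option backward.isDefEq.respectTransparency false
set_option backward.isDefEq.respectTransparency.types false
universe u

open CategoryTheory CategoryTheory.Limits AlgebraicGeometry TensorProduct IsLocalRing

noncomputable section

namespace Groth.Agent.Pi1Alg

open Groth.Agent.Pi1Ext Groth.Agent.Pi1Ext.RegPurity Groth.Agent.Pi1Ext.PuritySch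

variable {A : Type u} [CommRing A]

/-- The restriction of `Spec B` to an open over which it is finite étale. -/
theorem prop_of_etale_over [IsNoetherianRing A] (B : Type u) [CommRing B] [Algebra A B] [Module.Finite A B]
    (U : (Spec (CommRingCat.of A)).Opens)
    (h : ∀ (q : Ideal B) [q.IsPrime],
      (⟨q.comap (algebraMap A B), inferInstance⟩ : PrimeSpectrum A) ∈ U.1 →
        Algebra.IsEtaleAt A q) :
    FEt.prop (pullback.snd (sp A B) U.ι) := by
  haveI : Algebra.FinitePresentation A B := Algebra.FinitePresentation.of_finiteType.mp inferInstance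
  refine ⟨?_, ?_⟩
  · haveI : IsFinite (sp A B) := (IsFinite.SpecMap_iff _).2 (RingHom.finite_algebraMap.2 inferInstance)
    exact MorphismProperty.pullback_snd _ _ inferInstance
  · refine IsZariskiLocalAtTarget.of_forall_exists_morphismRestrict (P := @Etale) fun y => ?_
    obtain ⟨_, ⟨a, rfl⟩, hya, haU⟩ := (PrimeSpectrum.isTopologicalBasis_basic_opens (R := A)).exists_subset_of_mem_open
      (show (U.ι y : PrimeSpectrum A) ∈ U.1 from y.2) U.2
    let Aa := Localization.Away a
    let ρa : Spec (CommRingCat.of Aa) ⟶ (U : Scheme.{u}) := IsOpenImmersion.lift U.ι (sp A Aa) (by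
      rw [Scheme.Opens.range_ι]
      rintro _ ⟨p, rfl⟩
      refine haU ?_
      show (PrimeSpectrum.comap (algebraMap A Aa) p) ∈ (PrimeSpectrum.basicOpen a : Set (PrimeSpectrum A))
      rw [← PrimeSpectrum.localization_away_comap_range Aa a]
      exact ⟨p, rfl⟩)
    have hρ : ρa ≫ U.ι = sp A Aa := IsOpenImmersion.lift_fac _ _ _
    haveI : IsOpenImmersion (sp A Aa) := IsOpenImmersion.of_isLocalization a
    haveI : IsOpenImmersion (ρa ≫ U.ι) := by rw [hρ]; infer_instance
    haveI : IsOpenImmersion ρa := IsOpenImmersion.of_comp _ U.ι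
    have hy : y ∈ ρa.opensRange := by
      obtain ⟨p, hp⟩ : U.ι y ∈ Set.range (PrimeSpectrum.comap (algebraMap A Aa)) := by
        rw [PrimeSpectrum.localization_away_comap_range Aa a]
        exact hya
      refine ⟨p, U.ι.isOpenEmbedding.injective ?_⟩
      rw [← Scheme.Hom.comp_apply, hρ]
      exact hp
    refine ⟨ρa.opensRange, hy, ?_⟩
    refine ((MorphismProperty.arrow_mk_iso_iff (@Etale) (morphismRestrictOpensRange _ ρa))).2 ?_
    have e1 : IsPullback (pullback.fst (pullback.snd (sp A B) U.ι) ρa ≫ pullback.fst (sp A B) U.ι)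
        (pullback.snd (pullback.snd (sp A B) U.ι) ρa) (sp A B) (sp A Aa) := by
      have := (IsPullback.of_hasPullback (pullback.snd (sp A B) U.ι) ρa).paste_horiz
        (IsPullback.of_hasPullback (sp A B) U.ι)
      rwa [hρ] at this
    have hea : EtAway A B a := by
      unfold EtAway
      rw [← Algebra.basicOpen_subset_etaleLocus_iff_etale]
      exact fun q hq => h q.asIdeal (haU hq)
    haveI : Algebra.Etale Aa (Aa ⊗[A] B) :=
      etale_tensor_of_etAway hea Aa (IsLocalization.Away.algebraMap_isUnit a)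
    rw [← e1.flip.isoPullback_hom_fst, ← pullbackSpecIso_hom_fst' A Aa B,
      MorphismProperty.cancel_left_of_respectsIso (P := @Etale),
      MorphismProperty.cancel_left_of_respectsIso (P := @Etale)]
    exact (HasRingHomProperty.Spec_iff (P := @Etale)).2 (RingHom.etale_algebraMap.2 inferInstance)

variable [IsLocalRing A] [IsNoetherianRing A]

/-- Finite étale covers of the punctured divisor extend to a neighbourhood. -/
theorem exists_extension (f : A) (hf : f ∈ maximalIdeal A)
    [IsAdicComplete (Ideal.span {f}) A] (hnz : f ∈ nonZeroDivisors A)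
    (h1 : Module.Finite A (LocCoh.H (maximalIdeal A) 1 (A ⧸ Ideal.span {f})))
    (h2 : Module.Finite A (LocCoh.H (maximalIdeal A) 2 (A ⧸ Ideal.span {f}))) :
    ∀ V₀ : FEt.Cat (pullback (FEt.puncturedSpec A).ι (Spec.map (CommRingCat.ofHom (Ideal.Quotient.mk (Ideal.span {f}))))),
      ∃ (U' : (Spec (CommRingCat.of A)).Opens) (_ : U' ≤ (FEt.puncturedSpec A)) (u' : pullback (FEt.puncturedSpec A).ι (Spec.map (CommRingCat.ofHom (Ideal.Quotient.mk (Ideal.span {f})))) ⟶ (U' : Scheme.{u}))
        (_ : u' ≫ U'.ι = (pullback.fst (FEt.puncturedSpec A).ι (Spec.map (CommRingCat.ofHom (Ideal.Quotient.mk (Ideal.span {f})))) ≫ (FEt.puncturedSpec A).ι)) (V' : FEt.Cat (U' : Scheme.{u})),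
        Nonempty ((FEt.restrict u').obj V' ≅ V₀) := by
  intro V₀
  let I := Ideal.span {f}
  let T := A ⧸ I
  haveI : Nontrivial T := Ideal.Quotient.nontrivial_iff.2 fun e =>
    (maximalIdeal.isMaximal A).ne_top (eq_top_iff.2 (e ▸ (Ideal.span_singleton_le_iff_mem _).2 hf))
  haveI : IsLocalRing T := IsLocalRing.of_surjective' (Ideal.Quotient.mk I) Ideal.Quotient.mk_surjective
  let qm : Spec (CommRingCat.of T) ⟶ Spec (CommRingCat.of A) := Spec.map (CommRingCat.ofHom (Ideal.Quotient.mk I))
  let P := FEt.puncturedSpec A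
  let P₀ := FEt.puncturedSpec T
  haveI : IsClosedImmersion qm := IsClosedImmersion.spec_of_surjective _ Ideal.Quotient.mk_surjective
  have hcl : qm (IsLocalRing.closedPoint T) = IsLocalRing.closedPoint A := by
    haveI : IsLocalHom (Ideal.Quotient.mk I) := IsLocalHom.of_surjective _ Ideal.Quotient.mk_surjective
    exact IsLocalRing.comap_closedPoint (Ideal.Quotient.mk I)
  have hrange : Set.range (pullback.snd P.ι qm) = Set.range P₀.ι := by
    rw [IsOpenImmersion.range_pullbackSnd, Scheme.Opens.opensRange_ι, Scheme.Opens.range_ι]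
    ext p
    show qm p ∈ ({IsLocalRing.closedPoint A}ᶜ : Set (PrimeSpectrum A)) ↔
      p ∈ ({IsLocalRing.closedPoint T}ᶜ : Set (PrimeSpectrum T))
    simp only [Set.mem_compl_iff, Set.mem_singleton_iff]
    exact not_congr ⟨fun e => qm.isClosedEmbedding.injective (e.trans hcl.symm), fun e => e ▸ hcl⟩
  let w : pullback P.ι qm ≅ (P₀ : Scheme.{u}) := IsOpenImmersion.isoOfRangeEq (pullback.snd P.ι qm) P₀.ι hrange
  have hw : w.hom ≫ P₀.ι = pullback.snd P.ι qm := IsOpenImmersion.isoOfRangeEq_hom_fac _ _ _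
  -- transport to the punctured spectrum of the quotient
  obtain ⟨C, _, _, _, hC, ⟨eC⟩⟩ := exists_finite_model ((FEt.restrict w.inv).obj V₀)
  have hnz' : IsSMulRegular A f := fun a b hab => (mul_cancel_left_mem_nonZeroDivisors hnz).1 hab
  obtain ⟨B, _, _, hBfin, hBT, het, ⟨eB⟩⟩ := exists_algebraisation f hf hnz' h1 h2 C hC
  haveI := hBfin
  haveI : Algebra.FinitePresentation A B := Algebra.FinitePresentation.of_finiteType.mp inferInstance
  haveI : IsFinite (sp A B) := (IsFinite.SpecMap_iff _).2 (RingHom.finite_algebraMap.2 inferInstance)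
  -- the neighbourhood
  let Z : Set (PrimeSpectrum B) := (Algebra.etaleLocus A B)ᶜ
  have hZ : IsClosed ((sp A B) '' Z) :=
    (sp A B).isClosedMap _ Algebra.isOpen_etaleLocus.isClosed_compl
  let U' : (Spec (CommRingCat.of A)).Opens := P ⊓ ⟨((sp A B) '' Z)ᶜ, hZ.isOpen_compl⟩
  have hU' : ∀ (q : Ideal B) [q.IsPrime],
      (⟨q.comap (algebraMap A B), inferInstance⟩ : PrimeSpectrum A) ∈ U'.1 →
        Algebra.IsEtaleAt A q := fun q _ hq => by
    by_contra hne
    exact hq.2 ⟨⟨q, inferInstance⟩, hne, rfl⟩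
  have hV' := prop_of_etale_over B U' hU'
  let V' : FEt.Cat (U' : Scheme.{u}) := MorphismProperty.Over.mk ⊤ (pullback.snd (sp A B) U'.ι) hV'
  -- the divisor lies in it
  have hsub : Set.range (pullback.fst P.ι qm ≫ P.ι) ⊆ Set.range U'.ι := by
    rw [Scheme.Opens.range_ι]
    rintro _ ⟨z, rfl⟩
    have h1' : (pullback.fst P.ι qm ≫ P.ι) z ∈ P := (pullback.fst P.ι qm z).2
    refine ⟨h1', ?_⟩
    rintro ⟨q, hq, hqz⟩
    have hz : qm (pullback.snd P.ι qm z) = (pullback.fst P.ι qm ≫ P.ι) z := by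
      rw [← Scheme.Hom.comp_apply, ← pullback.condition]
    refine hq (het q.asIdeal ?_ ?_)
    · have h3 : f ∈ ((pullback.fst P.ι qm ≫ P.ι) z : PrimeSpectrum A).asIdeal := by
        rw [← hz]
        show Ideal.Quotient.mk I f ∈ ((pullback.snd P.ι qm z) : PrimeSpectrum T).asIdeal
        rw [Ideal.Quotient.eq_zero_iff_mem.2 (Ideal.mem_span_singleton_self f)]
        exact zero_mem _
      rw [← hqz] at h3
      exact h3
    · intro e
      exact h1' (by rw [← hqz]; exact PrimeSpectrum.ext e)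
  let u' : pullback P.ι qm ⟶ (U' : Scheme.{u}) := IsOpenImmersion.lift U'.ι (pullback.fst P.ι qm ≫ P.ι) hsub
  have hu' : u' ≫ U'.ι = pullback.fst P.ι qm ≫ P.ι := IsOpenImmersion.lift_fac _ _ _
  refine ⟨U', inf_le_left, u', hu', V', ⟨?_⟩⟩
  -- comparison of the two restrictions
  let oB : FEt.Cat (P₀ : Scheme.{u}) := obj (T ⊗[A] B) hBT
  have hpo : IsPullback (Spec.map (CommRingCat.ofHom
        (Algebra.TensorProduct.includeRight : B →ₐ[A] T ⊗[A] B).toRingHom))
      (sp T (T ⊗[A] B)) (sp A B) qm :=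
    (isPullback_SpecMap_of_isPushout _ _ _ _ (CommRingCat.isPushout_tensorProduct A T B)).flip
  have hbot : u' ≫ U'.ι = w.hom ≫ P₀.ι ≫ qm := by
    rw [hu', ← Category.assoc, hw, pullback.condition]
  have hA1 : IsPullback (pullback.fst (pullback.snd (sp A B) U'.ι) u' ≫ pullback.fst (sp A B) U'.ι)
      (pullback.snd (pullback.snd (sp A B) U'.ι) u') (sp A B) (u' ≫ U'.ι) :=
    (IsPullback.of_hasPullback (pullback.snd (sp A B) U'.ι) u').paste_horiz
      (IsPullback.of_hasPullback (sp A B) U'.ι)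
  have hA2 : IsPullback (pullback.fst (rest T (T ⊗[A] B)) w.hom ≫ pullback.fst (sp T (T ⊗[A] B)) P₀.ι ≫
      Spec.map (CommRingCat.ofHom (Algebra.TensorProduct.includeRight : B →ₐ[A] T ⊗[A] B).toRingHom))
      (pullback.snd (rest T (T ⊗[A] B)) w.hom) (sp A B) (u' ≫ U'.ι) := by
    have h3 := ((IsPullback.of_hasPullback (rest T (T ⊗[A] B)) w.hom).paste_horiz
      ((IsPullback.of_hasPullback (sp T (T ⊗[A] B)) P₀.ι).paste_horiz hpo))
    rw [← hbot] at h3
    exact h3
  have e1 : (FEt.restrict u').obj V' ≅ (FEt.restrict w.hom).obj oB :=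
    MorphismProperty.Over.isoMk (hA1.isoIsPullback _ _ hA2) (hA1.isoIsPullback_hom_snd _ _ hA2)
  have hB1 : IsPullback (pullback.fst (pullback.snd V₀.hom w.inv) w.hom ≫ pullback.fst V₀.hom w.inv)
      (pullback.snd (pullback.snd V₀.hom w.inv) w.hom) V₀.hom (𝟙 _) := by
    have h3 := (IsPullback.of_hasPullback (pullback.snd V₀.hom w.inv) w.hom).paste_horiz
      (IsPullback.of_hasPullback V₀.hom w.inv)
    rw [w.hom_inv_id] at h3
    exact h3
  have hB2 : IsPullback (𝟙 V₀.left) V₀.hom V₀.hom (𝟙 _) := IsPullback.of_horiz_isIso ⟨by simp⟩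
  have e2 : (FEt.restrict w.hom).obj ((FEt.restrict w.inv).obj V₀) ≅ V₀ :=
    MorphismProperty.Over.isoMk (hB1.isoIsPullback _ _ hB2) (hB1.isoIsPullback_hom_snd _ _ hB2)
  exact e1 ≪≫ (FEt.restrict w.hom).mapIso (eB ≪≫ eC) ≪≫ e2

end Groth.Agent.Pi1Alg

end
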